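import Groth.Agent.Lib.FlatDepth.Dim
import Groth.Agent.Lib.Goren.Basic
import Groth.Prelude.Def_EGA4b
import Mathlib

/-!
# Closed fibres as tensor products; depth and dimension after a surjective change of rings
-/

namespace Groth.Agent.FlatDepth

universe u

open TensorProduct IsLocalRing

section Surj

variable {A B : Type u} [CommRing A] [CommRing B] [Algebra A B]
variable (M : Type u) [AddCommGroup M] [Module A M] [Module B M] [IsScalarTower A B M]

theorem supportDim_eq_of_surjective [Module.Finite B M] (hs : Function.Surjective (algebraMap A B)) :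
    Module.supportDim A M = Module.supportDim B M := by
  have : Module.Finite A M := by
    have : Module.Finite A B := Module.Finite.of_surjective (Algebra.linearMap A B) hs
    exact Module.Finite.trans B M
  have hann : ∀ a : A, a ∈ Module.annihilator A M ↔ algebraMap A B a ∈ Module.annihilator B M :=
    fun a => by simp [Module.mem_annihilator, algebraMap_smul]
  have hmA : ∀ p : PrimeSpectrum A, p ∈ Module.support A M ↔ Module.annihilator A M ≤ p.asIdeal :=
    fun p => by rw [Module.support_eq_zeroLocus, PrimeSpectrum.mem_zeroLocus]; rfl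
  have hmB : ∀ q : PrimeSpectrum B, q ∈ Module.support B M ↔ Module.annihilator B M ≤ q.asIdeal :=
    fun p => by rw [Module.support_eq_zeroLocus, PrimeSpectrum.mem_zeroLocus]; rfl
  let f : Module.support B M → Module.support A M := fun q =>
    ⟨PrimeSpectrum.comap (algebraMap A B) q.1,
      (hmA _).2 fun a ha => (hmB _).1 q.2 ((hann a).1 ha)⟩
  have hbij : Function.Bijective f := by
    refine ⟨fun a b h => Subtype.ext (PrimeSpectrum.comap_injective_of_surjective _ hs
      (congrArg Subtype.val h)), fun p => ?_⟩
    have h := (hmA _).1 p.2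
    have hker : RingHom.ker (algebraMap A B) ≤ p.1.asIdeal := fun a ha => h ((hann a).2 (by
      rw [RingHom.mem_ker.1 ha]; exact Submodule.zero_mem _))
    obtain ⟨q, hq⟩ : p.1 ∈ Set.range (PrimeSpectrum.comap (algebraMap A B)) := by
      rw [range_comap_of_surjective _ _ hs, PrimeSpectrum.mem_zeroLocus]
      exact hker
    refine ⟨⟨q, ?_⟩, Subtype.ext hq⟩
    refine (hmB _).2 fun b hb => ?_
    obtain ⟨a, rfl⟩ := hs b
    have := h ((hann a).2 hb)
    rwa [← hq] at this
  refine (Order.krullDim_eq_of_orderIso
    ({ Equiv.ofBijective f hbij with map_rel_iff' := ?_ } : Module.support B M ≃o Module.support A M)).symm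
  intro a b
  change PrimeSpectrum.comap (algebraMap A B) a.1 ≤ PrimeSpectrum.comap (algebraMap A B) b.1 ↔ a.1 ≤ b.1
  refine ⟨fun h x hx => ?_, fun h x hx => h hx⟩
  obtain ⟨y, rfl⟩ := hs x
  exact h hx

theorem depth_eq_of_surjective [IsLocalRing A] [IsLocalRing B]
    (hs : Function.Surjective (algebraMap A B)) : LocCoh.depth A M = LocCoh.depth B M := by
  rw [LocCoh.depth, LocCoh.depth, ← GorenLib.idealDepth_map_of_surjective hs]
  congr 1
  exact IsLocalRing.eq_maximalIdeal ((Ideal.map_eq_top_or_isMaximal_of_surjective _ hs
    inferInstance).resolve_left fun h => by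
      have h1 : maximalIdeal A ≤ Ideal.comap (algebraMap A B) (maximalIdeal B) :=
        ((IsLocalRing.eq_maximalIdeal
          (Ideal.comap_isMaximal_of_surjective (K := maximalIdeal B) _ hs)).ge)
      exact (maximalIdeal.isMaximal B).ne_top (top_le_iff.1 (h ▸ Ideal.map_le_iff_le_comap.2 h1)))

end Surj

variable {R S : Type u} [CommRing R] [CommRing S] [Algebra R S] [IsLocalRing R]
variable (N : Type u) [AddCommGroup N] [Module S N] [Module R N] [IsScalarTower R S N]

/-- The closed-fibre module as a tensor product. -/
noncomputable def fibModEquiv : N ⊗[R] (R ⧸ maximalIdeal R) ≃ₗ[S] EGA4.FibMod R S N :=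
  tensorQuotEquiv N (maximalIdeal R)

variable [IsLocalRing S] [IsLocalHom (algebraMap R S)] [Module.Finite S N]

omit [Module R N] [IsScalarTower R S N] [IsLocalRing S] [IsLocalHom (algebraMap R S)] in
theorem supportDim_fibMod :
    Module.supportDim S (EGA4.FibMod R S N) =
      Module.supportDim (EGA4.FibRing R S) (EGA4.FibMod R S N) :=
  have : Module.Finite (EGA4.FibRing R S) (EGA4.FibMod R S N) :=
    Module.Finite.of_restrictScalars_finite S _ _
  supportDim_eq_of_surjective _ Ideal.Quotient.mk_surjective

omit [Module R N] [IsScalarTower R S N] [Module.Finite S N] in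
theorem depth_fibMod :
    LocCoh.depth S (EGA4.FibMod R S N) = LocCoh.depth (EGA4.FibRing R S) (EGA4.FibMod R S N) :=
  depth_eq_of_surjective _ Ideal.Quotient.mk_surjective

end Groth.Agent.FlatDepth
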