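import Groth.Agent.Lib.FlatDepth.QuotLoc
import Groth.Agent.Lib.Depth.SkOps
import Groth.Agent.Lib.FlatDepth.Fibre
import Mathlib

/-!
# Depth and support of modules normally flat along a nilpotent ideal
-/

namespace Groth.Agent.FlatDepth

universe u

open TensorProduct IsLocalRing

variable {A : Type u} [CommRing A]

/-- A finite flat `A/I`-module localizes at `p ⊇ I` to a power of `(A/I)_p`. -/
theorem exists_localized_equiv_pi [IsNoetherianRing A] (I : Ideal A) (p : Ideal A) [p.IsPrime]
    (hIp : I ≤ p) (G : Type u) [AddCommGroup G] [Module A G] [Module (A ⧸ I) G] [IsScalarTower A (A ⧸ I) G]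
    [Module.Finite A G] [Module.Flat (A ⧸ I) G] :
    ∃ r : ℕ, Nonempty (LocalizedModule p.primeCompl G ≃ₗ[Localization.AtPrime p]
      (Fin r → LocalizedModule p.primeCompl (A ⧸ I))) := by
  let J := I.map (algebraMap A (Localization.AtPrime p))
  let Bq := Localization.AtPrime p ⧸ J
  have hJ : J ≤ maximalIdeal (Localization.AtPrime p) :=
    Ideal.map_le_iff_le_comap.2 fun a ha => (IsLocalization.AtPrime.to_map_mem_maximal_iff _ p _).2 (hIp ha)
  haveI : Nontrivial Bq :=
    Ideal.Quotient.nontrivial_iff.2 (ne_top_of_le_ne_top (maximalIdeal.isMaximal _).ne_top hJ)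
  haveI : IsLocalRing Bq := IsLocalRing.of_surjective' (Ideal.Quotient.mk _) Ideal.Quotient.mk_surjective
  haveI : Module.Finite (A ⧸ I) G := Module.Finite.of_restrictScalars_finite A _ _
  haveI : Module.Free Bq (Bq ⊗[A ⧸ I] G) := Module.free_of_flat_of_isLocalRing
  let f : G →ₗ[A] Bq ⊗[A ⧸ I] G := (TensorProduct.mk (A ⧸ I) Bq G 1).restrictScalars A
  haveI h' : IsLocalizedModule (Algebra.algebraMapSubmonoid (A ⧸ I) p.primeCompl)
      (TensorProduct.mk (A ⧸ I) Bq G 1) :=
    (isLocalizedModule_iff_isBaseChange _ Bq _).2 (TensorProduct.isBaseChange _ _ _)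
  haveI : IsLocalizedModule p.primeCompl f := by
    constructor
    · intro s
      have h := IsLocalizedModule.map_units (S := Algebra.algebraMapSubmonoid (A ⧸ I) p.primeCompl)
        (TensorProduct.mk (A ⧸ I) Bq G 1) ⟨algebraMap A (A ⧸ I) s, s, s.2, rfl⟩
      rw [Module.End.isUnit_iff] at h ⊢
      convert h using 1
      ext x
      exact (algebraMap_smul (A ⧸ I) (s : A) x).symm
    · intro y
      obtain ⟨⟨x, ⟨_, s, hs, rfl⟩⟩, hy⟩ := IsLocalizedModule.surj
        (Algebra.algebraMapSubmonoid (A ⧸ I) p.primeCompl) (TensorProduct.mk (A ⧸ I) Bq G 1) y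
      refine ⟨⟨x, ⟨s, hs⟩⟩, ?_⟩
      rw [Submonoid.smul_def] at hy ⊢
      rw [← algebraMap_smul (A ⧸ I) s y]
      exact hy
    · intro x y hxy
      obtain ⟨⟨_, s, hs, rfl⟩, h⟩ := IsLocalizedModule.exists_of_eq
        (S := Algebra.algebraMapSubmonoid (A ⧸ I) p.primeCompl) (f := TensorProduct.mk (A ⧸ I) Bq G 1) hxy
      refine ⟨⟨s, hs⟩, ?_⟩
      simp only [Submonoid.smul_def] at h ⊢
      rwa [← algebraMap_smul (A ⧸ I) s x, ← algebraMap_smul (A ⧸ I) s y]
  let e₁ : LocalizedModule p.primeCompl G ≃ₗ[Localization.AtPrime p] Bq ⊗[A ⧸ I] G :=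
    (IsLocalizedModule.iso p.primeCompl f).extendScalarsOfIsLocalization p.primeCompl _
  let b := (Module.Free.chooseBasis Bq (Bq ⊗[A ⧸ I] G)).reindex (Fintype.equivFin _)
  let e₂ : (Bq ⊗[A ⧸ I] G) ≃ₗ[Localization.AtPrime p]
      (Fin (Fintype.card (Module.Free.ChooseBasisIndex Bq (Bq ⊗[A ⧸ I] G))) → Bq) :=
    b.equivFun.restrictScalars (Localization.AtPrime p)
  let q₀ : A →ₗ[A] A ⧸ I := I.mkQ
  let e₃ : LocalizedModule p.primeCompl (A ⧸ I) ≃ₗ[Localization.AtPrime p] Bq :=
    (IsLocalizedModule.iso p.primeCompl ((IsScalarTower.toAlgHom A (A ⧸ I) Bq).toLinearMap)).extendScalarsOfIsLocalization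
      p.primeCompl _
  exact ⟨_, ⟨e₁.trans (e₂.trans (LinearEquiv.piCongrRight fun _ => e₃.symm))⟩⟩

theorem depth_pi_succ {R : Type u} [CommRing R] [IsLocalRing R] [IsNoetherianRing R] (L : Type u)
    [AddCommGroup L] [Module R L] [Module.Finite R L] [Nontrivial L] (r : ℕ) :
    LocCoh.depth R (Fin (r + 1) → L) = LocCoh.depth R L := by
  refine le_antisymm ?_ (DepthLib.idealDepth_le_pi _ _)
  obtain ⟨d, hd⟩ := DepthLib.exists_depth_eq_natCast (R := R) (M := L)
  rw [hd]
  by_contra h
  rw [not_le, ← ENat.add_one_le_iff (ENat.natCast_ne_top d)] at h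
  let e : (L × (Fin r → L)) ≃ₗ[R] (Fin (r + 1) → L) :=
    Fin.consLinearEquiv R (fun _ : Fin (r + 1) => L)
  let S : CategoryTheory.ShortComplex (ModuleCat.{u} R) := CategoryTheory.ShortComplex.mk
    (ModuleCat.ofHom (LinearMap.inl R L (Fin r → L)))
    (ModuleCat.ofHom (LinearMap.snd R L (Fin r → L))) (by ext z; rfl)
  have hS : S.ShortExact := DepthLib.shortExact_of_linearMap LinearMap.inl_injective
    LinearMap.snd_surjective Function.Exact.inl_snd
  have h2 : ((d : ℕ∞) + 1) ≤ LocCoh.depth R L := by
    refine le_trans (le_min ?_ ?_) (DepthLib.idealDepth_shortExact (I := maximalIdeal R) hS).2.2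
    · change _ ≤ LocCoh.idealDepth (maximalIdeal R) (L × (Fin r → L))
      rw [DepthLib.idealDepth_congr e]
      exact h
    · gcongr
      rw [← hd]
      exact DepthLib.idealDepth_le_pi _ _
  rw [hd] at h2
  norm_cast at h2
  omega

/-- At every prime, a module normally flat along a nilpotent ideal, with full support, has the depth
and the dimension of `A/I`. -/
theorem normallyFlat_invariants [IsNoetherianRing A] (I : Ideal A) (hI : IsNilpotent I)
    (M : Type u) [AddCommGroup M] [Module A M] [Module.Finite A M]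
    (hsupp : Module.support A M = Set.univ) (hM : EGA4.IsNormallyFlat I M) (p : Ideal A) [p.IsPrime] :
    LocCoh.depth (Localization.AtPrime p) (LocalizedModule p.primeCompl M) =
        LocCoh.depth (Localization.AtPrime p) (LocalizedModule p.primeCompl (A ⧸ I)) ∧
      Module.supportDim (Localization.AtPrime p) (LocalizedModule p.primeCompl M) =
        Module.supportDim (Localization.AtPrime p) (LocalizedModule p.primeCompl (A ⧸ I)) := by
  have hIq : ∀ q : Ideal A, q.IsPrime → I ≤ q := fun q hq a ha => by
    obtain ⟨n, hn⟩ := hI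
    refine hq.mem_of_pow_mem n ?_
    have h := Ideal.pow_mem_pow ha n
    rw [hn, Ideal.zero_eq_bot, Ideal.mem_bot] at h
    rw [h]
    exact q.zero_mem
  have hfull : ∀ (L : Type u) [AddCommGroup L] [Module A L] [Module.Finite A L],
      Module.support A L = Set.univ →
      Module.supportDim (Localization.AtPrime p) (LocalizedModule p.primeCompl L) =
        ringKrullDim (Localization.AtPrime p) := by
    intro L _ _ _ hL
    refine le_antisymm (Module.supportDim_le_ringKrullDim _ _) ?_
    refine Order.krullDim_le_of_strictMono (fun q => (⟨q, ?_⟩ :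
      Module.support (Localization.AtPrime p) (LocalizedModule p.primeCompl L))) (fun _ _ h => h)
    rw [Module.mem_support_iff_exists_annihilator]
    obtain ⟨m, hm⟩ := Module.mem_support_iff_exists_annihilator.1
      (Set.ext_iff.1 hL (PrimeSpectrum.comap (algebraMap A (Localization.AtPrime p)) q) |>.2 trivial)
    refine ⟨LocalizedModule.mkLinearMap p.primeCompl L m, fun r hr => ?_⟩
    obtain ⟨x, s, rfl⟩ := IsLocalization.exists_mk'_eq p.primeCompl r
    rw [Submodule.mem_annihilator_span_singleton] at hr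
    have hx : algebraMap A (Localization.AtPrime p) x • LocalizedModule.mkLinearMap p.primeCompl L m = 0 := by
      rw [← IsLocalization.mk'_spec (Localization.AtPrime p) x s, mul_comm, mul_smul, hr, smul_zero]
    rw [algebraMap_smul, ← map_smul, IsLocalizedModule.eq_zero_iff p.primeCompl] at hx
    obtain ⟨t, ht⟩ := hx
    have h1 : (t : A) * x ∈ q.asIdeal.comap (algebraMap A (Localization.AtPrime p)) := hm (by
      rw [Submodule.mem_annihilator_span_singleton, mul_smul]; exact ht)
    rw [Ideal.mem_comap, map_mul] at h1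
    have h2 := (q.2.mem_or_mem h1).resolve_left fun h =>
      q.2.ne_top (Ideal.eq_top_of_isUnit_mem _ h (IsLocalization.map_units _ t))
    rw [← IsLocalization.mk'_spec (Localization.AtPrime p) x s] at h2
    exact (q.2.mem_or_mem h2).resolve_right fun h =>
      q.2.ne_top (Ideal.eq_top_of_isUnit_mem _ h (IsLocalization.map_units _ s))
  have hAI : Module.support A (A ⧸ I) = Set.univ := by
    rw [DepthLib.support_quotient]
    exact Set.eq_univ_of_forall fun q => hIq q.asIdeal q.2
  refine ⟨?_, (hfull M hsupp).trans (hfull (A ⧸ I) hAI).symm⟩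
  haveI : Nontrivial (LocalizedModule p.primeCompl (A ⧸ I)) :=
    (Module.mem_support_iff (p := ⟨p, ‹_›⟩)).1 ((Set.ext_iff.1 hAI _).2 trivial)
  obtain ⟨d, hd⟩ := DepthLib.exists_depth_eq_natCast (R := Localization.AtPrime p)
    (M := LocalizedModule p.primeCompl (A ⧸ I))
  rw [hd]
  -- the localized pieces of the filtration
  let X : ℕ → Submodule A M := fun n => I ^ n • ⊤
  have hG : ∀ n, ∃ r : ℕ, Nonempty (LocalizedModule p.primeCompl (X n ⧸ I • (⊤ : Submodule A (X n)))
      ≃ₗ[Localization.AtPrime p] (Fin r → LocalizedModule p.primeCompl (A ⧸ I))) := fun n => by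
    haveI : Module.Flat (A ⧸ I) (X n ⧸ I • (⊤ : Submodule A (X n))) := hM n
    exact exists_localized_equiv_pi I p (hIq p ‹_›) _
  have hle : ∀ n, X (n + 1) ≤ X n := fun n => Submodule.smul_mono_left (Ideal.pow_le_pow_right n.le_succ)
  let Y : ℕ → Type u := fun n => LocalizedModule p.primeCompl (X n)
  let F : ∀ n, Y (n + 1) →ₗ[Localization.AtPrime p] Y n := fun n =>
    LocalizedModule.map p.primeCompl (Submodule.inclusion (hle n))
  let Gm : ∀ n, Y n →ₗ[Localization.AtPrime p]
      LocalizedModule p.primeCompl (X n ⧸ I • (⊤ : Submodule A (X n))) := fun n =>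
    LocalizedModule.map p.primeCompl (I • (⊤ : Submodule A (X n))).mkQ
  have hFi : ∀ n, Function.Injective (F n) := fun n =>
    LocalizedModule.map_injective _ _ (Submodule.inclusion_injective _)
  have hGs : ∀ n, Function.Surjective (Gm n) := fun n =>
    LocalizedModule.map_surjective _ _ (Submodule.mkQ_surjective _)
  have hex : ∀ n, Function.Exact (F n) (Gm n) := fun n => LocalizedModule.map_exact _ _ _ (by
    rw [LinearMap.exact_iff, Submodule.ker_mkQ, Submodule.range_inclusion]
    refine Submodule.map_injective_of_injective (X n).injective_subtype ?_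
    rw [Submodule.map_smul'', Submodule.map_top, Submodule.range_subtype, Submodule.map_comap_subtype,
      inf_eq_right.2 (hle n)]
    simp only [X]
    rw [← Submodule.mul_smul, ← pow_succ'])
  obtain ⟨N, hN⟩ := hI
  have hY0 : Subsingleton (Y N) := by
    haveI : Subsingleton (X N) := by
      rw [Submodule.subsingleton_iff_eq_bot]
      simp [X, hN]
    exact inferInstanceAs (Subsingleton (LocalizedModule p.primeCompl (X N)))
  have hge : ∀ k n, n + k = N → (d : ℕ∞) ≤ LocCoh.depth (Localization.AtPrime p) (Y n) := by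
    intro k
    induction k with
    | zero =>
      intro n hn
      rw [Nat.add_zero] at hn
      subst hn
      exact le_top.trans_eq (DepthLib.idealDepth_of_smul_top_eq_top (Subsingleton.elim _ _)).symm
    | succ k ih =>
      intro n hn
      refine le_trans (le_min (ih (n + 1) (by omega)) ?_)
        (DepthLib.idealDepth_shortExact (I := maximalIdeal (Localization.AtPrime p))
          (DepthLib.shortExact_of_linearMap (hFi n) (hGs n) (hex n))).1
      obtain ⟨r, ⟨e⟩⟩ := hG n
      change _ ≤ LocCoh.idealDepth (maximalIdeal (Localization.AtPrime p)) (LocalizedModule p.primeCompl _)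
      rw [DepthLib.idealDepth_congr e, ← hd]
      exact DepthLib.idealDepth_le_pi _ _
  have hY0nt : Nontrivial (Y 0) := by
    haveI : Nontrivial (LocalizedModule p.primeCompl M) :=
      (Module.mem_support_iff (p := ⟨p, ‹_›⟩)).1 ((Set.ext_iff.1 hsupp _).2 trivial)
    exact (IsLocalizedModule.mapEquiv p.primeCompl (LocalizedModule.mkLinearMap p.primeCompl (X 0))
      (LocalizedModule.mkLinearMap p.primeCompl M) (Localization.AtPrime p)
      ((LinearEquiv.ofEq _ _ (by simp [X])).trans Submodule.topEquiv)).toEquiv.nontrivial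
  obtain ⟨m, hmN, hYm, hYm'⟩ : ∃ m, m < N ∧ Nontrivial (Y m) ∧ Subsingleton (Y (m + 1)) := by
    classical
    have hex' : ∃ m, Subsingleton (Y m) := ⟨N, hY0⟩
    obtain ⟨m, hm⟩ : ∃ m, Nat.find hex' = m + 1 := Nat.exists_eq_succ_of_ne_zero fun h => by
      have h' := Nat.find_spec hex'
      rw [h] at h'
      exact not_nontrivial_iff_subsingleton.2 h' hY0nt
    refine ⟨m, ?_, not_subsingleton_iff_nontrivial.1 (Nat.find_min hex' (by omega)), hm ▸ Nat.find_spec hex'⟩
    have := Nat.find_le (h := hex') hY0
    omega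
  have hle' : ∀ n, n ≤ m → LocCoh.depth (Localization.AtPrime p) (Y n) ≤ d := by
    have hbase : LocCoh.depth (Localization.AtPrime p) (Y m) ≤ d := by
      have hbij : Function.Bijective (Gm m) := ⟨by
        rw [← LinearMap.ker_eq_bot, (LinearMap.exact_iff.1 (hex m)), LinearMap.range_eq_bot]
        exact Subsingleton.elim _ _, hGs m⟩
      obtain ⟨r, ⟨e⟩⟩ := hG m
      let e' : Y m ≃ₗ[Localization.AtPrime p] (Fin r → LocalizedModule p.primeCompl (A ⧸ I)) :=
        (LinearEquiv.ofBijective (Gm m) hbij).trans e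
      haveI := e'.symm.toEquiv.nontrivial
      cases r with
      | zero =>
        exact False.elim (not_subsingleton (Fin 0 → LocalizedModule p.primeCompl (A ⧸ I)) inferInstance)
      | succ r => exact le_of_eq ((DepthLib.idealDepth_congr e').trans ((depth_pi_succ _ r).trans hd))
    intro n hn
    induction hn' : m - n generalizing n with
    | zero => rwa [show n = m by omega]
    | succ k ih =>
      have h1 := ih (n + 1) (by omega) (by omega)
      by_contra hlt
      rw [not_le, ← ENat.add_one_le_iff (ENat.natCast_ne_top d)] at hlt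
      refine absurd (le_trans (le_min hlt ?_)
        ((DepthLib.idealDepth_shortExact (I := maximalIdeal (Localization.AtPrime p))
          (DepthLib.shortExact_of_linearMap (hFi n) (hGs n) (hex n))).2.2.trans h1)) ?_
      · gcongr
        obtain ⟨r, ⟨e⟩⟩ := hG n
        change _ ≤ LocCoh.idealDepth (maximalIdeal (Localization.AtPrime p)) (LocalizedModule p.primeCompl _)
        rw [DepthLib.idealDepth_congr e, ← hd]
        exact DepthLib.idealDepth_le_pi _ _
      · rw [not_le]; exact_mod_cast Nat.lt_succ_self d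
  rw [← le_antisymm (hle' 0 (Nat.zero_le _)) (hge N 0 (by omega))]
  exact (DepthLib.idealDepth_congr (IsLocalizedModule.mapEquiv p.primeCompl
    (LocalizedModule.mkLinearMap p.primeCompl (X 0)) (LocalizedModule.mkLinearMap p.primeCompl M)
    (Localization.AtPrime p) ((LinearEquiv.ofEq _ _ (by simp [X])).trans Submodule.topEquiv))).symm

end Groth.Agent.FlatDepth
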