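import Groth.Agent.Lib.FlatDepth.Regular
import Groth.Agent.Lib.Depth.CM
import Mathlib

/-!
# Depth of `N ⊗ M` for a local homomorphism and `N` flat over the base
-/

namespace Groth.Agent.FlatDepth

universe u

open TensorProduct IsLocalRing
open scoped Pointwise

variable {R S : Type u} [CommRing R] [CommRing S] [Algebra R S]

/-- `N ⊗ (R / J) = N / J N`. -/
noncomputable def tensorQuotEquiv (N : Type u) [AddCommGroup N] [Module S N] [Module R N]
    [IsScalarTower R S N] (J : Ideal R) :
    N ⊗[R] (R ⧸ J) ≃ₗ[S] N ⧸ (J.map (algebraMap R S) • (⊤ : Submodule S N)) :=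
  let g : N →ₗ[S] N ⊗[R] (R ⧸ J) :=
    mapRight J.mkQ ∘ₗ (AlgebraTensorModule.rid R S N).symm.toLinearMap
  have hg : ∀ n, g n = n ⊗ₜ[R] Ideal.Quotient.mk J 1 := fun n => by simp [g, mapRight]
  have hs : Function.Surjective g := fun z => by
    induction z with
    | zero => exact ⟨0, map_zero _⟩
    | tmul n r =>
      obtain ⟨r, rfl⟩ := Ideal.Quotient.mk_surjective r
      refine ⟨r • n, ?_⟩
      rw [hg, smul_tmul]
      congr 1
      rw [Algebra.smul_def, Ideal.Quotient.algebraMap_eq, ← map_mul, mul_one]
    | add a b ha hb =>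
      obtain ⟨x, rfl⟩ := ha
      obtain ⟨y, rfl⟩ := hb
      exact ⟨x + y, map_add _ _ _⟩
  have hk : LinearMap.ker g = J.map (algebraMap R S) • (⊤ : Submodule S N) := by
    refine Submodule.restrictScalars_injective R _ _ ?_
    rw [Ideal.smul_restrictScalars, Submodule.restrictScalars_top]
    ext n
    rw [Submodule.restrictScalars_mem, LinearMap.mem_ker, hg,
      ← LinearEquiv.map_eq_zero_iff (TensorProduct.tensorQuotEquivQuotSMul N J),
      TensorProduct.tensorQuotEquivQuotSMul_tmul_mk, one_smul, Submodule.Quotient.mk_eq_zero]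
  ((Submodule.quotEquivOfEq _ _ hk.symm).trans (g.quotKerEquivOfSurjective hs)).symm

variable [IsLocalRing R] [IsLocalRing S] [IsLocalHom (algebraMap R S)]
variable {N : Type u} [AddCommGroup N] [Module S N] [Module R N] [IsScalarTower R S N]
  [Module.Finite S N]

variable (S) in
include S in
theorem nontrivial_fibre [Nontrivial N] : Nontrivial (N ⊗[R] (R ⧸ maximalIdeal R)) := by
  rw [(tensorQuotEquiv (S := S) N (maximalIdeal R)).toEquiv.nontrivial_congr,
    Submodule.Quotient.nontrivial_iff]
  exact DepthLib.smul_top_ne_top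
    (ne_top_of_le_ne_top (maximalIdeal.isMaximal S).ne_top (map_maximalIdeal_le _))

variable [IsNoetherianRing S] [Module.Flat R N]

/-- An element regular on the closed fibre is regular on `N` with flat quotient. -/
theorem regular_flat_of_regular_fibre {x : S}
    (h : IsSMulRegular (N ⊗[R] (R ⧸ maximalIdeal R)) x) :
    IsSMulRegular N x ∧ Module.Flat R (QuotSMulTop x N) := by
  let u : N →ₗ[R] N := (LinearMap.lsmul S N x).restrictScalars R
  have hcomm : ∀ z : (R ⧸ maximalIdeal R) ⊗[R] N,
      TensorProduct.comm R _ _ (u.lTensor _ z) = x • TensorProduct.comm R _ _ z := fun z => by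
    induction z with
    | zero => simp
    | tmul r n => simp [u, TensorProduct.smul_tmul']
    | add a b ha hb => simp [map_add, smul_add, ha, hb]
  have hu0 : Function.Injective (u.lTensor (R ⧸ maximalIdeal R)) := fun a b hab =>
    (TensorProduct.comm R _ _).injective (h (by
      simpa only [hcomm] using congrArg (TensorProduct.comm R (R ⧸ maximalIdeal R) N) hab))
  have key : ∀ (I : Ideal R) (z : N), u z ∈ I • (⊤ : Submodule R N) → z ∈ I • (⊤ : Submodule R N) := by
    intro I
    refine FlatH4.mem_smul_of_map_mem_smul_of_separated (maximalIdeal R) u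
      (fun V _ _ hV => FlatH4.lTensor_injective_of_isMaximal _ u hu0 V hV) I fun z hz => ?_
    let J := I.map (algebraMap R S) • (⊤ : Submodule S N)
    have hJ : I • (⊤ : Submodule R N) = J.restrictScalars R := by
      rw [Ideal.smul_restrictScalars, Submodule.restrictScalars_top]
    rw [hJ, Submodule.restrictScalars_mem, ← Submodule.Quotient.mk_eq_zero, ← Submodule.mem_bot S,
      ← Ideal.iInf_pow_smul_eq_bot_of_le_jacobson
        (M := N ⧸ J) ((maximalIdeal R).map (algebraMap R S))
        ((map_maximalIdeal_le _).trans (maximalIdeal_le_jacobson _)), Submodule.mem_iInf]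
    intro n
    have h2 := hz n
    rw [Submodule.sup_smul, hJ, Submodule.mem_sup] at h2
    obtain ⟨a, ha, b, hb, rfl⟩ := h2
    rw [Submodule.Quotient.mk_add, (Submodule.Quotient.mk_eq_zero J).2 ha, zero_add, ← Ideal.map_pow]
    have hb' : b ∈ ((maximalIdeal R ^ n).map (algebraMap R S) • (⊤ : Submodule S N)).restrictScalars R := by
      rwa [Ideal.smul_restrictScalars, Submodule.restrictScalars_top]
    have := Submodule.mem_map_of_mem (f := J.mkQ) hb'
    rw [Submodule.map_smul'', Submodule.map_top, Submodule.range_mkQ] at this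
    exact this
  refine ⟨FlatH4.injective_of_map_mem_smul u key, ?_⟩
  have : Module.Flat R (N ⧸ LinearMap.range u) := FlatH4.flat_quotient_range u key
  have heq : LinearMap.range u = (x • (⊤ : Submodule S N)).restrictScalars R := by
    ext z
    simp [u, Submodule.mem_smul_pointwise_iff_exists]
  exact Module.Flat.of_linearEquiv ((Submodule.quotEquivOfEq _ _ heq).trans
    (Submodule.Quotient.restrictScalarsEquiv R (x • (⊤ : Submodule S N)))).symm

omit [IsLocalRing R] [IsLocalRing S] [IsLocalHom (algebraMap R S)] [IsNoetherianRing S]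
  [Module.Finite S N] [Module.Flat R N] in
theorem comm_smul (x : S) (M : Type u) [AddCommGroup M] [Module R M] (z : N ⊗[R] M) :
    ((LinearMap.lsmul S N x).restrictScalars R).lTensor M (TensorProduct.comm R N M z) =
      TensorProduct.comm R N M (x • z) := by
  induction z with
  | zero => simp
  | tmul n m => simp [TensorProduct.smul_tmul']
  | add a b ha hb => simp [map_add, smul_add, ha, hb]

omit [IsLocalRing R] [IsLocalRing S] [IsLocalHom (algebraMap R S)] [IsNoetherianRing S]
  [Module.Finite S N] [Module.Flat R N] in
theorem isSMulRegular_tensor_of_flat_quot {x : S} (hreg : IsSMulRegular N x)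
    [Module.Flat R (QuotSMulTop x N)] (M : Type u) [AddCommGroup M] [Module R M] :
    IsSMulRegular (N ⊗[R] M) x := by
  let p := Finsupp.linearCombination R (id : M → M)
  let g₁ : N →ₗ[R] N := (LinearMap.lsmul S N x).restrictScalars R
  let g₂ : N →ₗ[R] QuotSMulTop x N :=
    ((x • (⊤ : Submodule S N)).mkQ).restrictScalars R
  have hex : Function.Exact g₁ g₂ := exact_smul_mkQ (A := S) (L := N) x
  have hsurj : Function.Surjective g₂ := Submodule.mkQ_surjective (x • (⊤ : Submodule S N))
  have h1 : Function.Injective ((LinearMap.ker p).subtype.rTensor (QuotSMulTop x N)) :=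
    Module.Flat.rTensor_preserves_injective_linearMap _ (LinearMap.ker p).injective_subtype
  have hp : Function.Exact (LinearMap.ker p).subtype p := LinearMap.exact_subtype_ker_map p
  have hps : Function.Surjective p := Finsupp.linearCombination_surjective R Function.surjective_id
  have hg : Function.Injective (g₁.lTensor (M →₀ R)) :=
    Module.Flat.lTensor_preserves_injective_linearMap g₁ hreg
  have hinj : Function.Injective (g₁.lTensor M) :=
    lTensor_injective_of_exact_of_exact_of_rTensor_injective (R := R) (M₁ := ↥(LinearMap.ker p))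
      (M₂ := M →₀ R) (M₃ := M) hp hps hex hsurj h1 hg
  intro a b hab
  apply (TensorProduct.comm R N M).injective
  apply hinj
  rw [comm_smul, comm_smul]
  exact congrArg _ hab

/-- An element regular on the closed fibre is regular on `N ⊗ M`. -/
theorem isSMulRegular_left {x : S} (h : IsSMulRegular (N ⊗[R] (R ⧸ maximalIdeal R)) x)
    (M : Type u) [AddCommGroup M] [Module R M] : IsSMulRegular (N ⊗[R] M) x :=
  have := (regular_flat_of_regular_fibre h).2
  isSMulRegular_tensor_of_flat_quot (regular_flat_of_regular_fibre h).1 M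

variable [IsNoetherianRing R]

/-- `depth (N ⊗ M) = depth M + depth (N / 𝔪 N)` for `N` flat over the base. -/
theorem depth_tensor (M : Type u) [AddCommGroup M] [Module R M] [Module.Finite R M] :
    LocCoh.depth S (N ⊗[R] M) =
      LocCoh.depth R M + LocCoh.depth S (N ⊗[R] (R ⧸ maximalIdeal R)) := by
  rcases subsingleton_or_nontrivial N with hN | hN
  · have : ∀ (L : Type u) [AddCommGroup L] [Module R L], Subsingleton (N ⊗[R] L) := fun L _ _ =>
      inferInstance
    simp [LocCoh.depth, DepthLib.idealDepth_of_smul_top_eq_top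
      (Subsingleton.elim _ (⊤ : Submodule S (N ⊗[R] M))),
      DepthLib.idealDepth_of_smul_top_eq_top
      (Subsingleton.elim _ (⊤ : Submodule S (N ⊗[R] (R ⧸ maximalIdeal R))))]
  rcases subsingleton_or_nontrivial M with hM | hM
  · simp [LocCoh.depth, DepthLib.idealDepth_of_smul_top_eq_top
      (Subsingleton.elim _ (⊤ : Submodule S (N ⊗[R] M))),
      DepthLib.idealDepth_of_smul_top_eq_top (Subsingleton.elim _ (⊤ : Submodule R M))]
  have : Nontrivial (N ⊗[R] (R ⧸ maximalIdeal R)) := nontrivial_fibre S
  obtain ⟨n, hn⟩ := DepthLib.exists_depth_eq_natCast (R := S) (M := N ⊗[R] (R ⧸ maximalIdeal R))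
  rw [hn]
  clear hM
  induction n generalizing N with
  | zero =>
    rcases subsingleton_or_nontrivial M with hM | hM
    · simp [LocCoh.depth, DepthLib.idealDepth_of_smul_top_eq_top
        (Subsingleton.elim _ (⊤ : Submodule S (N ⊗[R] M))),
        DepthLib.idealDepth_of_smul_top_eq_top (Subsingleton.elim _ (⊤ : Submodule R M))]
    obtain ⟨k, hk⟩ := DepthLib.exists_depth_eq_natCast (R := R) (M := M)
    rw [hk]
    induction k generalizing M with
    | zero =>
      obtain ⟨z, hz, hzm⟩ := DepthLib.exists_ne_zero_smul_eq_zero (R := R) (I := maximalIdeal R) (M := M) fun r hr hreg => by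
        have := DepthLib.one_le_idealDepth_of_regular hr hreg
        rw [LocCoh.depth] at hk
        rw [hk] at this
        simp at this
      obtain ⟨w, hw, hwm⟩ := DepthLib.exists_ne_zero_smul_eq_zero (R := S)
        (I := maximalIdeal S) (M := N ⊗[R] (R ⧸ maximalIdeal R)) fun r hr hreg => by
        have := DepthLib.one_le_idealDepth_of_regular hr hreg
        rw [LocCoh.depth] at hn
        rw [hn] at this
        simp at this
      let φ : (R ⧸ maximalIdeal R) →ₗ[R] M :=
        (maximalIdeal R).liftQ (LinearMap.toSpanSingleton R M z) fun r hr => hzm r hr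
      have hφ : Function.Injective φ := by
        rw [← LinearMap.ker_eq_bot]
        refine Submodule.ker_liftQ_eq_bot _ _ _ fun r hr => ?_
        by_contra h
        rw [mem_maximalIdeal, mem_nonunits_iff, not_not] at h
        exact hz ((h.smul_eq_zero).1 hr)
      have hw' : mapRight (S := S) φ w ≠ 0 := fun h =>
        hw (mapRight_injective hφ (h.trans (map_zero _).symm))
      have : Nontrivial (N ⊗[R] M) := ⟨⟨_, _, hw'⟩⟩
      simp only [Nat.cast_zero, add_zero]
      refine DepthLib.idealDepth_eq_zero_of_forall_not_isSMulRegular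
        (DepthLib.smul_top_ne_top (maximalIdeal.isMaximal S).ne_top) fun r hr hreg => hw' (hreg ?_)
      change r • mapRight (S := S) φ w = r • 0
      rw [← map_smul, hwm r hr, map_zero, smul_zero]
    | succ k ih =>
      obtain ⟨y, hy, hreg⟩ := DepthLib.exists_isSMulRegular_of_one_le_idealDepth
        (DepthLib.smul_top_ne_top (M := M) (maximalIdeal.isMaximal R).ne_top)
        (by rw [← LocCoh.depth, hk]; simp)
      have hy' : algebraMap R S y ∈ maximalIdeal S := map_nonunit _ y hy
      have : Nontrivial (QuotSMulTop y M) := Submodule.Quotient.nontrivial_iff.2 (by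
        rw [← Submodule.ideal_span_singleton_smul]
        exact DepthLib.smul_top_ne_top
          (ne_top_of_le_ne_top (maximalIdeal.isMaximal R).ne_top ((Ideal.span_singleton_le_iff_mem _).2 hy)))
      have hk' : LocCoh.depth R (QuotSMulTop y M) = k :=
        ENat.add_left_injective_of_ne_top ENat.one_ne_top
          ((DepthLib.idealDepth_quotSMulTop_add_one hy hreg).trans hk)
      rw [LocCoh.depth, ← DepthLib.idealDepth_quotSMulTop_add_one hy' (isSMulRegular_right hreg),
        DepthLib.idealDepth_congr (quotRightEquiv y), ← LocCoh.depth,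
        ih (QuotSMulTop y M) inferInstance hk']
      push_cast
      ring
  | succ n ih =>
    obtain ⟨x, hx, hreg⟩ := DepthLib.exists_isSMulRegular_of_one_le_idealDepth
      (DepthLib.smul_top_ne_top (M := N ⊗[R] (R ⧸ maximalIdeal R)) (maximalIdeal.isMaximal S).ne_top)
      (by rw [← LocCoh.depth, hn]; simp)
    have : Nontrivial (QuotSMulTop x N) := Submodule.Quotient.nontrivial_iff.2 (by
      rw [← Submodule.ideal_span_singleton_smul]
      exact DepthLib.smul_top_ne_top
        (ne_top_of_le_ne_top (maximalIdeal.isMaximal S).ne_top ((Ideal.span_singleton_le_iff_mem _).2 hx)))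
    have := (regular_flat_of_regular_fibre hreg).2
    have hn' : LocCoh.depth S ((QuotSMulTop x N) ⊗[R] (R ⧸ maximalIdeal R)) = n := by
      rw [LocCoh.depth, ← DepthLib.idealDepth_congr (quotLeftEquiv x)]
      exact ENat.add_left_injective_of_ne_top ENat.one_ne_top
        ((DepthLib.idealDepth_quotSMulTop_add_one hx hreg).trans hn)
    rw [LocCoh.depth, ← DepthLib.idealDepth_quotSMulTop_add_one hx (isSMulRegular_left hreg M),
      DepthLib.idealDepth_congr (quotLeftEquiv x), ← LocCoh.depth,
      ih inferInstance (nontrivial_fibre S) hn']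
    push_cast
    ring

end Groth.Agent.FlatDepth
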