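import Groth.Agent.Lib.DivDesc12.Fibre
import Groth.Agent.Lib.FlatDepth.Fibre
import Groth.Agent.Lib.SMT.CMBasic
import Groth.Prelude.Def_CInt
import Mathlib

/-!
# Depth and dimension of stalks along flat morphisms
-/

set_option backward.isDefEq.respectTransparency false

universe u

open CategoryTheory AlgebraicGeometry

namespace Groth.Agent.FlatDepth

variable {X S : Scheme.{u}} (f : X ⟶ S)

theorem fiber_stalk_aux (x : X) {y : S} (hx : f x = y) (h : f x ⤳ y) (z : f.fiber y)
    (hz : f.fiberι y z = x) :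
    Nonempty ((X.presheaf.stalk x ⧸ (IsLocalRing.maximalIdeal (S.presheaf.stalk y)).map (DivDesc12.σ f x h))
      ≃+* (f.fiber y).presheaf.stalk z) := by
  subst hz
  let q : X.presheaf.stalk (f.fiberι y z) →+* (f.fiber y).presheaf.stalk z :=
    ((f.fiberι y).stalkMap z).hom
  have hk : RingHom.ker q =
      (IsLocalRing.maximalIdeal (S.presheaf.stalk y)).map (DivDesc12.σ f (f.fiberι y z) h) :=
    Ideal.ext fun b => DivDesc12.stalkMap_fiberι_eq_zero_iff f _ hx h z rfl b
  exact ⟨(Ideal.quotEquivOfEq hk.symm).trans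
    (RingHom.quotientKerEquivOfSurjective ((f.fiberι y).stalkMap_surjective z))⟩

/-- The local ring of the fibre is the closed fibre of the map of local rings. -/
theorem nonempty_fiberStalkEquiv (x : X) :
    Nonempty ((X.presheaf.stalk x ⧸
      (IsLocalRing.maximalIdeal (S.presheaf.stalk (f x))).map (f.stalkMap x).hom) ≃+* CInt.fiberStalk f x) := by
  obtain ⟨e⟩ := fiber_stalk_aux f x rfl (specializes_rfl) (f.asFiber x) (f.fiberι_asFiber x)
  have hσ : DivDesc12.σ f x specializes_rfl = (f.stalkMap x).hom := RingHom.ext fun a => by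
    show f.stalkMap x (DivDesc12.sp specializes_rfl a) = _
    rw [DivDesc12.sp_self]
  exact ⟨(Ideal.quotEquivOfEq (by rw [hσ])).trans e⟩

open TensorProduct IsLocalRing in
theorem ring_fibre_invariants {A B : Type u} [CommRing A] [CommRing B] [IsLocalRing A] [IsLocalRing B]
    [IsNoetherianRing A] [IsNoetherianRing B] [Algebra A B] [IsLocalHom (algebraMap A B)] [Module.Flat A B] :
    LocCoh.depth B B = LocCoh.depth A A + LocCoh.depth (EGA4.FibRing A B) (EGA4.FibRing A B) ∧
      ringKrullDim B = ringKrullDim A + ringKrullDim (EGA4.FibRing A B) := by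
  let eF : B ⊗[A] (A ⧸ maximalIdeal A) ≃ₗ[B] EGA4.FibRing A B :=
    (fibModEquiv B).trans (Submodule.quotEquivOfEq _ _ (by rw [Ideal.smul_eq_mul, Ideal.mul_top]))
  have hs : Function.Surjective (algebraMap B (EGA4.FibRing A B)) := Ideal.Quotient.mk_surjective
  constructor
  · have h0 : LocCoh.depth B B = LocCoh.depth B (B ⊗[A] A) :=
      (DepthLib.idealDepth_congr (AlgebraTensorModule.rid A B B)).symm
    rw [h0, ← depth_eq_of_surjective _ hs, depth_tensor]
    congr 1
    exact DepthLib.idealDepth_congr eF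
  · rw [← Module.supportDim_self_eq_ringKrullDim (R := B), ← Module.supportDim_self_eq_ringKrullDim (R := A),
      ← Module.supportDim_eq_of_equiv (AlgebraTensorModule.rid A B B), supportDim_tensor,
      Module.supportDim_eq_of_equiv eF, supportDim_eq_of_surjective _ hs,
      Module.supportDim_self_eq_ringKrullDim (R := EGA4.FibRing A B)]

/-- Depth and dimension of the stalks of a flat morphism. -/
theorem stalk_invariants [IsLocallyNoetherian X] [IsLocallyNoetherian S] [Flat f] (x : X) :
    LocCoh.depth (X.presheaf.stalk x) (X.presheaf.stalk x) =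
        LocCoh.depth (S.presheaf.stalk (f x)) (S.presheaf.stalk (f x)) +
          LocCoh.depth (CInt.fiberStalk f x) (CInt.fiberStalk f x) ∧
      ringKrullDim (X.presheaf.stalk x) =
        ringKrullDim (S.presheaf.stalk (f x)) + ringKrullDim (CInt.fiberStalk f x) := by
  letI := (f.stalkMap x).hom.toAlgebra
  haveI : Module.Flat (S.presheaf.stalk (f x)) (X.presheaf.stalk x) := Flat.stalkMap f x
  haveI : IsLocalHom (algebraMap (S.presheaf.stalk (f x)) (X.presheaf.stalk x)) :=
    f.toLRSHom.prop x
  obtain ⟨h1, h2⟩ := ring_fibre_invariants (A := S.presheaf.stalk (f x)) (B := X.presheaf.stalk x)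
  obtain ⟨e₀⟩ := nonempty_fiberStalkEquiv f x
  let e : EGA4.FibRing (S.presheaf.stalk (f x)) (X.presheaf.stalk x) ≃+* CInt.fiberStalk f x := e₀
  exact ⟨h1.trans (by rw [← SMT.depth_eq_of_ringEquiv e]), h2.trans (by rw [ringKrullDim_eq_of_ringEquiv e])⟩

end Groth.Agent.FlatDepth
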