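import Groth.Agent.Lib.FlatDepth.RingFib
import Groth.Agent.Lib.RegLoc.UFD
import Mathlib

/-!
# Regular implies normal and reduced, also geometrically
-/

namespace Groth.Agent.FlatDepth

universe u

open TensorProduct

theorem isNormalRing_of_isRegularRing (R : Type u) [CommRing R] [IsRegularRing R] : EGA4.IsNormalRing R := by
  intro p _
  haveI := RegLoc.isDomain (Localization.AtPrime p)
  haveI := RegLoc.ufd_of_isRegularLocalRing (Localization.AtPrime p)
  exact ⟨inferInstance, inferInstance⟩

theorem isNormalHom_of_isRegularHom {A B : Type u} [CommRing A] [CommRing B] [Algebra A B]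
    (h : CAlg.IsRegularHom A B) : EGA4.IsNormalHom A B :=
  ⟨h.1, fun p _ k' _ _ hk' => @isNormalRing_of_isRegularRing _ _ ((h.2 p).2 k' hk')⟩

theorem isReduced_of_isNormalRing (R : Type u) [CommRing R] (h : EGA4.IsNormalRing R) : IsReduced R :=
  isReduced_ofLocalizationMaximal _ fun q _ => by
    haveI := (h q).1
    infer_instance

theorem geomReduced_of_geomNormal {k S : Type u} [Field k] [CommRing S] [Algebra k S]
    (h : EGA4.IsGeomNormal k S) : Algebra.IsGeometricallyReduced k S := by
  rw [Algebra.isGeometricallyReduced_field_iff]
  haveI : IsReduced (S ⊗[k] AlgebraicClosure k) := by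
    refine IsReduced.tensorProduct_of_flat_of_forall_fg fun L hL => ?_
    haveI : Algebra.FiniteType k L := L.fg_iff_finiteType.1 hL
    haveI : Algebra.IsIntegral k L := ⟨fun x => (isIntegral_algHom_iff L.val Subtype.val_injective).1
      (Algebra.IsIntegral.isIntegral _)⟩
    haveI : Module.Finite k L := Algebra.IsIntegral.finite
    letI : Field L := (L.isField_of_algebraic).toField
    haveI := isReduced_of_isNormalRing _ (h L inferInstance)
    exact isReduced_of_injective (Algebra.TensorProduct.comm k S L) (AlgEquiv.injective _)
  exact isReduced_of_injective (Algebra.TensorProduct.comm k (AlgebraicClosure k) S) (AlgEquiv.injective _)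

theorem geomReduced_of_geomRegular {k S : Type u} [Field k] [CommRing S] [Algebra k S]
    (h : CAlg.IsGeometricallyRegular k S) : Algebra.IsGeometricallyReduced k S :=
  geomReduced_of_geomNormal fun k' _ _ hk' => @isNormalRing_of_isRegularRing _ _ (h k' hk')

end Groth.Agent.FlatDepth
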