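import Groth.Agent.Lib.FlatDepth.GeomFib
import Groth.Agent.Lib.FlatDepth.RegNormal
import Mathlib

/-!
# Regularity of `κ ⊗_k K` for separably generated `K`, and extension of the base field
-/

namespace Groth.Agent.FlatDepth

universe u

open IsLocalRing TensorProduct

theorem isRegularRing_of_isLocalization {R S : Type u} [CommRing R] [CommRing S] [Algebra R S]
    (M : Submonoid R) [IsLocalization M S] [IsRegularRing R] : IsRegularRing S := by
  haveI := IsLocalization.isNoetherianRing M S inferInstance
  rw [isRegularRing_iff]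
  intro q _
  haveI : IsLocalization.AtPrime (Localization.AtPrime q) (q.comap (algebraMap R S)) :=
    IsLocalization.isLocalization_isLocalization_atPrime_isLocalization M (Localization.AtPrime q) q
  exact IsRegularLocalRing.of_ringEquiv (IsLocalization.algEquiv (q.comap (algebraMap R S)).primeCompl
    (Localization.AtPrime (q.comap (algebraMap R S))) (Localization.AtPrime q)).toRingEquiv

/-- Finite reduced algebras over fields are regular. -/
theorem isRegularRing_of_finite_reduced (K : Type u) [Field K] (C : Type u) [CommRing C] [Algebra K C]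
    [Module.Finite K C] [IsReduced C] : IsRegularRing C := by
  haveI : IsNoetherianRing C := IsNoetherianRing.of_finite K C
  haveI : IsArtinianRing C := isArtinian_of_tower K inferInstance
  rw [isRegularRing_iff]
  intro q _
  haveI : IsReduced (Localization.AtPrime q) :=
    isReduced_localizationPreserves q.primeCompl (Localization.AtPrime q) ‹IsReduced C›
  letI : Field (Localization.AtPrime q) := (Ring.KrullDimLE.isField_of_isReduced).toField
  infer_instance

section Sep

variable {F : Type u} [Field F] (R : Type u) [CommRing R] [Algebra F R] (L : Type u) [Field L] [Algebra F L]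
  [Module.Finite F L] [Algebra.IsSeparable F L]

/-- A finite separable extension preserves regularity. -/
theorem isRegularRing_tensor_separable [IsRegularRing R] : IsRegularRing (R ⊗[F] L) := by
  haveI := IsNoetherianRing.of_finite R (R ⊗[F] L)
  refine regular_of_flat_fibres (A := R) (B := R ⊗[F] L) fun p _ => ?_
  haveI := Algebra.FormallyUnramified.of_isSeparable F L
  haveI : IsReduced (p.ResidueField ⊗[F] L) := Algebra.FormallyUnramified.isReduced_of_field p.ResidueField _
  haveI := isRegularRing_of_finite_reduced p.ResidueField (p.ResidueField ⊗[F] L)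
  exact IsRegularRing.of_ringEquiv
    (Algebra.TensorProduct.cancelBaseChange F R p.ResidueField p.ResidueField L).symm.toRingEquiv

end Sep

section PTrans

variable {k : Type u} [Field k] (κ : Type u) [CommRing κ] [Algebra k κ] [IsRegularRing κ]

/-- A purely transcendental extension preserves regularity. -/
theorem isRegularRing_tensor_fractionRing (σ : Type u) [Finite σ] :
    IsRegularRing (κ ⊗[k] FractionRing (MvPolynomial σ k)) := by
  haveI : IsRegularRing (MvPolynomial σ k ⊗[k] κ) := IsRegularRing.of_ringEquiv
    ((MvPolynomial.algebraTensorAlgEquiv (σ := σ) k κ).symm.toRingEquiv.trans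
      (Algebra.TensorProduct.comm k κ (MvPolynomial σ k)).toRingEquiv)
  haveI := isRegularRing_of_isLocalization (R := MvPolynomial σ k ⊗[k] κ)
    (S := (MvPolynomial σ k ⊗[k] κ) ⊗[MvPolynomial σ k] FractionRing (MvPolynomial σ k))
    (Algebra.algebraMapSubmonoid _ (nonZeroDivisors (MvPolynomial σ k)))
  exact IsRegularRing.of_ringEquiv
    (geomEquiv (k := k) (S := MvPolynomial σ k) (T := FractionRing (MvPolynomial σ k)) κ).symm

theorem isRegularRing_tensor_adjoin {K : Type u} [Field K] [Algebra k K] (s : Finset K)
    (hs : AlgebraicIndependent k ((↑) : s → K)) :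
    IsRegularRing (κ ⊗[k] IntermediateField.adjoin k (s : Set K)) := by
  haveI := isRegularRing_tensor_fractionRing (k := k) κ {x // x ∈ s}
  have h : IntermediateField.adjoin k (Set.range ((↑) : s → K)) = IntermediateField.adjoin k (s : Set K) := by
    rw [Subtype.range_coe_subtype]; rfl
  exact IsRegularRing.of_ringEquiv (Algebra.TensorProduct.congr (AlgEquiv.refl (R := k) (A₁ := κ))
    (hs.aevalEquivField.trans (IntermediateField.equivOfEq h))).toRingEquiv

/-- Regularity after a separably generated extension. -/
theorem isRegularRing_tensor_sepGen (K : Type u) [Field K] [Algebra k K] (s : Finset K)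
    (hs : AlgebraicIndependent k ((↑) : s → K))
    [Module.Finite (IntermediateField.adjoin k (s : Set K)) K]
    [Algebra.IsSeparable (IntermediateField.adjoin k (s : Set K)) K] :
    IsRegularRing (κ ⊗[k] K) := by
  haveI := isRegularRing_tensor_adjoin (k := k) κ s hs
  haveI := IsRegularRing.of_ringEquiv
    (Algebra.TensorProduct.comm k κ (IntermediateField.adjoin k (s : Set K))).toRingEquiv
  haveI := isRegularRing_tensor_separable (F := IntermediateField.adjoin k (s : Set K))
    (IntermediateField.adjoin k (s : Set K) ⊗[k] κ) K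
  exact IsRegularRing.of_ringEquiv
    (geomEquiv (k := k) (S := IntermediateField.adjoin k (s : Set K)) (T := K) κ).symm

end PTrans

section Structure

open IntermediateField

variable (k : Type u) [Field k] (E : Type u) [Field E] [Algebra k E]

/-- Members of a field generated over `M` are defined over a finite part of `M`. -/
theorem exists_finite_mem_adjoin (M : IntermediateField k E) (s : Set E) {x : E} (hx : x ∈ adjoin M s) :
    ∃ C : Finset E, (C : Set E) ⊆ M ∧ x ∈ adjoin (adjoin k (C : Set E)) s := by
  classical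
  have hx' : x ∈ adjoin k ((M : Set E) ∪ s) := by
    rw [← restrictScalars_adjoin]; exact hx
  rw [adjoin_union, ← adjoin_union] at hx'
  obtain ⟨T, hT, hxT⟩ := exists_finset_of_mem_adjoin hx'
  refine ⟨T.filter (· ∈ M), fun c hc => (Finset.mem_filter.1 hc).2, ?_⟩
  show x ∈ (adjoin (adjoin k ((T.filter (· ∈ M) : Finset E) : Set E)) s).restrictScalars k
  rw [restrictScalars_adjoin]
  refine adjoin.mono k _ _ (fun t ht => ?_) hxT
  by_cases h : t ∈ M
  · exact Or.inl (subset_adjoin k _ (Finset.mem_filter.2 ⟨ht, h⟩))
  · exact Or.inr ((hT ht).resolve_left h)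

theorem adjoin_adjoin_mono {C C' : Set E} (h : C ⊆ C') (s : Set E) {x : E}
    (hx : x ∈ adjoin (adjoin k C) s) : x ∈ adjoin (adjoin k C') s := by
  have := (mem_restrictScalars k).2 hx
  rw [restrictScalars_adjoin] at this
  apply (mem_restrictScalars k).1
  rw [restrictScalars_adjoin]
  exact adjoin.mono k _ _ (Set.union_subset_union_left s (adjoin.mono k _ _ h)) this

theorem exists_finite_mem_adjoin_set (M : IntermediateField k E) (s : Set E) (T : Finset E)
    (hT : ∀ x ∈ T, x ∈ adjoin M s) :
    ∃ C : Finset E, (C : Set E) ⊆ M ∧ ∀ x ∈ T, x ∈ adjoin (adjoin k (C : Set E)) s := by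
  classical
  choose C hC hxC using fun (x : T) => exists_finite_mem_adjoin k E M s (hT x.1 x.2)
  refine ⟨T.attach.biUnion C, ?_, fun x hx => adjoin_adjoin_mono k E ?_ s (hxC ⟨x, hx⟩)⟩
  · intro c hc
    obtain ⟨x, -, hx⟩ := Finset.mem_biUnion.1 hc
    exact hC x hx
  · exact fun c hc => Finset.mem_biUnion.2 ⟨⟨x, hx⟩, Finset.mem_attach _ _, hc⟩

/-- Separability descends to a field containing the coefficients. -/
theorem isSeparable_of_coeff_mem {F : IntermediateField k E} {g : E} {P : Polynomial E} (hP : P.Separable)
    (hg : P.eval g = 0) (hc : ∀ i, P.coeff i ∈ F) : IsSeparable F g := by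
  obtain ⟨Q, rfl⟩ := (Polynomial.mem_lifts P).1 ((Polynomial.lifts_iff_coeff_lifts P).2 fun i =>
    ⟨⟨P.coeff i, hc i⟩, rfl⟩ : P ∈ Polynomial.lifts (algebraMap F E))
  rw [Polynomial.eval_map, ← Polynomial.aeval_def] at hg
  exact ((Polynomial.separable_map _).1 hP).of_dvd (minpoly.dvd F g hg)

variable (K : Type u) [Field K] [Algebra k K] [Algebra.EssFiniteType k K]

/-- A finitely generated extension becomes separably generated after a finite purely inseparable one. -/
theorem exists_purelyInseparable_sepGen :
    ∃ (k' K' : Type u) (_ : Field k') (_ : Field K') (_ : Algebra k k') (_ : Algebra k' K') (_ : Algebra K K')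
      (_ : Algebra k K') (_ : IsScalarTower k k' K') (_ : IsScalarTower k K K') (s : Finset K'),
      Module.Finite k k' ∧ IsPurelyInseparable k k' ∧ AlgebraicIndependent k' ((↑) : s → K') ∧
        Algebra.EssFiniteType k' K' ∧
        Module.Finite (adjoin k' (s : Set K')) K' ∧ Algebra.IsSeparable (adjoin k' (s : Set K')) K' := by
  classical
  obtain ⟨G₀, hG₀⟩ := IntermediateField.fg_top k K
  let E := AlgebraicClosure K
  let G : Finset E := G₀.image (algebraMap K E)
  let M := perfectClosure k E
  let L := adjoin M (G : Set E)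
  haveI : Algebra.EssFiniteType M L :=
    IntermediateField.essFiniteType_iff.2 (fg_adjoin_finset G)
  obtain ⟨s₀, hs₀, hsep⟩ := exists_isTranscendenceBasis_and_isSeparable_of_perfectField M L
  let s : Finset E := s₀.image (Subtype.val : L → E)
  -- separable polynomials of the generators, with coefficients in `M(s)`
  have hpoly : ∀ g ∈ G, ∃ P : Polynomial E, P.Separable ∧ P.eval g = 0 ∧
      ∀ i, P.coeff i ∈ adjoin M (s : Set E) := fun g hg => by
    have hg' : g ∈ L := subset_adjoin M _ hg
    let F₀ := adjoin M (s₀ : Set L)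
    refine ⟨(minpoly F₀ (⟨g, hg'⟩ : L)).map (L.val.toRingHom.comp (algebraMap F₀ L)), ?_, ?_, fun i => ?_⟩
    · exact (Polynomial.separable_map _).2 (Algebra.IsSeparable.isSeparable F₀ (⟨g, hg'⟩ : L))
    · rw [← Polynomial.map_map, Polynomial.eval_map]
      show Polynomial.eval₂ L.val.toRingHom (L.val.toRingHom (⟨g, hg'⟩ : L)) _ = 0
      rw [Polynomial.eval₂_hom, Polynomial.eval_map, ← Polynomial.aeval_def, minpoly.aeval, map_zero]
    · rw [Polynomial.coeff_map]
      have hmem : L.val (((minpoly F₀ (⟨g, hg'⟩ : L)).coeff i : F₀) : L) ∈ F₀.map L.val := ⟨_, SetLike.coe_mem _, rfl⟩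
      rw [adjoin_map] at hmem
      show _ ∈ adjoin M ((s₀.image (Subtype.val : L → E) : Finset E) : Set E)
      rw [Finset.coe_image]
      exact hmem
  choose P hPs hPe hPc using hpoly
  obtain ⟨C, hCM, hC⟩ := exists_finite_mem_adjoin_set k E M (s : Set E)
    (G.attach.biUnion fun g => (Finset.range ((P g.1 g.2).natDegree + 1)).image (P g.1 g.2).coeff)
    fun x hx => by
      obtain ⟨g, -, hx⟩ := Finset.mem_biUnion.1 hx
      obtain ⟨i, -, rfl⟩ := Finset.mem_image.1 hx
      exact hPc _ _ i
  let k' := adjoin k (C : Set E)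
  have hk'M : k' ≤ M := adjoin_le_iff.2 hCM
  haveI hpi : IsPurelyInseparable k k' := le_perfectClosure_iff k E k' |>.1 hk'M
  haveI hfin : Module.Finite k k' := finiteDimensional_adjoin fun c hc =>
    (isIntegral_algHom_iff M.val (x := (⟨c, hCM hc⟩ : M)) Subtype.val_injective).2 (Algebra.IsIntegral.isIntegral _)
  let F := adjoin k' (s : Set E)
  have hsepG : ∀ g ∈ G, IsSeparable F g := fun g hg => by
    refine isSeparable_of_coeff_mem k' E (hPs g hg) (hPe g hg) fun i => ?_
    rcases le_or_gt i (P g hg).natDegree with hi | hi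
    · exact hC _ (Finset.mem_biUnion.2 ⟨⟨g, hg⟩, Finset.mem_attach _ _,
        Finset.mem_image.2 ⟨i, Finset.mem_range.2 (Nat.lt_succ_of_le hi), rfl⟩⟩)
    · rw [Polynomial.coeff_eq_zero_of_natDegree_lt hi]
      exact zero_mem _
  let K' := adjoin k' ((s : Set E) ∪ (G : Set E))
  have hGK : ∀ x : K, algebraMap K E x ∈ K' := by
    intro x
    have hle : (adjoin k (G₀ : Set K)).map (IsScalarTower.toAlgHom k K E) ≤ K'.restrictScalars k := by
      rw [adjoin_map, adjoin_le_iff]
      rintro _ ⟨g, hg, rfl⟩
      exact subset_adjoin k' _ (Or.inr (Finset.mem_image_of_mem _ hg))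
    exact hle ⟨x, by rw [hG₀]; trivial, rfl⟩
  letI : Algebra K K' := ((algebraMap K E).codRestrict K' hGK).toAlgebra
  haveI : IsScalarTower k K K' := .of_algebraMap_eq fun x => Subtype.ext (IsScalarTower.algebraMap_apply k K E x)
  let t : Finset K' := (s.attach).image fun x => ⟨x.1, subset_adjoin k' _ (Or.inl x.2)⟩
  have ht : (Subtype.val : K' → E) '' (t : Set K') = (s : Set E) := by
    ext x
    simp only [t, Finset.coe_image, Set.mem_image, Finset.mem_coe, Finset.mem_attach, true_and, Subtype.exists]
    constructor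
    · rintro ⟨a, ha, ⟨y, hy, e⟩, rfl⟩
      cases e; exact hy
    · intro hx; exact ⟨x, subset_adjoin k' _ (Or.inl hx), ⟨x, hx, rfl⟩, rfl⟩
  have hind : AlgebraicIndependent k' ((↑) : t → K') := by
    have h1 : AlgebraicIndependent M (fun x : s₀ => ((x : L) : E)) :=
      hs₀.1.map' (f := L.val) Subtype.val_injective
    letI : Algebra k' M := (IntermediateField.inclusion hk'M).toRingHom.toAlgebra
    haveI : IsScalarTower k' M E := .of_algebraMap_eq fun _ => rfl
    have h2 : AlgebraicIndependent k' (fun x : s₀ => ((x : L) : E)) :=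
      h1.restrictScalars (fun a b h => Subtype.ext (congrArg (Subtype.val : M → E) h :))
    have h3 := h2.coe_range
    have hr : Set.range (fun x : s₀ => ((x : L) : E)) = (s : Set E) := by
      simp only [s, Finset.coe_image]; ext; simp
    rw [hr] at h3
    exact AlgebraicIndependent.of_comp K'.val (h3.comp (fun x : t => ⟨((x : K') : E), ht ▸ ⟨x.1, x.2, rfl⟩⟩)
      fun a b h => Subtype.ext (Subtype.ext (congrArg Subtype.val h :)))
  refine ⟨k', K', inferInstance, inferInstance, inferInstance, inferInstance, inferInstance, inferInstance,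
    inferInstance, inferInstance, t, hfin, hpi, hind,
    IntermediateField.essFiniteType_iff.2 (by simpa using fg_adjoin_finset (s ∪ G)), ?_⟩
  let F' := adjoin k' (t : Set K')
  have hsep' : ∀ g ∈ G, ∀ h : g ∈ K', IsSeparable F' (⟨g, h⟩ : K') := by
    intro g hg h
    have hF : F'.map K'.val = F := by rw [adjoin_map]; exact congrArg (adjoin k') ht
    obtain ⟨Q, hQ⟩ : ∃ Q : Polynomial F', Q.map (K'.val.toRingHom.comp (algebraMap F' K')) =
        (minpoly F g).map (algebraMap F E) := (Polynomial.mem_lifts _).1 ((Polynomial.lifts_iff_coeff_lifts _).2 fun i => by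
      have : ((minpoly F g).coeff i : E) ∈ F'.map K'.val := by rw [hF]; exact SetLike.coe_mem _
      obtain ⟨y, hy, e⟩ := this
      exact ⟨⟨y, hy⟩, by rw [Polynomial.coeff_map]; exact e⟩)
    have h0 : Polynomial.aeval (⟨g, h⟩ : K') Q = 0 := by
      apply K'.val.toRingHom.injective
      rw [map_zero, Polynomial.aeval_def, Polynomial.hom_eval₂, ← Polynomial.eval_map, hQ,
        Polynomial.eval_map, ← Polynomial.aeval_def]
      exact minpoly.aeval F g
    exact ((Polynomial.separable_map _).1 (hQ ▸ (Polynomial.separable_map _).2 (hsepG g hg))).of_dvd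
      (minpoly.dvd F' _ h0)
  let G' : Set K' := (Subtype.val : K' → E) ⁻¹' (G : Set E)
  have hfG : G'.Finite := G.finite_toSet.preimage Subtype.val_injective.injOn
  have hall : ∀ x ∈ G', IsSeparable F' x := fun x hx => hsep' x.1 hx x.2
  have htop : adjoin F' G' = ⊤ := by
    apply restrictScalars_injective k'
    rw [restrictScalars_top, restrictScalars_adjoin, eq_top_iff]
    intro x _
    have : (adjoin k' ((F' : Set K') ∪ G')).map K'.val ≥ K' := by
      rw [adjoin_map, ge_iff_le, adjoin_le_iff]
      rintro y (hy | hy)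
      · exact subset_adjoin k' _ ⟨⟨y, subset_adjoin k' _ (Or.inl hy)⟩, Or.inl (subset_adjoin k' _ (by
          obtain ⟨a, ha, e⟩ := ht.symm ▸ hy
          rwa [show (⟨y, _⟩ : K') = a from Subtype.ext e.symm])), rfl⟩
      · exact subset_adjoin k' _ ⟨⟨y, subset_adjoin k' _ (Or.inr hy)⟩, Or.inr hy, rfl⟩
    obtain ⟨y, hy, e⟩ := this x.2
    rwa [← show y = x from Subtype.ext e]
  haveI : Algebra.IsSeparable F' (adjoin F' G') := isSeparable_adjoin_iff_isSeparable F' K' |>.2 hall
  haveI : FiniteDimensional F' (adjoin F' G') := by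
    haveI := hfG.to_subtype
    exact finiteDimensional_adjoin fun x hx => (hall x hx).isIntegral
  let e : adjoin F' G' ≃ₐ[F'] K' := (IntermediateField.equivOfEq htop).trans topEquiv
  exact ⟨Module.Finite.equiv e.toLinearEquiv, AlgEquiv.Algebra.isSeparable e⟩

end Structure

end Groth.Agent.FlatDepth
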