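import Groth.Agent.Lib.FlatDepth.Locus
import Groth.Agent.Lib.FlatDepth.FieldExt
import Groth.Agent.Lib.SmoothReg17.Basic
import Groth.Agent.Lib.FlatH4.GenFree
import Mathlib

/-!
# Generic smoothness and the regular locus
-/

namespace Groth.Agent.FlatDepth

universe u

open IsLocalRing TensorProduct

theorem linearIndepOn_pow_of_geomReduced {k K : Type u} [Field k] [Field K] [Algebra k K]
    [Algebra.IsGeometricallyReduced k K] (p : ℕ) [ExpChar k p] (hp : p.Prime) (s : Finset K)
    (hs : LinearIndepOn k id (s : Set K)) : LinearIndepOn k (· ^ p) (s : Set K) := by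
  classical
  haveI : Fact p.Prime := ⟨hp⟩
  haveI : ExpChar K p := expChar_of_injective_algebraMap (FaithfulSMul.algebraMap_injective k K) p
  haveI : ExpChar (AlgebraicClosure k) p := expChar_of_injective_algebraMap (FaithfulSMul.algebraMap_injective k _) p
  haveI : IsReduced (K ⊗[k] AlgebraicClosure k) := isReduced_of_injective
    (Algebra.TensorProduct.comm k K (AlgebraicClosure k)) (AlgEquiv.injective _)
  haveI : ExpChar (K ⊗[k] AlgebraicClosure k) p :=
    expChar_of_injective_ringHom (f := (Algebra.TensorProduct.includeLeft :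
      K →ₐ[k] K ⊗[k] AlgebraicClosure k).toRingHom) (Algebra.TensorProduct.includeLeft_injective
      (FaithfulSMul.algebraMap_injective k (AlgebraicClosure k))) p
  rw [linearIndepOn_finset_iff]
  intro c hc
  have hr : ∀ i, ∃ r : AlgebraicClosure k, r ^ p = algebraMap k (AlgebraicClosure k) (c i) :=
    fun i => IsAlgClosed.exists_pow_nat_eq _ hp.pos
  choose r hr using hr
  have hz : ∑ i ∈ s, i ⊗ₜ[k] r i = (0 : K ⊗[k] AlgebraicClosure k) := by
    refine eq_zero_of_pow_eq_zero (n := p) ?_
    rw [sum_pow_char p s]
    have hterm : ∀ i ∈ s, (i ⊗ₜ[k] r i : K ⊗[k] AlgebraicClosure k) ^ p = (c i • i ^ p) ⊗ₜ[k] 1 := fun i _ => by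
      rw [Algebra.TensorProduct.tmul_pow, hr, Algebra.algebraMap_eq_smul_one, TensorProduct.smul_tmul]
    rw [Finset.sum_congr rfl hterm, ← TensorProduct.sum_tmul, hc, TensorProduct.zero_tmul]
  intro i hi
  have hinj : ∀ i ∈ s, r i = 0 := by
    have hli : LinearIndependent k (fun i : s => (i : K)) := hs
    intro i hi
    obtain ⟨g, hg⟩ := LinearMap.exists_extend ((Finsupp.lapply (⟨i, hi⟩ : s)).comp hli.repr)
    have hgj : ∀ j : s, g (j : K) = if j = ⟨i, hi⟩ then 1 else 0 := fun j => by
      have hmem : (j : K) ∈ Submodule.span k (Set.range fun i : s => (i : K)) := Submodule.subset_span ⟨j, rfl⟩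
      have h1 := LinearMap.congr_fun hg ⟨(j : K), hmem⟩
      rw [LinearMap.comp_apply, LinearMap.comp_apply, Submodule.subtype_apply, hli.repr_eq_single j ⟨_, hmem⟩ rfl,
        Finsupp.lapply_apply, Finsupp.single_apply] at h1
      exact h1
    have h0 := congrArg (fun z => TensorProduct.lid k (AlgebraicClosure k) (g.rTensor (AlgebraicClosure k) z)) hz
    simp only [map_sum, LinearMap.rTensor_tmul, TensorProduct.lid_tmul, map_zero] at h0
    rw [← Finset.sum_coe_sort s (fun x => g x • r x)] at h0
    simpa [hgj] using h0
  have := hr i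
  rw [hinj i hi, zero_pow hp.ne_zero, eq_comm, map_eq_zero_iff _ (FaithfulSMul.algebraMap_injective k _)] at this
  exact this

/-- A separable finitely generated extension is formally smooth. -/
theorem formallySmooth_of_geomReduced (k K : Type u) [Field k] [Field K] [Algebra k K]
    [Algebra.EssFiniteType k K] [Algebra.IsGeometricallyReduced k K] : Algebra.FormallySmooth k K := by
  obtain _ | ⟨p, hp, hpk⟩ := CharP.exists' k
  · infer_instance
  haveI : ExpChar k p := .prime hp.out
  obtain ⟨s, hs, hsep⟩ := exists_isTranscendenceBasis_and_isSeparable_of_linearIndepOn_pow_of_essFiniteType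
    p hp.out (fun t ht => linearIndepOn_pow_of_geomReduced (k := k) (K := K) p hp.out t ht)
  have : Algebra.IsSeparable (↥(IntermediateField.adjoin k (Set.range ((↑) : s → K)))) K := by
    convert! hsep <;> simp
  exact .of_algebraicIndependent_of_isSeparable hs.1

theorem formallySmooth_of_sepGen {k K : Type u} [Field k] [Field K] [Algebra k K] (s : Finset K)
    (hs : AlgebraicIndependent k ((↑) : s → K))
    [hsep : Algebra.IsSeparable (IntermediateField.adjoin k (s : Set K)) K] : Algebra.FormallySmooth k K := by
  have : Algebra.IsSeparable (↥(IntermediateField.adjoin k (Set.range ((↑) : s → K)))) K := by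
    convert! hsep <;> simp
  exact .of_algebraicIndependent_of_isSeparable hs

/-- Generic smoothness. -/
theorem exists_smooth_localization (R A : Type u) [CommRing R] [IsNoetherianRing R] [CommRing A] [IsDomain A]
    [Algebra R A] [Algebra.FiniteType R A] (K : Type u) [Field K] [Algebra A K] [IsFractionRing A K]
    [Algebra R K] [IsScalarTower R A K] [Algebra.FormallySmooth R K] :
    ∃ f : A, f ≠ 0 ∧ Algebra.Smooth R (Localization.Away f) := by
  haveI : Algebra.FinitePresentation R A := Algebra.FinitePresentation.of_finiteType.1 inferInstance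
  haveI : IsLocalization.AtPrime K (⊥ : Ideal A) := by
    have h : (⊥ : Ideal A).primeCompl = nonZeroDivisors A := by
      ext x
      simp [mem_nonZeroDivisors_iff_ne_zero]
    show IsLocalization (⊥ : Ideal A).primeCompl K
    rw [h]; infer_instance
  have hgen : (⟨⊥, Ideal.isPrime_bot⟩ : PrimeSpectrum A) ∈ Algebra.smoothLocus R A :=
    Algebra.FormallySmooth.of_equiv ((IsLocalization.algEquiv (⊥ : Ideal A).primeCompl K
      (Localization.AtPrime (⊥ : Ideal A))).restrictScalars R)
  obtain ⟨_, ⟨f, rfl⟩, hf, hsub⟩ :=
    PrimeSpectrum.isTopologicalBasis_basic_opens.exists_subset_of_mem_open hgen Algebra.isOpen_smoothLocus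
  exact ⟨f, fun h => hf (by simp [h]), Algebra.basicOpen_subset_smoothLocus_iff_smooth.1 hsub⟩

/-- Regularity along a smooth algebra. -/
theorem regular_of_smooth {A B : Type u} [CommRing A] [CommRing B] [Algebra A B] [IsNoetherianRing A]
    [Algebra.Smooth A B] (q : Ideal B) [q.IsPrime]
    [IsRegularLocalRing (Localization.AtPrime (q.comap (algebraMap A B)))] :
    IsRegularLocalRing (Localization.AtPrime q) := by
  haveI : IsNoetherianRing B := Algebra.FiniteType.isNoetherianRing A B
  obtain ⟨p, _, Q, _, ⟨e⟩⟩ := exists_fibLoc_equiv (A := A) q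
  haveI : IsRegularLocalRing (Localization.AtPrime Q) :=
    SmoothReg17.isRegularLocalRing_of_smooth (algebraMap p.ResidueField (p.Fiber B))
      (RingHom.smooth_algebraMap.2 inferInstance) Q
  haveI : IsRegularLocalRing (EGA4.FibLocRing A B q) :=
    IsRegularLocalRing.of_ringEquiv (R := Localization.AtPrime Q) e
  exact regular_of_fibre (A := A) q

theorem isRegularLocalRing_away_iff {A : Type u} [CommRing A] (f : A) (P : Ideal (Localization.Away f)) [P.IsPrime] :
    IsRegularLocalRing (Localization.AtPrime (P.comap (algebraMap A (Localization.Away f)))) ↔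
      IsRegularLocalRing (Localization.AtPrime P) := by
  obtain ⟨e⟩ := nonempty_localLocalEquiv (Submonoid.powers f) P
  exact ⟨fun _ => IsRegularLocalRing.of_ringEquiv e, fun _ => IsRegularLocalRing.of_ringEquiv e.symm⟩

/-- Openness generically from below. -/
theorem regLocus_open_of_separable (A A' : Type u) [CommRing A] [CommRing A'] [IsDomain A'] [IsNoetherianRing A]
    [Algebra A A'] [FaithfulSMul A A'] [Algebra.FiniteType A A']
    (K : Type u) [Field K] [Algebra A' K] [IsFractionRing A' K] [Algebra A K] [IsScalarTower A A' K]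
    [Algebra.FormallySmooth A K]
    (h : ∃ U : Set (PrimeSpectrum A), IsOpen U ∧ U.Nonempty ∧ U ⊆ EGA4.regLocus A) :
    ∃ U' : Set (PrimeSpectrum A'), IsOpen U' ∧ U'.Nonempty ∧ U' ⊆ EGA4.regLocus A' := by
  haveI : IsDomain A := (FaithfulSMul.algebraMap_injective A A').isDomain (algebraMap A A')
  obtain ⟨U, hU, ⟨u, hu⟩, hsub⟩ := h
  obtain ⟨f, hf, hsm⟩ := exists_smooth_localization A A' K
  refine ⟨(PrimeSpectrum.comap (algebraMap A A')) ⁻¹' U ∩ PrimeSpectrum.basicOpen f, ?_, ?_, ?_⟩
  · exact (hU.preimage (by fun_prop)).inter (PrimeSpectrum.basicOpen f).isOpen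
  · refine ⟨⟨⊥, Ideal.isPrime_bot⟩, ?_, by simpa [PrimeSpectrum.mem_basicOpen] using hf⟩
    refine hU.stableUnderGeneralization ?_ hu
    rw [← PrimeSpectrum.le_iff_specializes, ← PrimeSpectrum.asIdeal_le_asIdeal]
    show Ideal.comap (algebraMap A A') ⊥ ≤ _
    rw [← RingHom.ker_eq_comap_bot, (RingHom.injective_iff_ker_eq_bot _).1 (FaithfulSMul.algebraMap_injective A A')]
    exact bot_le
  · rintro q ⟨hq1, hq2⟩
    obtain ⟨P, hP⟩ : q ∈ Set.range (PrimeSpectrum.comap (algebraMap A' (Localization.Away f))) := by
      rw [PrimeSpectrum.localization_away_comap_range (Localization.Away f) f]; exact hq2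
    subst hP
    show IsRegularLocalRing (Localization.AtPrime (P.asIdeal.comap (algebraMap A' (Localization.Away f))))
    rw [isRegularLocalRing_away_iff]
    haveI : IsRegularLocalRing (Localization.AtPrime (P.asIdeal.comap (algebraMap A (Localization.Away f)))) := by
      have h1 := hsub hq1
      have key : ∀ (a b : Ideal A) [a.IsPrime] [b.IsPrime], a = b → IsRegularLocalRing (Localization.AtPrime a) →
          IsRegularLocalRing (Localization.AtPrime b) := by
        intro a b _ _ e h; subst e; exact h
      refine key _ _ ?_ h1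
      show Ideal.comap (algebraMap A A') (Ideal.comap (algebraMap A' (Localization.Away f)) P.asIdeal) = _
      rw [Ideal.comap_comap, ← IsScalarTower.algebraMap_eq]
    exact regular_of_smooth (A := A) P.asIdeal

/-- Openness generically from above. -/
theorem regLocus_open_of_extension (R S : Type u) [CommRing R] [IsDomain R] [IsNoetherianRing R] [CommRing S]
    [IsDomain S] [Algebra R S] [Algebra.FiniteType R S] (hinj : Function.Injective (algebraMap R S))
    (hS : ∃ U : Set (PrimeSpectrum S), IsOpen U ∧ U.Nonempty ∧ U ⊆ EGA4.regLocus S) :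
    ∃ U : Set (PrimeSpectrum R), IsOpen U ∧ U.Nonempty ∧ U ⊆ EGA4.regLocus R := by
  obtain ⟨f, hf, hfree⟩ := FlatH4.GenFree.of_finiteType (R := R) S S
  let f' := algebraMap R S f
  have hf' : f' ≠ 0 := (map_ne_zero_iff _ hinj).2 hf
  haveI : IsNoetherianRing S := Algebra.FiniteType.isNoetherianRing R S
  haveI : IsNoetherianRing (Localization.Away f') := IsLocalization.isNoetherianRing (Submonoid.powers f') _ inferInstance
  haveI : Algebra.FiniteType R (Localization.Away f') := Algebra.FiniteType.trans (inferInstance : Algebra.FiniteType R S)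
    (IsLocalization.finiteType_of_monoid_fg (Submonoid.powers f') _)
  haveI : Algebra.FinitePresentation R (Localization.Away f') := Algebra.FinitePresentation.of_finiteType.1 inferInstance
  haveI : Module.Flat R (Localization.Away f') := by
    haveI := hfree (Localization.Away f) inferInstance (IsLocalization.Away.algebraMap_isUnit f)
    letI : Algebra (Localization.Away f) (Localization.Away f') :=
      (IsLocalization.Away.map (Localization.Away f) (Localization.Away f') (algebraMap R S) f).toAlgebra
    haveI : IsScalarTower R (Localization.Away f) (Localization.Away f') := .of_algebraMap_eq fun x => by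
      rw [RingHom.algebraMap_toAlgebra, IsLocalization.Away.map, IsLocalization.map_eq, ← IsScalarTower.algebraMap_apply]
    haveI : IsLocalization (Algebra.algebraMapSubmonoid S (Submonoid.powers f)) (Localization.Away f') := by
      rw [Algebra.algebraMapSubmonoid_powers]
      exact inferInstanceAs (IsLocalization (Submonoid.powers f') (Localization.Away f'))
    haveI : Algebra.IsPushout R (Localization.Away f) S (Localization.Away f') :=
      Algebra.IsPushout.symm (Algebra.isPushout_of_isLocalization (Submonoid.powers f) (Localization.Away f) S (Localization.Away f'))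
    haveI : Module.Flat (Localization.Away f) (Localization.Away f') :=
      Module.Flat.of_linearEquiv (Algebra.IsPushout.equiv R (Localization.Away f) S (Localization.Away f')).symm.toLinearEquiv
    exact Module.Flat.trans R (Localization.Away f) _
  obtain ⟨U, hU, ⟨u, hu⟩, hsub⟩ := hS
  have hop := PrimeSpectrum.isOpenMap_comap_of_hasGoingDown_of_finitePresentation (R := R) (S := Localization.Away f')
  refine ⟨PrimeSpectrum.comap (algebraMap R (Localization.Away f')) ''
    (PrimeSpectrum.comap (algebraMap S (Localization.Away f')) ⁻¹' U), hop _ (hU.preimage (by fun_prop)), ?_, ?_⟩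
  · refine Set.Nonempty.image _ ?_
    obtain ⟨P, hP⟩ : (⟨⊥, Ideal.isPrime_bot⟩ : PrimeSpectrum S) ∈
        Set.range (PrimeSpectrum.comap (algebraMap S (Localization.Away f'))) := by
      rw [PrimeSpectrum.localization_away_comap_range (Localization.Away f') f']
      simpa [PrimeSpectrum.mem_basicOpen] using hf'
    refine ⟨P, show PrimeSpectrum.comap _ P ∈ U from ?_⟩
    rw [hP]
    exact hU.stableUnderGeneralization ((PrimeSpectrum.le_iff_specializes _ _).1 (bot_le (a := u.asIdeal))) hu
  · rintro _ ⟨P, hP, rfl⟩
    haveI : IsRegularLocalRing (Localization.AtPrime P.asIdeal) :=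
      (isRegularLocalRing_away_iff f' P.asIdeal).1 (hsub hP)
    exact regular_at_base (A := R) P.asIdeal

/-- Finite type domains over a field are generically regular. -/
theorem regLocus_open_of_finiteType_field (k B : Type u) [Field k] [CommRing B] [IsDomain B] [Algebra k B]
    [Algebra.FiniteType k B] :
    ∃ U : Set (PrimeSpectrum B), IsOpen U ∧ U.Nonempty ∧ U ⊆ EGA4.regLocus B := by
  classical
  haveI : IsNoetherianRing B := Algebra.FiniteType.isNoetherianRing k B
  let K := FractionRing B
  haveI : Algebra.EssFiniteType k K := Algebra.EssFiniteType.comp k B K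
  obtain ⟨k', K', _, _, _, _, _, _, _, _, s, hfin, -, hind, hess, -, hsep⟩ := exists_purelyInseparable_sepGen k K
  haveI := hess
  haveI := hfin
  haveI := hsep
  haveI := formallySmooth_of_sepGen s hind
  obtain ⟨G, hG⟩ := IntermediateField.fg_top k' K'
  obtain ⟨gens, hgens⟩ := (inferInstance : Algebra.FiniteType k B).out
  let φ : B →+* K' := (algebraMap K K').comp (algebraMap B K)
  let G' : Finset K' := G ∪ gens.image φ
  let C := Algebra.adjoin k' (G' : Set K')
  have htop : IntermediateField.adjoin k' (G' : Set K') = ⊤ :=
    top_le_iff.1 (hG ▸ IntermediateField.adjoin.mono k' _ _ (by simp [G']))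
  haveI : Algebra.FiniteType k' C := C.fg_iff_finiteType.1 ⟨G', rfl⟩
  haveI hfr : IsFractionRing C K' := IsFractionRing.of_field C K' fun z => by
    obtain ⟨x, hx, y, hy, e⟩ := IntermediateField.mem_adjoin_iff_div.1
      (htop ▸ IntermediateField.mem_top : z ∈ IntermediateField.adjoin k' (G' : Set K'))
    exact ⟨⟨x, hx⟩, ⟨y, hy⟩, e⟩
  obtain ⟨g, hg, hsm⟩ := exists_smooth_localization k' C K'
  letI : Algebra k C := ((algebraMap k' C).comp (algebraMap k k')).toAlgebra
  haveI : IsScalarTower k k' C := .of_algebraMap_eq fun _ => rfl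
  have hφ : ∀ b, φ b ∈ C := by
    intro b
    have hφk : ∀ c, φ (algebraMap k B c) = algebraMap k K' c := fun c => by
      show algebraMap K K' (algebraMap B K (algebraMap k B c)) = _
      rw [← IsScalarTower.algebraMap_apply k B K, ← IsScalarTower.algebraMap_apply]
    have : b ∈ Algebra.adjoin k (gens : Set B) := hgens ▸ Algebra.mem_top
    induction this using Algebra.adjoin_induction with
    | mem x hx => exact Algebra.subset_adjoin (by simp [G']; exact Or.inr ⟨x, hx, rfl⟩)
    | algebraMap c => rw [hφk, IsScalarTower.algebraMap_apply k k' K']; exact C.algebraMap_mem _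
    | add x y _ _ hx hy => rw [map_add]; exact add_mem hx hy
    | mul x y _ _ hx hy => rw [map_mul]; exact mul_mem hx hy
  let ψ : B →+* C := φ.codRestrict C hφ
  letI : Algebra B C := ψ.toAlgebra
  haveI : IsScalarTower k B C := .of_algebraMap_eq fun c => Subtype.ext (by
    show algebraMap k' K' (algebraMap k k' c) = algebraMap K K' (algebraMap B K (algebraMap k B c))
    rw [← IsScalarTower.algebraMap_apply k k' K', ← IsScalarTower.algebraMap_apply k B K,
      ← IsScalarTower.algebraMap_apply k K K'])
  haveI : Algebra.FiniteType k C :=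
    Algebra.FiniteType.trans (inferInstance : Algebra.FiniteType k k') (inferInstance : Algebra.FiniteType k' C)
  haveI : Algebra.FiniteType B C := Algebra.FiniteType.of_restrictScalars_finiteType k B C
  refine regLocus_open_of_extension B C ?_ ⟨PrimeSpectrum.basicOpen g, (PrimeSpectrum.basicOpen g).isOpen,
    ⟨⟨⊥, Ideal.isPrime_bot⟩, by simpa [PrimeSpectrum.mem_basicOpen] using hg⟩, fun q hq => ?_⟩
  · intro a b e
    exact IsFractionRing.injective B K ((algebraMap K K').injective (congrArg Subtype.val e :))
  · obtain ⟨P, rfl⟩ : q ∈ Set.range (PrimeSpectrum.comap (algebraMap C (Localization.Away g))) := by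
      rw [PrimeSpectrum.localization_away_comap_range (Localization.Away g) g]; exact hq
    show IsRegularLocalRing (Localization.AtPrime (P.asIdeal.comap (algebraMap C (Localization.Away g))))
    rw [isRegularLocalRing_away_iff]
    exact SmoothReg17.isRegularLocalRing_of_smooth (algebraMap k' (Localization.Away g))
      (RingHom.smooth_algebraMap.2 hsm) P.asIdeal

end Groth.Agent.FlatDepth
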