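import Groth.Agent.Lib.FlatDepth.Fibre
import Mathlib

/-!
# Depth, dimension and `(S_k)` of iterated localizations
-/

namespace Groth.Agent.FlatDepth

universe u

open IsLocalRing

variable {R : Type u} [CommRing R] {M : Type u} [AddCommGroup M] [Module R M] [Module.Finite R M]

omit [Module.Finite R M] in
theorem invariants_congr_localization (q : Ideal R) [q.IsPrime] (S : Type u) [CommRing S] [Algebra R S]
    [IsLocalization.AtPrime S q] [IsLocalRing S] (M' : Type u) [AddCommGroup M'] [Module R M']
    [Module S M'] [IsScalarTower R S M'] [Module.Finite S M'] (g : M →ₗ[R] M')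
    [IsLocalizedModule q.primeCompl g] :
    LocCoh.depth S M' = LocCoh.depth (Localization.AtPrime q) (LocalizedModule q.primeCompl M) ∧
      Module.supportDim S M' =
        Module.supportDim (Localization.AtPrime q) (LocalizedModule q.primeCompl M) := by
  let e : Localization.AtPrime q ≃ₐ[R] S := IsLocalization.algEquiv q.primeCompl _ _
  letI : Algebra (Localization.AtPrime q) S := e.toRingEquiv.toRingHom.toAlgebra
  have hs : Function.Surjective (algebraMap (Localization.AtPrime q) S) := e.surjective
  letI : Module (Localization.AtPrime q) M' := Module.compHom M' (algebraMap (Localization.AtPrime q) S)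
  haveI : IsScalarTower (Localization.AtPrime q) S M' := IsScalarTower.of_algebraMap_smul fun _ _ => rfl
  haveI : IsScalarTower R (Localization.AtPrime q) M' := IsScalarTower.of_algebraMap_smul fun a z => by
    change e (algebraMap R _ a) • z = a • z
    rw [AlgEquiv.commutes, algebraMap_smul]
  let ι : LocalizedModule q.primeCompl M ≃ₗ[Localization.AtPrime q] M' :=
    (IsLocalizedModule.iso q.primeCompl g).extendScalarsOfIsLocalization q.primeCompl _
  constructor
  · rw [← depth_eq_of_surjective M' hs, LocCoh.depth, LocCoh.depth, DepthLib.idealDepth_congr ι]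
  · rw [← supportDim_eq_of_surjective M' hs, Module.supportDim_eq_of_equiv ι]

theorem invariants_localization_localization (T : Submonoid R) (Q : Ideal (Localization T)) [Q.IsPrime] :
    LocCoh.depth (Localization.AtPrime Q) (LocalizedModule Q.primeCompl (LocalizedModule T M)) =
        LocCoh.depth (Localization.AtPrime (Q.comap (algebraMap R (Localization T))))
          (LocalizedModule (Q.comap (algebraMap R (Localization T))).primeCompl M) ∧
      Module.supportDim (Localization.AtPrime Q) (LocalizedModule Q.primeCompl (LocalizedModule T M)) =
        Module.supportDim (Localization.AtPrime (Q.comap (algebraMap R (Localization T))))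
          (LocalizedModule (Q.comap (algebraMap R (Localization T))).primeCompl M) := by
  let q := Q.comap (algebraMap R (Localization T))
  haveI : IsLocalization.AtPrime (Localization.AtPrime Q) q :=
    IsLocalization.isLocalization_isLocalization_atPrime_isLocalization T (Localization.AtPrime Q) Q
  let g : M →ₗ[R] LocalizedModule Q.primeCompl (LocalizedModule T M) :=
    ((LocalizedModule.mkLinearMap Q.primeCompl (LocalizedModule T M)).restrictScalars R) ∘ₗ
      LocalizedModule.mkLinearMap T M
  haveI : IsLocalizedModule q.primeCompl g := by
    rw [isLocalizedModule_iff_isBaseChange (S := q.primeCompl) (A := Localization.AtPrime Q)]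
    exact (IsLocalizedModule.isBaseChange T (Localization T) (LocalizedModule.mkLinearMap T M)).comp
      (IsLocalizedModule.isBaseChange Q.primeCompl (Localization.AtPrime Q)
        (LocalizedModule.mkLinearMap Q.primeCompl (LocalizedModule T M)))
  exact invariants_congr_localization q _ _ g

/-- `(S_k)` at a prime concerns the generizations of that prime. -/
theorem hasSkAt_iff (k : ℕ) (p : Ideal R) [p.IsPrime] :
    EGA4.HasSkAt k R M p ↔ ∀ (p' : Ideal R) [p'.IsPrime], p' ≤ p →
      min (k : WithBot ℕ∞)
          (Module.supportDim (Localization.AtPrime p') (LocalizedModule p'.primeCompl M)) ≤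
        ((LocCoh.depth (Localization.AtPrime p') (LocalizedModule p'.primeCompl M) : ℕ∞) : WithBot ℕ∞) := by
  constructor
  · intro h p' _ hle
    have hd : Disjoint (p.primeCompl : Set R) (p' : Set R) :=
      Set.disjoint_left.2 fun a ha ha' => ha (hle ha')
    haveI := IsLocalization.isPrime_of_isPrime_disjoint p.primeCompl (Localization.AtPrime p) p' ‹_› hd
    have hc := IsLocalization.comap_map_of_isPrime_disjoint p.primeCompl (Localization.AtPrime p) ‹p'.IsPrime› hd
    obtain ⟨h1, h2⟩ := invariants_localization_localization (M := M) p.primeCompl
      (p'.map (algebraMap R (Localization.AtPrime p)))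
    have h3 := h (p'.map (algebraMap R (Localization.AtPrime p)))
    rw [h1, h2] at h3
    have key : ∀ (a b : Ideal R) [a.IsPrime] [b.IsPrime], a = b →
        min (k : WithBot ℕ∞)
          (Module.supportDim (Localization.AtPrime a) (LocalizedModule a.primeCompl M)) ≤
          ((LocCoh.depth (Localization.AtPrime a) (LocalizedModule a.primeCompl M) : ℕ∞) : WithBot ℕ∞) →
        min (k : WithBot ℕ∞)
          (Module.supportDim (Localization.AtPrime b) (LocalizedModule b.primeCompl M)) ≤
          ((LocCoh.depth (Localization.AtPrime b) (LocalizedModule b.primeCompl M) : ℕ∞) : WithBot ℕ∞) := by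
      intro a b _ _ e h; subst e; exact h
    exact key _ _ hc h3
  · intro h Q _
    obtain ⟨h1, h2⟩ := invariants_localization_localization (M := M) p.primeCompl Q
    rw [h1, h2]
    refine h _ fun a ha => ?_
    by_contra hap
    exact Ideal.IsPrime.ne_top ‹Q.IsPrime› (Ideal.eq_top_of_isUnit_mem Q ha
      (IsLocalization.map_units (Localization.AtPrime p) (⟨a, hap⟩ : p.primeCompl)))

end Groth.Agent.FlatDepth
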