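import Groth.Agent.Lib.FlatDepth.GeomTensor
import Groth.Agent.Lib.FlatDepth.SkLocal
import Groth.Agent.Lib.Depth.CM
import Mathlib

/-!
# `K ⊗_k L` is Cohen–Macaulay; `(S_n)` and tensor products over a field
-/

namespace Groth.Agent.FlatDepth

universe u

open IsLocalRing TensorProduct

theorem hasSkAt_self_iff {R : Type u} [CommRing R] [IsNoetherianRing R] (k : ℕ) (p : Ideal R) [p.IsPrime] :
    EGA4.HasSkAt k R R p ↔ SkAt k R p := by
  rw [hasSkAt_iff]
  exact forall_congr' fun q => forall_congr' fun _ => by rw [SkIneq, (self_invariants q).1, (self_invariants q).2]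

theorem skIneq_of_dim_zero {R : Type u} [CommRing R] [IsLocalRing R] (n : ℕ) (h : ringKrullDim R ≤ 0) :
    SkIneq n R :=
  (min_le_right _ _).trans (h.trans (WithBot.coe_le_coe.2 zero_le'))

theorem skIneq_localization_of_regular {R : Type u} [CommRing R] [IsRegularRing R] (n : ℕ) (q : Ideal R) [q.IsPrime] :
    SkIneq n (Localization.AtPrime q) :=
  (forall_skIneq_iff _).2 DepthLib.isCohenMacaulayLocalRing_of_isRegularLocalRing n

theorem skIneq_finiteFree {F : Type u} [Field F] (R : Type u) [CommRing R] [Algebra F R] [IsRegularRing R]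
    (L : Type u) [CommRing L] [Algebra F L] [Module.Finite F L] (n : ℕ) (q : Ideal (R ⊗[F] L)) [q.IsPrime] :
    SkIneq n (Localization.AtPrime q) := by
  haveI := IsNoetherianRing.of_finite R (R ⊗[F] L)
  refine skIneq_of_fibre (A := R) n q (skIneq_localization_of_regular n _) (skIneq_of_dim_zero n ?_)
  obtain ⟨p, _, Q, _, ⟨e⟩⟩ := exists_fibLoc_equiv (A := R) q
  haveI : IsArtinianRing (p.Fiber (R ⊗[F] L)) := isArtinian_of_tower p.ResidueField inferInstance
  rw [← ringKrullDim_eq_of_ringEquiv e]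
  refine (IsLocalization.AtPrime.ringKrullDim_eq_height Q (Localization.AtPrime Q)).le.trans ?_
  exact (Ideal.height_le_ringKrullDim_of_ne_top (Ideal.IsPrime.ne_top inferInstance)).trans
    (Ring.krullDimLE_iff.1 (inferInstance : Ring.KrullDimLE 0 (p.Fiber (R ⊗[F] L))))

theorem skIneq_transfer {R S : Type u} [CommRing R] [CommRing S] (e : R ≃+* S) {n : ℕ}
    (h : ∀ (q : Ideal R) [q.IsPrime], SkIneq n (Localization.AtPrime q)) (q : Ideal S) [q.IsPrime] :
    SkIneq n (Localization.AtPrime q) :=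
  (h (q.comap (e : R →+* S))).congr (atPrimeRingEquiv e q)

variable {k : Type u} [Field k]

theorem skIneq_tower (F : Type u) [Field F] [Algebra k F] (K : Type u) [Field K] [Algebra k K] [Algebra F K]
    [IsScalarTower k F K] [Module.Finite F K] (κ : Type u) [CommRing κ] [Algebra k κ] [IsRegularRing (F ⊗[k] κ)]
    (n : ℕ) (q : Ideal (K ⊗[k] κ)) [q.IsPrime] : SkIneq n (Localization.AtPrime q) :=
  skIneq_transfer ((Algebra.TensorProduct.comm F (F ⊗[k] κ) K).toRingEquiv.trans
      (Algebra.TensorProduct.cancelBaseChange k F K K κ).toRingEquiv)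
    (fun Q _ => skIneq_finiteFree (F ⊗[k] κ) K n Q) q

theorem skIneq_extended_ext (L : Type u) [Field L] [Algebra k L] (K : Type u) [Field K] [Algebra k K]
    (κ : Type u) [CommRing κ] [Algebra k κ] [IsNoetherianRing (L ⊗[k] κ)] [IsNoetherianRing (K ⊗[k] κ)]
    (i : L →ₐ[k] K) (n : ℕ) (h : ∀ (Q : Ideal (L ⊗[k] κ)) [Q.IsPrime], SkIneq n (Localization.AtPrime Q))
    (q : Ideal (K ⊗[k] κ)) [q.IsPrime]
    (hflat : (Algebra.TensorProduct.map i (AlgHom.id k κ)).toRingHom.Flat)
    (hq : (q.comap (Algebra.TensorProduct.map i (AlgHom.id k κ)).toRingHom).map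
        (Algebra.TensorProduct.map i (AlgHom.id k κ)).toRingHom = q) :
    SkIneq n (Localization.AtPrime q) := by
  letI := (Algebra.TensorProduct.map i (AlgHom.id k κ)).toRingHom.toAlgebra
  haveI : Module.Flat (L ⊗[k] κ) (K ⊗[k] κ) := hflat
  obtain ⟨-, hd, hdim⟩ := invariants_of_extended (A := L ⊗[k] κ) q hq
  have := h (q.comap (algebraMap (L ⊗[k] κ) (K ⊗[k] κ)))
  rw [SkIneq] at this ⊢
  rwa [hd, hdim]

/-- Cohen–Macaulay, the field finitely generated. -/
theorem skIneq_field_tensor_fg (κ : Type u) [CommRing κ] [Algebra k κ] [IsRegularRing κ]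
    (K : Type u) [Field K] [Algebra k K] [Algebra.EssFiniteType k K] (n : ℕ) :
    ∀ (q : Ideal (K ⊗[k] κ)) [q.IsPrime], SkIneq n (Localization.AtPrime q) := by
  classical
  obtain ⟨G, hG⟩ := IntermediateField.fg_top k K
  haveI : Algebra.IsAlgebraic (Algebra.adjoin k (G : Set K)) K := by
    rw [← IntermediateField.isAlgebraic_adjoin_iff_top, hG, Algebra.isAlgebraic_iff_isIntegral]
    exact Algebra.isIntegral_of_surjective IntermediateField.topEquiv.surjective
  obtain ⟨t, htG, ht⟩ := exists_isTranscendenceBasis_subset (R := k) (G : Set K)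
  lift t to Finset K using G.finite_toSet.subset htG
  haveI : Algebra.IsAlgebraic (IntermediateField.adjoin k (t : Set K)) K := by
    convert! ht.isAlgebraic_field <;> simp
  let F := IntermediateField.adjoin k (t : Set K)
  haveI : Algebra.EssFiniteType F K := Algebra.EssFiniteType.of_comp k F K
  haveI : Module.Finite F K := Algebra.finite_of_essFiniteType_of_isAlgebraic
  haveI := isRegularRing_tensor_adjoin (k := k) κ t ht.1
  haveI : IsRegularRing (F ⊗[k] κ) := IsRegularRing.of_ringEquiv (Algebra.TensorProduct.comm k κ F).toRingEquiv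
  intro q _
  exact skIneq_tower F K κ n q

/-- `K ⊗ κ` is Cohen–Macaulay. -/
theorem skIneq_field_tensor (κ : Type u) [CommRing κ] [Algebra k κ] [IsRegularRing κ]
    (K : Type u) [Field K] [Algebra k K] [IsNoetherianRing (K ⊗[k] κ)] (n : ℕ) (q : Ideal (K ⊗[k] κ))
    [q.IsPrime] : SkIneq n (Localization.AtPrime q) := by
  obtain ⟨L, hL, hflat, hq⟩ := exists_extended K κ q
  haveI := IntermediateField.essFiniteType_iff.2 hL
  haveI := isNoetherianRing_tensor_essFinite (k := k) κ L
  exact skIneq_extended_ext L K κ L.val n (fun Q _ => skIneq_field_tensor_fg κ L n Q) q hflat hq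

/-- The local rings of the fibres of `S → S ⊗ K` are Cohen–Macaulay. -/
theorem skIneq_fibLoc_field (S : Type u) [CommRing S] [Algebra k S] [IsNoetherianRing S]
    (K : Type u) [Field K] [Algebra k K] [IsNoetherianRing (S ⊗[k] K)] (n : ℕ) (q : Ideal (S ⊗[k] K)) [q.IsPrime] :
    SkIneq n (EGA4.FibLocRing S (S ⊗[k] K) q) := by
  refine skIneq_fibLocRing (fun p hp => ?_) q
  haveI := hp
  haveI := isNoetherianRing_residue_tensor (k := k) S K p
  let e : K ⊗[k] p.ResidueField ≃+* p.Fiber (S ⊗[k] K) :=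
    (Algebra.TensorProduct.comm k K p.ResidueField).toRingEquiv.trans
      (Algebra.TensorProduct.cancelBaseChange k S p.ResidueField p.ResidueField K).symm.toRingEquiv
  haveI := isNoetherianRing_of_ringEquiv (p.ResidueField ⊗[k] K)
    (Algebra.TensorProduct.comm k p.ResidueField K).toRingEquiv
  rw [hasSk_self_iff]
  exact fun Q _ => skIneq_transfer e (fun Q' _ => skIneq_field_tensor p.ResidueField K n Q') Q

/-- `(S_n)` is kept by tensor products over a field. -/
theorem hasSk_tensor {S T : Type u} [CommRing S] [CommRing T] [Algebra k S] [Algebra k T] [IsNoetherianRing S]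
    [IsNoetherianRing T] [IsNoetherianRing (S ⊗[k] T)] (n : ℕ) (hS : LocCoh.HasSk n S S) (hT : LocCoh.HasSk n T T) :
    LocCoh.HasSk n (S ⊗[k] T) (S ⊗[k] T) := by
  rw [hasSk_self_iff] at hS ⊢
  intro q _
  refine skIneq_of_fibre (A := S) n q (hS _) (skIneq_fibLocRing (fun p hp => ?_) q)
  haveI := hp
  haveI := isNoetherianRing_residue_tensor (k := k) S T p
  haveI := isNoetherianRing_of_ringEquiv (p.ResidueField ⊗[k] T)
    (Algebra.TensorProduct.comm k p.ResidueField T).toRingEquiv
  let e : T ⊗[k] p.ResidueField ≃+* p.Fiber (S ⊗[k] T) :=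
    (Algebra.TensorProduct.comm k T p.ResidueField).toRingEquiv.trans
      (Algebra.TensorProduct.cancelBaseChange k S p.ResidueField p.ResidueField T).symm.toRingEquiv
  rw [hasSk_self_iff]
  exact fun Q _ => skIneq_transfer e (fun Q' _ =>
    skIneq_of_fibre (A := T) n Q' ((hasSk_self_iff n T).1 hT _) (skIneq_fibLoc_field T p.ResidueField n Q')) Q

end Groth.Agent.FlatDepth
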