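import Groth.Agent.Lib.FlatDepth.Fibre
import Mathlib

/-!
# Localizations of quotient modules
-/

namespace Groth.Agent.FlatDepth

universe u

open TensorProduct

/-- `(M / J M)_T = M_T / J M_T`. -/
noncomputable def localizeQuotModEquiv {A : Type u} [CommRing A] (M : Type u) [AddCommGroup M]
    [Module A M] (J : Ideal A) (T : Submonoid A) :
    LocalizedModule T (M ⧸ J • (⊤ : Submodule A M)) ≃ₗ[Localization T]
      LocalizedModule T M ⧸
        (J.map (algebraMap A (Localization T)) • (⊤ : Submodule (Localization T) (LocalizedModule T M))) :=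
  ((IsLocalizedModule.mapEquiv T (LocalizedModule.mkLinearMap T _) (LocalizedModule.mkLinearMap T _)
      (Localization T) (TensorProduct.tensorQuotEquivQuotSMul M J)).symm.trans
    ((IsLocalizedModule.iso T (AlgebraTensorModule.rTensor A (A ⧸ J)
      (LocalizedModule.mkLinearMap T M))).extendScalarsOfIsLocalization T _)).trans
    (tensorQuotEquiv (LocalizedModule T M) J)

end Groth.Agent.FlatDepth
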