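import Groth.Agent.Lib.FlatDepth.Rings
import Groth.Agent.Lib.H12.FlatComp
import Mathlib

/-!
# Cohen-Macaulay rings as rings with all `(S_k)`
-/

namespace Groth.Agent.FlatDepth

universe u

open TensorProduct IsLocalRing

theorem forall_skIneq_iff (R : Type u) [CommRing R] [IsNoetherianRing R] [IsLocalRing R] :
    (∀ k, SkIneq k R) ↔ LocCoh.IsCohenMacaulayLocalRing R := by
  constructor
  · intro h
    obtain ⟨d, hd⟩ := DepthLib.exists_supportDim_eq_natCast (R := R) (M := R)
    have h1 := h d
    rw [SkIneq, ← Module.supportDim_self_eq_ringKrullDim] at h1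
    exact ⟨le_antisymm ((le_min (hd.le) le_rfl).trans h1) DepthLib.depth_le_supportDim⟩
  · intro h k
    rw [SkIneq, ← Module.supportDim_self_eq_ringKrullDim, h.supportDim_eq_depth]
    exact min_le_right _ _

theorem cohenMacaulayRing_iff (R : Type u) [CommRing R] [IsNoetherianRing R] :
    LocCoh.IsCohenMacaulayRing R ↔ ∀ k, LocCoh.HasSk k R R := by
  constructor
  · intro h k
    rw [hasSk_self_iff]
    intro q _
    exact (forall_skIneq_iff _).2 (h.isCohenMacaulayLocalRing_localization q) k
  · intro h
    exact ⟨fun q _ => (forall_skIneq_iff _).1 fun k => (hasSk_self_iff k R).1 (h k) q⟩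

/-- Fibre rings of noetherian algebras are noetherian. -/
theorem isNoetherianRing_fiber {A B : Type u} [CommRing A] [CommRing B] [Algebra A B]
    [IsNoetherianRing B] (p : Ideal A) [p.IsPrime] : IsNoetherianRing (p.Fiber B) := by
  haveI : Algebra.EssFiniteType A p.ResidueField := Algebra.EssFiniteType.comp A (Localization.AtPrime p) _
  haveI : IsNoetherianRing (B ⊗[A] p.ResidueField) :=
    Algebra.EssFiniteType.isNoetherianRing B (B ⊗[A] p.ResidueField)
  exact isNoetherianRing_of_ringEquiv _ (Algebra.TensorProduct.comm A B p.ResidueField).toRingEquiv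

end Groth.Agent.FlatDepth
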