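import Groth.Agent.Lib.FlatDepth.CplQuot
import Groth.Agent.Lib.SMT.CMBasic
import Mathlib

/-!
# Fibres of base changes along maps surjective on stalks (quotients, localizations)
-/

namespace Groth.Agent.FlatDepth

universe u

open TensorProduct IsLocalRing

noncomputable def atPrimeRingEquiv {R S : Type u} [CommRing R] [CommRing S] (e : R ≃+* S)
    (P : Ideal S) [P.IsPrime] :
    Localization.AtPrime (P.comap (e : R →+* S)) ≃+* Localization.AtPrime P :=
  IsLocalization.ringEquivOfRingEquiv (M := (P.comap (e : R →+* S)).primeCompl) (T := P.primeCompl)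
    (Localization.AtPrime (P.comap (e : R →+* S))) (Localization.AtPrime P) e (by
      ext x
      constructor
      · rintro ⟨y, hy, rfl⟩
        exact hy
      · intro hx
        refine ⟨e.symm x, ?_, by simp⟩
        show e.symm x ∉ P.comap (e : R →+* S)
        rw [Ideal.mem_comap]
        simpa using hx)

theorem cmRing_of_ringEquiv {R S : Type u} [CommRing R] [CommRing S] (e : R ≃+* S)
    (h : LocCoh.IsCohenMacaulayRing R) : LocCoh.IsCohenMacaulayRing S := by
  haveI := isNoetherianRing_of_ringEquiv R e
  exact ⟨fun P _ => SMT.isCM_of_ringEquiv (atPrimeRingEquiv e P)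
    (h.isCohenMacaulayLocalRing_localization _)⟩

theorem isNormalRing_of_ringEquiv {R S : Type u} [CommRing R] [CommRing S] (e : R ≃+* S)
    (h : EGA4.IsNormalRing R) : EGA4.IsNormalRing S := by
  intro P _
  obtain ⟨h1, h2⟩ := h (P.comap (e : R →+* S))
  haveI : IsDomain (Localization.AtPrime P) := MulEquiv.isDomain _ (atPrimeRingEquiv e P).symm.toMulEquiv
  exact ⟨inferInstance, IsIntegrallyClosed.of_equiv (atPrimeRingEquiv e P)⟩

section

variable {A A' B B' : Type u} [CommRing A] [CommRing A'] [CommRing B] [CommRing B'] [Algebra A A']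
  [Algebra A B] [Algebra A' B']

/-- Residue fields do not change along a map surjective on stalks. -/
theorem exists_residueEquiv (hs : (algebraMap A A').SurjectiveOnStalks) (P : Ideal A') [P.IsPrime] :
    ∃ e : (P.comap (algebraMap A A')).ResidueField ≃+* P.ResidueField,
      ∀ a : A, e (algebraMap A _ a) = algebraMap A' P.ResidueField (algebraMap A A' a) :=
  ⟨RingEquiv.ofBijective _ (hs.residueFieldMap_bijective _ P rfl), fun a =>
    Ideal.ResidueField.map_algebraMap _ P (algebraMap A A') rfl a⟩

/-- Fields over `κ(P)` are fields over `κ(p)`, finite if they were; fibres agree after extending to them. -/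
theorem exists_fibre_compare (hs : (algebraMap A A').SurjectiveOnStalks) (e : A' ⊗[A] B ≃ₐ[A'] B')
    (P : Ideal A') [P.IsPrime] (K : Type u) [Field K] [Algebra P.ResidueField K] :
    ∃ _ : Algebra (P.comap (algebraMap A A')).ResidueField K,
      (Module.Finite P.ResidueField K → Module.Finite (P.comap (algebraMap A A')).ResidueField K) ∧
      (Algebra.IsAlgebraic P.ResidueField K →
        Algebra.IsAlgebraic (P.comap (algebraMap A A')).ResidueField K) ∧
      Nonempty (K ⊗[P.ResidueField] (P.Fiber B') ≃+*
        K ⊗[(P.comap (algebraMap A A')).ResidueField] ((P.comap (algebraMap A A')).Fiber B)) := by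
  obtain ⟨r, hr⟩ := exists_residueEquiv hs P
  letI : Algebra (P.comap (algebraMap A A')).ResidueField K :=
    ((algebraMap P.ResidueField K).comp r.toRingHom).toAlgebra
  letI : Algebra (P.comap (algebraMap A A')).ResidueField P.ResidueField := r.toRingHom.toAlgebra
  haveI : IsScalarTower (P.comap (algebraMap A A')).ResidueField P.ResidueField K :=
    .of_algebraMap_eq fun _ => rfl
  haveI : Module.Finite (P.comap (algebraMap A A')).ResidueField P.ResidueField :=
    Module.Finite.of_surjective (Algebra.linearMap _ _) r.surjective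
  letI : Algebra A' K := ((algebraMap P.ResidueField K).comp (algebraMap A' P.ResidueField)).toAlgebra
  haveI : IsScalarTower A' P.ResidueField K := .of_algebraMap_eq fun _ => rfl
  letI : Algebra A K := ((algebraMap A' K).comp (algebraMap A A')).toAlgebra
  haveI : IsScalarTower A A' K := .of_algebraMap_eq fun _ => rfl
  haveI : IsScalarTower A (P.comap (algebraMap A A')).ResidueField K := .of_algebraMap_eq fun a =>
    (congrArg (algebraMap P.ResidueField K) (hr a)).symm
  exact ⟨inferInstance, fun _ => Module.Finite.trans P.ResidueField K,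
    fun _ => Algebra.IsAlgebraic.trans _ P.ResidueField K,
    ⟨fiberBaseChangeEquiv e (P.comap (algebraMap A A')) P K⟩⟩

/-- The fibre itself. -/
theorem nonempty_fibreEquiv (hs : (algebraMap A A').SurjectiveOnStalks) (e : A' ⊗[A] B ≃ₐ[A'] B')
    (P : Ideal A') [P.IsPrime] :
    Nonempty (P.Fiber B' ≃+* (P.comap (algebraMap A A')).Fiber B) := by
  obtain ⟨r, hr⟩ := exists_residueEquiv hs P
  letI : Algebra (P.comap (algebraMap A A')).ResidueField P.ResidueField := r.toRingHom.toAlgebra
  letI : Algebra A P.ResidueField := ((algebraMap A' P.ResidueField).comp (algebraMap A A')).toAlgebra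
  haveI : IsScalarTower A A' P.ResidueField := .of_algebraMap_eq fun _ => rfl
  haveI : IsScalarTower A (P.comap (algebraMap A A')).ResidueField P.ResidueField :=
    .of_algebraMap_eq fun a => (hr a).symm
  refine ⟨(Algebra.TensorProduct.lid P.ResidueField _).symm.toRingEquiv.trans
    ((fiberBaseChangeEquiv e (P.comap (algebraMap A A')) P P.ResidueField).trans
      ((Algebra.TensorProduct.congr (S := (P.comap (algebraMap A A')).ResidueField)
        (AlgEquiv.ofRingEquiv (f := r.symm) (fun x => r.symm_apply_apply x))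
        (AlgEquiv.refl : (P.comap (algebraMap A A')).Fiber B ≃ₐ[(P.comap (algebraMap A A')).ResidueField] _)).toRingEquiv.trans
        (Algebra.TensorProduct.lid _ _).toRingEquiv))⟩

theorem isGeomNormal_fibre (hs : (algebraMap A A').SurjectiveOnStalks) (e : A' ⊗[A] B ≃ₐ[A'] B')
    (h : ∀ (p : Ideal A) [p.IsPrime], EGA4.IsGeomNormal p.ResidueField (p.Fiber B))
    (P : Ideal A') [P.IsPrime] : EGA4.IsGeomNormal P.ResidueField (P.Fiber B') := by
  intro K _ _ hK
  obtain ⟨_, hfin, -, ⟨φ⟩⟩ := exists_fibre_compare hs e P K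
  exact isNormalRing_of_ringEquiv φ.symm (h _ K (hfin hK))

theorem isGeomRegular_fibre (hs : (algebraMap A A').SurjectiveOnStalks) (e : A' ⊗[A] B ≃ₐ[A'] B')
    (h : ∀ (p : Ideal A) [p.IsPrime], CAlg.IsGeometricallyRegular p.ResidueField (p.Fiber B))
    (P : Ideal A') [P.IsPrime] : CAlg.IsGeometricallyRegular P.ResidueField (P.Fiber B') := by
  intro K _ _ hK
  obtain ⟨_, hfin, -, ⟨φ⟩⟩ := exists_fibre_compare hs e P K
  exact @IsRegularRing.of_ringEquiv _ _ _ _ φ.symm (h _ K (hfin hK))

theorem isGeometricallyReduced_fibre (hs : (algebraMap A A').SurjectiveOnStalks) (e : A' ⊗[A] B ≃ₐ[A'] B')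
    (h : ∀ (p : Ideal A) [p.IsPrime], Algebra.IsGeometricallyReduced p.ResidueField (p.Fiber B))
    (P : Ideal A') [P.IsPrime] : Algebra.IsGeometricallyReduced P.ResidueField (P.Fiber B') := by
  rw [Algebra.isGeometricallyReduced_field_iff]
  obtain ⟨_, -, halg, ⟨φ⟩⟩ := exists_fibre_compare hs e P (AlgebraicClosure P.ResidueField)
  haveI := h (P.comap (algebraMap A A'))
  haveI := halg inferInstance
  exact isReduced_of_injective φ.toRingHom φ.injective

theorem isNoetherianRing_fibre (hs : (algebraMap A A').SurjectiveOnStalks) (e : A' ⊗[A] B ≃ₐ[A'] B')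
    (P : Ideal A') [P.IsPrime] (h : IsNoetherianRing ((P.comap (algebraMap A A')).Fiber B)) :
    IsNoetherianRing (P.Fiber B') := by
  obtain ⟨φ⟩ := nonempty_fibreEquiv hs e P
  exact isNoetherianRing_of_ringEquiv _ φ.symm

end

end Groth.Agent.FlatDepth
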