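import Groth.Agent.Lib.FlatDepth.RingFib
import Groth.Agent.Lib.FlatDepth.FibBC
import Groth.Prelude.Def_EGA4b
import Mathlib

/-!
# Geometrically normal, regular, reduced: composites and descent
-/

namespace Groth.Agent.FlatDepth

universe u

open IsLocalRing TensorProduct

attribute [local instance] Algebra.TensorProduct.rightAlgebra

section FiniteBC

variable {S T : Type u} [CommRing S] [CommRing T] [Algebra S T] (S' : Type u) [CommRing S'] [Algebra S S']
  [Module.Finite S S']

/-- Fibres after a finite base change are finite extensions of fibres. -/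
theorem exists_fibre_finiteBaseChange (P : Ideal S') [P.IsPrime] :
    ∃ (Q : Ideal S) (_ : Q.IsPrime) (_ : Algebra Q.ResidueField P.ResidueField),
      Module.Finite Q.ResidueField P.ResidueField ∧
      Nonempty (P.Fiber (S' ⊗[S] T) ≃+* P.ResidueField ⊗[Q.ResidueField] (Q.Fiber T)) := by
  let Q := P.under S
  haveI : P.LiesOver Q := ⟨rfl⟩
  letI := Localization.AtPrime.algebraOfLiesOver Q P
  haveI : Module.Finite Q.ResidueField P.ResidueField := inferInstance
  exact ⟨Q, inferInstance, inferInstance, inferInstance,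
    ⟨(Algebra.TensorProduct.lid P.ResidueField _).symm.toRingEquiv.trans
      (fiberBaseChangeEquiv (AlgEquiv.refl : S' ⊗[S] T ≃ₐ[S'] S' ⊗[S] T) Q P P.ResidueField)⟩⟩

variable [IsNoetherianRing S] [IsNoetherianRing T]

theorem isNoetherianRing_finiteBaseChange : IsNoetherianRing (S' ⊗[S] T) := by
  haveI := IsNoetherianRing.of_finite T (T ⊗[S] S')
  exact isNoetherianRing_of_ringEquiv (T ⊗[S] S') (Algebra.TensorProduct.comm S T S').toRingEquiv

theorem normal_finiteBaseChange [Module.Flat S T]
    (hf : ∀ (Q : Ideal S) [Q.IsPrime], EGA4.IsGeomNormal Q.ResidueField (Q.Fiber T))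
    (h : EGA4.IsNormalRing S') : EGA4.IsNormalRing (S' ⊗[S] T) := by
  haveI := IsNoetherianRing.of_finite S S'
  haveI := isNoetherianRing_finiteBaseChange (S := S) (T := T) S'
  refine normal_of_flat_fibres h fun P _ => ?_
  obtain ⟨Q, _, _, hfin, ⟨e⟩⟩ := exists_fibre_finiteBaseChange (S := S) (T := T) S' P
  exact isNormalRing_of_ringEquiv e.symm (hf Q _ hfin)

theorem regular_finiteBaseChange [Module.Flat S T]
    (hf : ∀ (Q : Ideal S) [Q.IsPrime], CAlg.IsGeometricallyRegular Q.ResidueField (Q.Fiber T))
    (h : IsRegularRing S') : IsRegularRing (S' ⊗[S] T) := by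
  haveI := IsNoetherianRing.of_finite S S'
  haveI := isNoetherianRing_finiteBaseChange (S := S) (T := T) S'
  refine regular_of_flat_fibres (A := S') (B := S' ⊗[S] T) fun P _ => ?_
  obtain ⟨Q, _, _, hfin, ⟨e⟩⟩ := exists_fibre_finiteBaseChange (S := S) (T := T) S' P
  exact @IsRegularRing.of_ringEquiv _ _ _ _ e.symm (hf Q _ hfin)

theorem reduced_finiteBaseChange [Module.Flat S T]
    (hf : ∀ (Q : Ideal S) [Q.IsPrime], Algebra.IsGeometricallyReduced Q.ResidueField (Q.Fiber T))
    [IsReduced S'] : IsReduced (S' ⊗[S] T) := by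
  haveI := IsNoetherianRing.of_finite S S'
  haveI := isNoetherianRing_finiteBaseChange (S := S) (T := T) S'
  refine reduced_of_flat_fibres (A := S') fun P _ => ?_
  obtain ⟨Q, _, _, hfin, ⟨e⟩⟩ := exists_fibre_finiteBaseChange (S := S) (T := T) S' P
  haveI := hf Q
  haveI := hfin
  exact isReduced_of_injective e.toRingHom e.injective

end FiniteBC

section Field

variable {k S T : Type u} [Field k] [CommRing S] [CommRing T] [Algebra k S] [Algebra k T] [Algebra S T]
  [IsScalarTower k S T]

/-- `k' ⊗ T = (S ⊗ k') ⊗_S T`. -/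
noncomputable def geomEquiv (k' : Type u) [CommRing k'] [Algebra k k'] :
    k' ⊗[k] T ≃+* (S ⊗[k] k') ⊗[S] T :=
  (Algebra.TensorProduct.comm k k' T).toRingEquiv.trans
    ((Algebra.TensorProduct.cancelBaseChange k S T T k').symm.toRingEquiv.trans
      (Algebra.TensorProduct.comm S T (S ⊗[k] k')).toRingEquiv)

variable [IsNoetherianRing S] [IsNoetherianRing T]

theorem geomNormal_comp [Module.Flat S T] (hS : EGA4.IsGeomNormal k S)
    (hf : ∀ (Q : Ideal S) [Q.IsPrime], EGA4.IsGeomNormal Q.ResidueField (Q.Fiber T)) :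
    EGA4.IsGeomNormal k T := by
  intro k' _ _ hk'
  haveI := hk'
  exact isNormalRing_of_ringEquiv (geomEquiv (k := k) (S := S) k').symm (normal_finiteBaseChange _ hf
    (isNormalRing_of_ringEquiv (Algebra.TensorProduct.comm k k' S).toRingEquiv (hS k' hk')))

theorem geomNormal_descend [Module.FaithfullyFlat S T] (hT : EGA4.IsGeomNormal k T) :
    EGA4.IsGeomNormal k S := by
  intro k' _ _ hk'
  haveI := hk'
  haveI := IsNoetherianRing.of_finite S (S ⊗[k] k')
  haveI := isNoetherianRing_finiteBaseChange (S := S) (T := T) (S ⊗[k] k')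
  exact isNormalRing_of_ringEquiv (Algebra.TensorProduct.comm k k' S).toRingEquiv.symm
    (normal_of_faithfullyFlat (B := (S ⊗[k] k') ⊗[S] T) (isNormalRing_of_ringEquiv (geomEquiv (k := k) (S := S) k') (hT k' hk')))

theorem geomRegular_comp [Module.Flat S T] (hS : CAlg.IsGeometricallyRegular k S)
    (hf : ∀ (Q : Ideal S) [Q.IsPrime], CAlg.IsGeometricallyRegular Q.ResidueField (Q.Fiber T)) :
    CAlg.IsGeometricallyRegular k T := by
  intro k' _ _ hk'
  haveI := hk'
  haveI := hS k' hk'
  haveI := regular_finiteBaseChange (S := S) (T := T) (S ⊗[k] k') hf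
    (IsRegularRing.of_ringEquiv (Algebra.TensorProduct.comm k k' S).toRingEquiv)
  exact IsRegularRing.of_ringEquiv (geomEquiv (k := k) (S := S) (T := T) k').symm

theorem geomRegular_descend [Module.FaithfullyFlat S T] (hT : CAlg.IsGeometricallyRegular k T) :
    CAlg.IsGeometricallyRegular k S := by
  intro k' _ _ hk'
  haveI := hk'
  haveI := hT k' hk'
  haveI := IsNoetherianRing.of_finite S (S ⊗[k] k')
  haveI := IsRegularRing.of_ringEquiv (geomEquiv (k := k) (S := S) (T := T) k')
  haveI := regular_of_faithfullyFlat (A := S ⊗[k] k') (B := (S ⊗[k] k') ⊗[S] T)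
  exact IsRegularRing.of_ringEquiv (Algebra.TensorProduct.comm k k' S).toRingEquiv.symm

theorem geomReduced_comp [Module.Flat S T] (hS : Algebra.IsGeometricallyReduced k S)
    (hf : ∀ (Q : Ideal S) [Q.IsPrime], Algebra.IsGeometricallyReduced Q.ResidueField (Q.Fiber T)) :
    Algebra.IsGeometricallyReduced k T := by
  rw [Algebra.isGeometricallyReduced_field_iff] at hS ⊢
  haveI : IsReduced (T ⊗[k] AlgebraicClosure k) := by
    refine IsReduced.tensorProduct_of_flat_of_forall_fg fun L hL => ?_
    haveI : Algebra.FiniteType k L := L.fg_iff_finiteType.1 hL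
    haveI : Algebra.IsIntegral k L := ⟨fun x => (isIntegral_algHom_iff L.val Subtype.val_injective).1
      (Algebra.IsIntegral.isIntegral _)⟩
    haveI : Module.Finite k L := Algebra.IsIntegral.finite
    haveI : IsReduced (S ⊗[k] L) := by
      haveI : IsReduced (L ⊗[k] S) := isReduced_of_injective (Algebra.TensorProduct.map L.val (AlgHom.id k S))
        (Module.Flat.rTensor_preserves_injective_linearMap (L.val).toLinearMap Subtype.val_injective)
      exact isReduced_of_injective (Algebra.TensorProduct.comm k S L) (AlgEquiv.injective _)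
    haveI := reduced_finiteBaseChange (S := S) (T := T) (S ⊗[k] L) hf
    exact isReduced_of_injective ((Algebra.TensorProduct.comm k L T).symm.toRingEquiv.trans
      (geomEquiv (k := k) (S := S) (T := T) L)).toRingHom (RingEquiv.injective _)
  exact isReduced_of_injective (Algebra.TensorProduct.comm k (AlgebraicClosure k) T) (AlgEquiv.injective _)

omit [IsNoetherianRing S] [IsNoetherianRing T] in
theorem geomReduced_descend [Module.FaithfullyFlat S T] (hT : Algebra.IsGeometricallyReduced k T) :
    Algebra.IsGeometricallyReduced k S :=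
  Algebra.IsGeometricallyReduced.of_injective (IsScalarTower.toAlgHom k S T)
    (FaithfulSMul.algebraMap_injective S T)

end Field

section Tower

variable (A B C : Type u) [CommRing A] [CommRing B] [CommRing C] [Algebra A B] [Algebra B C] [Algebra A C]
  [IsScalarTower A B C]

/-- The fibre of the composite is the base change of `C` to the fibre of `B`. -/
theorem exists_fibre_tower (p : Ideal A) [p.IsPrime] :
    ∃ _ : Algebra (p.Fiber B) (p.Fiber C), IsScalarTower p.ResidueField (p.Fiber B) (p.Fiber C) ∧
      Nonempty ((p.Fiber B) ⊗[B] C ≃ₐ[p.Fiber B] p.Fiber C) := by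
  let g : p.Fiber B →ₐ[p.ResidueField] p.Fiber C :=
    Algebra.TensorProduct.map (AlgHom.id p.ResidueField p.ResidueField) (IsScalarTower.toAlgHom A B C)
  letI : Algebra (p.Fiber B) (p.Fiber C) := g.toRingHom.toAlgebra
  haveI : IsScalarTower p.ResidueField (p.Fiber B) (p.Fiber C) :=
    .of_algebraMap_eq fun x => (g.commutes x).symm
  letI : Algebra B (p.Fiber C) := ((algebraMap C (p.Fiber C)).comp (algebraMap B C)).toAlgebra
  haveI : IsScalarTower B C (p.Fiber C) := .of_algebraMap_eq fun _ => rfl
  haveI : IsScalarTower B (p.Fiber B) (p.Fiber C) := .of_algebraMap_eq fun x => by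
    show (1 : p.ResidueField) ⊗ₜ[A] algebraMap B C x = g (1 ⊗ₜ[A] x)
    rfl
  haveI : IsScalarTower A (p.Fiber B) (p.Fiber C) := .of_algebraMap_eq fun x => by
    show algebraMap A p.ResidueField x ⊗ₜ[A] (1 : C) = g (algebraMap A p.ResidueField x ⊗ₜ[A] (1 : B))
    simp [g]
  haveI : Algebra.IsPushout A B p.ResidueField (p.Fiber B) := Algebra.IsPushout.symm inferInstance
  haveI h1 : Algebra.IsPushout A C p.ResidueField (p.Fiber C) := Algebra.IsPushout.symm inferInstance
  haveI : Algebra.IsPushout B (p.Fiber B) C (p.Fiber C) :=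
    Algebra.IsPushout.symm ((Algebra.IsPushout.comp_iff A B p.ResidueField (p.Fiber B)).1 h1)
  exact ⟨inferInstance, inferInstance, ⟨Algebra.IsPushout.equiv B (p.Fiber B) C (p.Fiber C)⟩⟩

theorem surjectiveOnStalks_fibre (p : Ideal A) [p.IsPrime] :
    (algebraMap B (p.Fiber B)).SurjectiveOnStalks :=
  RingHom.SurjectiveOnStalks.baseChange' (T := B) (Ideal.surjectiveOnStalks_residueField p)

variable [IsNoetherianRing B] [IsNoetherianRing C]

theorem isNormalHom_comp (hAB : EGA4.IsNormalHom A B) (hBC : EGA4.IsNormalHom B C) :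
    EGA4.IsNormalHom A C := by
  haveI := hAB.1
  haveI := hBC.1
  refine ⟨Module.Flat.trans A B C, fun p _ => ?_⟩
  obtain ⟨_, _, ⟨e⟩⟩ := exists_fibre_tower A B C p
  haveI := isNoetherianRing_fiber (B := B) p
  haveI := isNoetherianRing_fiber (B := C) p
  haveI : Module.Flat (p.Fiber B) (p.Fiber C) := Module.Flat.of_linearEquiv e.symm.toLinearEquiv
  exact geomNormal_comp (hAB.2 p) fun Q _ =>
    isGeomNormal_fibre (surjectiveOnStalks_fibre A B p) e hBC.2 Q

theorem geomReducedFibres_comp [Module.Flat B C]
    (hAB : ∀ (p : Ideal A) [p.IsPrime], Algebra.IsGeometricallyReduced p.ResidueField (p.Fiber B))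
    (hBC : ∀ (q : Ideal B) [q.IsPrime], Algebra.IsGeometricallyReduced q.ResidueField (q.Fiber C))
    (p : Ideal A) [p.IsPrime] : Algebra.IsGeometricallyReduced p.ResidueField (p.Fiber C) := by
  obtain ⟨_, _, ⟨e⟩⟩ := exists_fibre_tower A B C p
  haveI := isNoetherianRing_fiber (B := B) p
  haveI := isNoetherianRing_fiber (B := C) p
  haveI : Module.Flat (p.Fiber B) (p.Fiber C) := Module.Flat.of_linearEquiv e.symm.toLinearEquiv
  exact geomReduced_comp (hAB p) fun Q _ =>
    isGeometricallyReduced_fibre (surjectiveOnStalks_fibre A B p) e hBC Q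

theorem isRegularHom_comp (hAB : CAlg.IsRegularHom A B) (hBC : CAlg.IsRegularHom B C) :
    CAlg.IsRegularHom A C := by
  haveI := hAB.1
  haveI := hBC.1
  refine ⟨Module.Flat.trans A B C, fun p _ => ?_⟩
  obtain ⟨_, _, ⟨e⟩⟩ := exists_fibre_tower A B C p
  haveI := isNoetherianRing_fiber (B := B) p
  haveI := isNoetherianRing_fiber (B := C) p
  haveI : Module.Flat (p.Fiber B) (p.Fiber C) := Module.Flat.of_linearEquiv e.symm.toLinearEquiv
  exact ⟨inferInstance, geomRegular_comp (hAB.2 p).2 fun Q _ =>
    isGeomRegular_fibre (surjectiveOnStalks_fibre A B p) e (fun q _ => (hBC.2 q).2) Q⟩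

omit [IsNoetherianRing B] [IsNoetherianRing C] in
theorem faithfullyFlat_fibre [Module.FaithfullyFlat B C] (p : Ideal A) [p.IsPrime]
    [Algebra (p.Fiber B) (p.Fiber C)] (e : (p.Fiber B) ⊗[B] C ≃ₐ[p.Fiber B] p.Fiber C) :
    Module.FaithfullyFlat (p.Fiber B) (p.Fiber C) :=
  Module.FaithfullyFlat.of_linearEquiv _ _ e.symm.toLinearEquiv

omit [IsNoetherianRing B] [IsNoetherianRing C] in
theorem flat_of_comp [Module.FaithfullyFlat B C] [Module.Flat A C] : Module.Flat A B := by
  rw [Module.Flat.iff_lTensor_preserves_injective_linearMap]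
  intro N N' _ _ _ _ f hf
  suffices Function.Injective (f.baseChange B) from this
  rw [← Module.FaithfullyFlat.lTensor_injective_iff_injective B C]
  let e := TensorProduct.AlgebraTensorModule.cancelBaseChange A B C C N
  let e' := TensorProduct.AlgebraTensorModule.cancelBaseChange A B C C N'
  have he : ∀ z, e' ((f.baseChange B).lTensor C z) = f.lTensor C (e z) := by
    intro z
    induction z with
    | zero => simp
    | add x y hx hy => simp [hx, hy]
    | tmul c w =>
      induction w with
      | zero => simp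
      | add x y hx hy => simp only [tmul_add, map_add, hx, hy]
      | tmul b n => simp [e, e']
  intro x y hxy
  apply e.injective
  apply Module.Flat.lTensor_preserves_injective_linearMap (M := C) f hf
  rw [← he, ← he, hxy]

theorem isNormalHom_of_comp [Module.FaithfullyFlat B C] (hAC : EGA4.IsNormalHom A C) :
    EGA4.IsNormalHom A B := by
  haveI := hAC.1
  refine ⟨flat_of_comp A B C, fun p _ => ?_⟩
  obtain ⟨_, _, ⟨e⟩⟩ := exists_fibre_tower A B C p
  haveI := isNoetherianRing_fiber (B := B) p
  haveI := isNoetherianRing_fiber (B := C) p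
  haveI := faithfullyFlat_fibre A B C p e
  exact geomNormal_descend (hAC.2 p)

omit [IsNoetherianRing B] [IsNoetherianRing C] in
theorem geomReducedFibres_of_comp [Module.FaithfullyFlat B C]
    (hAC : ∀ (p : Ideal A) [p.IsPrime], Algebra.IsGeometricallyReduced p.ResidueField (p.Fiber C))
    (p : Ideal A) [p.IsPrime] : Algebra.IsGeometricallyReduced p.ResidueField (p.Fiber B) := by
  obtain ⟨_, _, ⟨e⟩⟩ := exists_fibre_tower A B C p
  haveI := faithfullyFlat_fibre A B C p e
  exact geomReduced_descend (hAC p)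

theorem isRegularHom_of_comp [Module.FaithfullyFlat B C] (hAC : CAlg.IsRegularHom A C) :
    CAlg.IsRegularHom A B := by
  haveI := hAC.1
  refine ⟨flat_of_comp A B C, fun p _ => ?_⟩
  obtain ⟨_, _, ⟨e⟩⟩ := exists_fibre_tower A B C p
  haveI := isNoetherianRing_fiber (B := B) p
  haveI := isNoetherianRing_fiber (B := C) p
  haveI := faithfullyFlat_fibre A B C p e
  exact ⟨inferInstance, geomRegular_descend (hAC.2 p).2⟩

end Tower

end Groth.Agent.FlatDepth
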