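import Groth.Agent.Lib.FlatDepth.GeomTensor
import Mathlib

/-!
# Base change of regular and normal homomorphisms
-/

namespace Groth.Agent.FlatDepth

universe u

open IsLocalRing TensorProduct

theorem geomRegular_of_algEquiv {k S T : Type u} [Field k] [CommRing S] [CommRing T] [Algebra k S] [Algebra k T]
    (e : S ≃ₐ[k] T) (h : CAlg.IsGeometricallyRegular k S) : CAlg.IsGeometricallyRegular k T :=
  fun k' _ _ hk' => @IsRegularRing.of_ringEquiv _ _ _ _
    (Algebra.TensorProduct.congr (AlgEquiv.refl : k' ≃ₐ[k] k') e).toRingEquiv (h k' hk')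

theorem geomNormal_of_algEquiv {k S T : Type u} [Field k] [CommRing S] [CommRing T] [Algebra k S] [Algebra k T]
    (e : S ≃ₐ[k] T) (h : EGA4.IsGeomNormal k S) : EGA4.IsGeomNormal k T :=
  fun k' _ _ hk' => isNormalRing_of_ringEquiv
    (Algebra.TensorProduct.congr (AlgEquiv.refl : k' ≃ₐ[k] k') e).toRingEquiv (h k' hk')

variable (A B A' : Type u) [CommRing A] [CommRing B] [CommRing A'] [Algebra A B] [Algebra A A']

/-- The fibre of a base change. -/
theorem exists_fibre_baseChange (P : Ideal A') [P.IsPrime] :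
    ∃ (p : Ideal A) (_ : p.IsPrime) (_ : Algebra p.ResidueField P.ResidueField),
      p = P.comap (algebraMap A A') ∧
      Nonempty (P.ResidueField ⊗[p.ResidueField] (p.Fiber B) ≃ₐ[P.ResidueField] P.Fiber (A' ⊗[A] B)) := by
  let p := P.under A
  haveI : P.LiesOver p := ⟨rfl⟩
  letI := Localization.AtPrime.algebraOfLiesOver p P
  exact ⟨p, inferInstance, inferInstance, rfl,
    ⟨(Algebra.TensorProduct.cancelBaseChange A p.ResidueField P.ResidueField P.ResidueField B).trans
      (Algebra.TensorProduct.cancelBaseChange A A' P.ResidueField P.ResidueField B).symm⟩⟩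

theorem isNoetherianRing_baseChange [IsNoetherianRing B] [IsNoetherianRing A']
    (hft : Algebra.FiniteType A B ∨ Algebra.FiniteType A A') : IsNoetherianRing (A' ⊗[A] B) := by
  rcases hft with h | h
  · exact Algebra.FiniteType.isNoetherianRing A' _
  · haveI : IsNoetherianRing (B ⊗[A] A') := Algebra.FiniteType.isNoetherianRing B _
    exact isNoetherianRing_of_ringEquiv (B ⊗[A] A') (Algebra.TensorProduct.comm A B A').toRingEquiv

variable [IsNoetherianRing B]

theorem isRegularHom_baseChange [IsNoetherianRing (A' ⊗[A] B)] (h : CAlg.IsRegularHom A B) :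
    CAlg.IsRegularHom A' (A' ⊗[A] B) := by
  haveI := h.1
  refine ⟨inferInstance, fun P _ => ⟨isNoetherianRing_fiber P, ?_⟩⟩
  obtain ⟨p, _, _, -, ⟨e⟩⟩ := exists_fibre_baseChange A B A' P
  haveI := isNoetherianRing_fiber (B := B) p
  haveI := isNoetherianRing_fiber (B := A' ⊗[A] B) P
  haveI := isNoetherianRing_of_ringEquiv _ e.symm.toRingEquiv
  exact geomRegular_of_algEquiv e (geomRegular_baseChange _ _ (h.2 p).2)

theorem isNormalHom_baseChange [IsNoetherianRing (A' ⊗[A] B)] (h : EGA4.IsNormalHom A B) :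
    EGA4.IsNormalHom A' (A' ⊗[A] B) := by
  haveI := h.1
  refine ⟨inferInstance, fun P _ => ?_⟩
  obtain ⟨p, _, _, -, ⟨e⟩⟩ := exists_fibre_baseChange A B A' P
  haveI := isNoetherianRing_fiber (B := B) p
  haveI := isNoetherianRing_fiber (B := A' ⊗[A] B) P
  haveI := isNoetherianRing_of_ringEquiv _ e.symm.toRingEquiv
  exact geomNormal_of_algEquiv e (geomNormal_baseChange _ _ (h.2 p))

theorem isRegularHom_of_baseChange [IsNoetherianRing (A' ⊗[A] B)] [Module.FaithfullyFlat A A']
    (h : CAlg.IsRegularHom A' (A' ⊗[A] B)) : CAlg.IsRegularHom A B := by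
  haveI := h.1
  refine ⟨Module.Flat.of_flat_tensorProduct A B A', fun p₀ _ => ⟨isNoetherianRing_fiber p₀, ?_⟩⟩
  obtain ⟨⟨P, hP'⟩, hP⟩ := PrimeSpectrum.comap_surjective_of_faithfullyFlat (A := A) (B := A') ⟨p₀, ‹_›⟩
  haveI := hP'
  obtain ⟨p, _, _, hp, ⟨e⟩⟩ := exists_fibre_baseChange A B A' P
  obtain rfl : p = p₀ := hp.trans (congrArg PrimeSpectrum.asIdeal hP)
  haveI := isNoetherianRing_fiber (B := B) p
  haveI := isNoetherianRing_fiber (B := A' ⊗[A] B) P
  haveI := isNoetherianRing_of_ringEquiv _ e.symm.toRingEquiv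
  exact geomRegular_of_baseChange _ _ (geomRegular_of_algEquiv e.symm (h.2 P).2)

theorem isNormalHom_of_baseChange [IsNoetherianRing (A' ⊗[A] B)] [Module.FaithfullyFlat A A']
    (h : EGA4.IsNormalHom A' (A' ⊗[A] B)) : EGA4.IsNormalHom A B := by
  haveI := h.1
  refine ⟨Module.Flat.of_flat_tensorProduct A B A', fun p₀ _ => ?_⟩
  obtain ⟨⟨P, hP'⟩, hP⟩ := PrimeSpectrum.comap_surjective_of_faithfullyFlat (A := A) (B := A') ⟨p₀, ‹_›⟩
  haveI := hP'
  obtain ⟨p, _, _, hp, ⟨e⟩⟩ := exists_fibre_baseChange A B A' P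
  obtain rfl : p = p₀ := hp.trans (congrArg PrimeSpectrum.asIdeal hP)
  haveI := isNoetherianRing_fiber (B := B) p
  haveI := isNoetherianRing_fiber (B := A' ⊗[A] B) P
  haveI := isNoetherianRing_of_ringEquiv _ e.symm.toRingEquiv
  exact geomNormal_of_baseChange _ _ (geomNormal_of_algEquiv e.symm (h.2 P))

end Groth.Agent.FlatDepth
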