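import Groth.Prelude.Def_EGA4b
import Groth.Agent.Lib.CplLocH7.Basic
import Mathlib

/-!
# The map of completions of a local homomorphism
-/

namespace Groth.Agent.FlatDepth

universe u

open IsLocalRing

variable (A B : Type u) [CommRing A] [CommRing B] [IsNoetherianRing A] [IsNoetherianRing B]
  [IsLocalRing A] [IsLocalRing B] [Algebra A B] [IsLocalHom (algebraMap A B)]

theorem pow_le_comap_pow (n : ℕ) :
    maximalIdeal A ^ n ≤ (maximalIdeal B ^ n).comap (algebraMap A B) := by
  rw [← Ideal.map_le_iff_le_comap, Ideal.map_pow]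
  exact Ideal.pow_right_mono (map_maximalIdeal_le (algebraMap A B)) n

/-- The level `n` map. -/
noncomputable def cplMapLevel (n : ℕ) : EGA4.Cpl A →ₐ[A] B ⧸ maximalIdeal B ^ n :=
  (Ideal.quotientMapₐ (maximalIdeal B ^ n) (Algebra.ofId A B) (pow_le_comap_pow A B n)).comp
    (AdicCompletion.evalₐ (maximalIdeal A) n)

theorem cplMapLevel_mk (n : ℕ) (x : AdicCompletion.AdicCauchySequence (maximalIdeal A) A) :
    cplMapLevel A B n (AdicCompletion.mk (maximalIdeal A) A x) =
      Ideal.Quotient.mk _ (algebraMap A B (x.val n)) :=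
  congrArg (Ideal.quotientMapₐ (maximalIdeal B ^ n) (Algebra.ofId A B) (pow_le_comap_pow A B n))
    (AdicCompletion.evalₐ_mk (maximalIdeal A) n x)

theorem cplMapLevel_compat {m n : ℕ} (h : m ≤ n) :
    (Ideal.Quotient.factorPow (maximalIdeal B) h).comp (cplMapLevel A B n).toRingHom =
      (cplMapLevel A B m).toRingHom := by
  refine RingHom.ext fun x => ?_
  obtain ⟨x, rfl⟩ := AdicCompletion.mk_surjective (maximalIdeal A) A x
  simp only [RingHom.comp_apply, AlgHom.toRingHom_eq_coe, RingHom.coe_coe]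
  refine (congrArg (Ideal.Quotient.factorPow (maximalIdeal B) h) (cplMapLevel_mk A B n x)).trans
    (Eq.trans ?_ (cplMapLevel_mk A B m x).symm)
  rw [Ideal.Quotient.factorPow, Ideal.Quotient.factor_mk, Ideal.Quotient.eq, ← map_sub]
  refine pow_le_comap_pow A B m ?_
  have := x.property h
  rw [SModEq.sub_mem, smul_eq_mul, Ideal.mul_top] at this
  rw [← neg_sub]
  exact (Ideal.neg_mem_iff _).2 this

/-- The map of completions. -/
noncomputable def cplMap : EGA4.Cpl A →+* EGA4.Cpl B :=
  AdicCompletion.liftRingHom (maximalIdeal B) (fun n => (cplMapLevel A B n).toRingHom)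
    fun h => cplMapLevel_compat A B h

theorem cplMap_algebraMap (a : A) :
    cplMap A B (algebraMap A (EGA4.Cpl A) a) = algebraMap A (EGA4.Cpl B) a := by
  refine AdicCompletion.ext_evalₐ fun n => ?_
  refine (AdicCompletion.evalₐ_liftRingHom _ _ (fun h => cplMapLevel_compat A B h) n _).trans ?_
  rw [AlgHom.toRingHom_eq_coe, RingHom.coe_coe, AlgHom.commutes,
    IsScalarTower.algebraMap_apply A B (EGA4.Cpl B), AlgHom.commutes]
  rfl

/-- The completions form a tower; the map is faithfully flat if `A → B` is flat. -/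
theorem exists_cpl_tower :
    ∃ _ : Algebra (EGA4.Cpl A) (EGA4.Cpl B), IsScalarTower A (EGA4.Cpl A) (EGA4.Cpl B) ∧
      (Module.Flat A B → Module.FaithfullyFlat (EGA4.Cpl A) (EGA4.Cpl B)) := by
  letI : Algebra (EGA4.Cpl A) (EGA4.Cpl B) := (cplMap A B).toAlgebra
  haveI : IsScalarTower A (EGA4.Cpl A) (EGA4.Cpl B) :=
    .of_algebraMap_eq fun a => (cplMap_algebraMap A B a).symm
  refine ⟨inferInstance, inferInstance, fun h => ?_⟩
  haveI : Module.Flat (EGA4.Cpl A) (EGA4.Cpl B) := (CplLocH7.flat_iff (A := A) (B := B)).2 h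
  haveI : IsLocalHom (algebraMap (EGA4.Cpl A) (EGA4.Cpl B)) := CplLocH7.isLocalHom_cpl
  exact Module.FaithfullyFlat.of_flat_of_isLocalHom

end Groth.Agent.FlatDepth
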