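import Groth.Prelude.Def_EGA4b
import Groth.Agent.Lib.CplLocH7.Basic
import Groth.Agent.Lib.Compl.Algebraize
import Mathlib

/-!
# Completion of a quotient of a noetherian local ring, and its formal fibres
-/

namespace Groth.Agent.FlatDepth

universe u

open TensorProduct IsLocalRing

variable (A : Type u) [CommRing A] [IsNoetherianRing A] [IsLocalRing A]
  (B : Type u) [CommRing B] [IsNoetherianRing B] [IsLocalRing B] [Algebra A B]
  (hs : Function.Surjective (algebraMap A B))

include hs in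
theorem map_maximalIdeal_pow_of_surjective (n : ℕ) :
    (maximalIdeal A ^ n).map (algebraMap A B) = maximalIdeal B ^ n := by
  rw [Ideal.map_pow, map_maximalIdeal_of_surjective _ hs]

/-- The comparison map at level `n`. -/
noncomputable def cplQuotLevel (n : ℕ) : EGA4.Cpl A →ₐ[A] B ⧸ maximalIdeal B ^ n :=
  (Ideal.quotientMapₐ (maximalIdeal B ^ n) (Algebra.ofId A B)
    (Ideal.map_le_iff_le_comap.1 (map_maximalIdeal_pow_of_surjective A B hs n).le)).comp
    (AdicCompletion.evalₐ (maximalIdeal A) n)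

theorem cplQuotLevel_mk (n : ℕ) (x : AdicCompletion.AdicCauchySequence (maximalIdeal A) A) :
    cplQuotLevel A B hs n (AdicCompletion.mk (maximalIdeal A) A x) =
      Ideal.Quotient.mk _ (algebraMap A B (x.val n)) :=
  congrArg (Ideal.quotientMapₐ (maximalIdeal B ^ n) (Algebra.ofId A B)
    (Ideal.map_le_iff_le_comap.1 (map_maximalIdeal_pow_of_surjective A B hs n).le))
    (AdicCompletion.evalₐ_mk (maximalIdeal A) n x)

theorem cplQuotLevel_compat {m n : ℕ} (h : m ≤ n) :
    (Ideal.Quotient.factorPow (maximalIdeal B) h).comp (cplQuotLevel A B hs n).toRingHom =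
      (cplQuotLevel A B hs m).toRingHom := by
  refine RingHom.ext fun x => ?_
  obtain ⟨x, rfl⟩ := AdicCompletion.mk_surjective (maximalIdeal A) A x
  simp only [RingHom.comp_apply, AlgHom.toRingHom_eq_coe, RingHom.coe_coe]
  refine (congrArg (Ideal.Quotient.factorPow (maximalIdeal B) h) (cplQuotLevel_mk A B hs n x)).trans
    (Eq.trans ?_ (cplQuotLevel_mk A B hs m x).symm)
  rw [Ideal.Quotient.factorPow, Ideal.Quotient.factor_mk,
    Ideal.Quotient.eq, ← map_sub, ← map_maximalIdeal_pow_of_surjective A B hs]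
  refine Ideal.mem_map_of_mem _ ?_
  have := x.property h
  rw [SModEq.sub_mem, smul_eq_mul, Ideal.mul_top] at this
  rw [← neg_sub]
  exact (Ideal.neg_mem_iff _).2 this

/-- The map of completions. -/
noncomputable def cplQuotHom : EGA4.Cpl A →+* EGA4.Cpl B :=
  AdicCompletion.liftRingHom (maximalIdeal B) (fun n => (cplQuotLevel A B hs n).toRingHom)
    fun h => cplQuotLevel_compat A B hs h

theorem evalₐ_cplQuotHom (n : ℕ) (x : EGA4.Cpl A) :
    AdicCompletion.evalₐ (maximalIdeal B) n (cplQuotHom A B hs x) = cplQuotLevel A B hs n x :=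
  AdicCompletion.evalₐ_liftRingHom _ _ (fun h => cplQuotLevel_compat A B hs h) n x

theorem cplQuotHom_algebraMap (a : A) :
    cplQuotHom A B hs (algebraMap A (EGA4.Cpl A) a) = algebraMap A (EGA4.Cpl B) a := by
  refine AdicCompletion.ext_evalₐ fun n => ?_
  rw [evalₐ_cplQuotHom, AlgHom.commutes, IsScalarTower.algebraMap_apply A B (EGA4.Cpl B),
    AlgHom.commutes]
  rfl

theorem cplQuotHom_surjective : Function.Surjective (cplQuotHom A B hs) := by
  intro y
  have hy : ∀ n, ∃ a : A, AdicCompletion.evalₐ (maximalIdeal B) n y =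
      Ideal.Quotient.mk _ (algebraMap A B a) := fun n => by
    obtain ⟨z, hz⟩ := Ideal.Quotient.mk_surjective (AdicCompletion.evalₐ (maximalIdeal B) n y)
    obtain ⟨a, rfl⟩ := hs z
    exact ⟨a, hz.symm⟩
  choose a ha using hy
  have hadj : ∀ n, a (n + 1) - a n ∈ maximalIdeal A ^ n ⊔ RingHom.ker (algebraMap A B) := by
    intro n
    obtain ⟨y', rfl⟩ := AdicCompletion.mk_surjective _ _ y
    have h1 := ha n
    have h2 := ha (n + 1)
    rw [AdicCompletion.evalₐ_mk, Ideal.Quotient.eq] at h1 h2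
    have h3 := y'.property (Nat.le_succ n)
    rw [SModEq.sub_mem, smul_eq_mul, Ideal.mul_top] at h3
    have h4 : algebraMap A B (a (n + 1) - a n) ∈ maximalIdeal B ^ n := by
      have h2' := Ideal.pow_le_pow_right (Nat.le_succ n) h2
      have := Submodule.sub_mem _ (Submodule.sub_mem _ h1 h2') h3
      rw [map_sub]
      convert this using 1
      ring
    rw [← map_maximalIdeal_pow_of_surjective A B hs, ← Ideal.mem_comap,
      Ideal.comap_map_of_surjective _ hs, ← RingHom.ker_eq_comap_bot] at h4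
    exact h4
  -- lift to a Cauchy sequence `b` of `A` with `b n ≡ a n` modulo `m ^ n + I`
  have step : ∀ n b, a n - b ∈ maximalIdeal A ^ n ⊔ RingHom.ker (algebraMap A B) →
      ∃ b', b' - b ∈ maximalIdeal A ^ n ∧ a (n + 1) - b' ∈ maximalIdeal A ^ (n + 1) ⊔ RingHom.ker (algebraMap A B) := by
    intro n b hb
    obtain ⟨t, ht, i, hi, hti⟩ := Submodule.mem_sup.1 (Submodule.add_mem _ (hadj n) hb)
    refine ⟨a (n + 1) - i, ?_, ?_⟩
    · convert ht using 1
      linear_combination -hti
    · exact Submodule.mem_sup_right (by simpa using hi)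
  choose g hg1 hg2 using step
  let b : (n : ℕ) → {x : A // a n - x ∈ maximalIdeal A ^ n ⊔ RingHom.ker (algebraMap A B)} := fun n => Nat.rec
    ⟨a 0, by rw [sub_self]; exact zero_mem _⟩ (fun k x => ⟨g k x.1 x.2, hg2 k x.1 x.2⟩) n
  have hb : AdicCompletion.IsAdicCauchy (maximalIdeal A) A (fun n => (b n).1) := by
    rw [AdicCompletion.isAdicCauchy_iff]
    intro n
    rw [SModEq.sub_mem, smul_eq_mul, Ideal.mul_top, ← neg_sub]
    exact (Ideal.neg_mem_iff _).2 (hg1 n _ (b n).2)
  refine ⟨AdicCompletion.mk _ _ ⟨_, hb⟩, AdicCompletion.ext_evalₐ fun n => ?_⟩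
  rw [evalₐ_cplQuotHom, ha]
  refine (cplQuotLevel_mk A B hs n _).trans ?_
  rw [Ideal.Quotient.eq, ← map_sub, ← map_maximalIdeal_pow_of_surjective A B hs, ← Ideal.mem_comap,
    Ideal.comap_map_of_surjective _ hs, ← RingHom.ker_eq_comap_bot, ← neg_sub]
  exact (Submodule.neg_mem_iff _).2 (b n).2

theorem ker_cplQuotHom : RingHom.ker (cplQuotHom A B hs) = (RingHom.ker (algebraMap A B)).map (algebraMap A (EGA4.Cpl A)) := by
  refine le_antisymm (fun x hx => ?_) (Ideal.map_le_iff_le_comap.2 fun a ha => ?_)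
  · let J := (RingHom.ker (algebraMap A B)).map (algebraMap A (EGA4.Cpl A))
    have hJ : J ≠ ⊤ := by
      haveI := CplLocH7.faithfullyFlat_cpl A
      intro h
      have h' := Ideal.comap_map_eq_self_of_faithfullyFlat (B := EGA4.Cpl A) (RingHom.ker (algebraMap A B))
      rw [show (RingHom.ker (algebraMap A B)).map (algebraMap A (EGA4.Cpl A)) = ⊤ from h, Ideal.comap_top] at h'
      exact (RingHom.ker_ne_top (algebraMap A B)) h'.symm
    haveI : Nontrivial (EGA4.Cpl A ⧸ J) := Ideal.Quotient.nontrivial_iff.2 hJ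
    haveI : IsLocalRing (EGA4.Cpl A ⧸ J) :=
      IsLocalRing.of_surjective' (Ideal.Quotient.mk J) Ideal.Quotient.mk_surjective
    rw [← Ideal.Quotient.eq_zero_iff_mem (I := J), ← Ideal.mem_bot,
      ← Ideal.iInf_pow_eq_bot_of_isLocalRing (maximalIdeal (EGA4.Cpl A ⧸ J)) (maximalIdeal.isMaximal _).ne_top]
    refine Ideal.mem_iInf.2 fun n => ?_
    obtain ⟨a, ha⟩ := CplLocH7.exists_sub_mem_pow n x
    have h0 : AdicCompletion.evalₐ (maximalIdeal B) n (cplQuotHom A B hs x) = 0 := by
      rw [RingHom.mem_ker.1 hx, map_zero]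
    rw [evalₐ_cplQuotHom] at h0
    have h2 : AdicCompletion.evalₐ (maximalIdeal A) n (x - algebraMap A (EGA4.Cpl A) a) = 0 := by
      rw [← Compl.mem_map_pow_iff, Ideal.map_pow, ← CplLocH7.maximalIdeal_cpl]
      exact ha
    rw [map_sub, sub_eq_zero, AlgHom.commutes] at h2
    simp only [cplQuotLevel, AlgHom.comp_apply, h2] at h0
    change Ideal.Quotient.mk _ (algebraMap A B a) = 0 at h0
    rw [Ideal.Quotient.eq_zero_iff_mem, ← map_maximalIdeal_pow_of_surjective A B hs, ← Ideal.mem_comap,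
      Ideal.comap_map_of_surjective _ hs, ← RingHom.ker_eq_comap_bot] at h0
    have h3 : x ∈ maximalIdeal (EGA4.Cpl A) ^ n ⊔ J := by
      rw [← sub_add_cancel x (algebraMap A (EGA4.Cpl A) a)]
      refine Submodule.add_mem _ (Submodule.mem_sup_left ha) ?_
      have := Ideal.mem_map_of_mem (algebraMap A (EGA4.Cpl A)) h0
      rw [Ideal.map_sup, Ideal.map_pow, ← CplLocH7.maximalIdeal_cpl] at this
      exact this
    rw [← map_maximalIdeal_of_surjective (Ideal.Quotient.mk J) Ideal.Quotient.mk_surjective,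
      ← Ideal.map_pow, ← Ideal.mem_comap,
      Ideal.comap_map_of_surjective _ Ideal.Quotient.mk_surjective, ← RingHom.ker_eq_comap_bot,
      Ideal.mk_ker]
    exact h3
  · rw [Ideal.mem_comap, RingHom.mem_ker, cplQuotHom_algebraMap,
      IsScalarTower.algebraMap_apply A B (EGA4.Cpl B), RingHom.mem_ker.1 ha, map_zero]

/-- `B ⊗_A Â ≅` the completion of a quotient `B` of `A`. -/
noncomputable def cplSurjEquiv : B ⊗[A] EGA4.Cpl A ≃ₐ[B] EGA4.Cpl B :=
  let φ : EGA4.Cpl A →ₐ[A] EGA4.Cpl B := ⟨cplQuotHom A B hs, cplQuotHom_algebraMap A B hs⟩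
  let e : (EGA4.Cpl A ⧸ (RingHom.ker (algebraMap A B)).map (algebraMap A (EGA4.Cpl A))) ≃ₐ[A] EGA4.Cpl B :=
    (Ideal.quotientEquivAlgOfEq A (ker_cplQuotHom A B hs).symm).trans
      (Ideal.quotientKerAlgEquivOfSurjective (f := φ) (cplQuotHom_surjective A B hs))
  let q : (A ⧸ RingHom.ker (algebraMap A B)) ≃ₐ[A] B :=
    Ideal.quotientKerAlgEquivOfSurjective (f := Algebra.ofId A B) hs
  let e' : B ⊗[A] EGA4.Cpl A ≃ₐ[A] EGA4.Cpl B :=
    (Algebra.TensorProduct.congr q.symm AlgEquiv.refl).trans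
      ((Algebra.TensorProduct.comm A (A ⧸ RingHom.ker (algebraMap A B)) (EGA4.Cpl A)).trans
        (((Algebra.TensorProduct.quotIdealMapEquivTensorQuot (EGA4.Cpl A)
          (RingHom.ker (algebraMap A B))).symm.restrictScalars A).trans e))
  AlgEquiv.ofRingEquiv (f := e'.toRingEquiv) fun x => by
    obtain ⟨a, rfl⟩ := hs x
    rw [← IsScalarTower.algebraMap_apply, ← IsScalarTower.algebraMap_apply]
    exact e'.commutes a

/-- `(A/I) ⊗_A Â ≅` the completion of `A/I`. -/
noncomputable def cplQuotEquiv (I : Ideal A) [Nontrivial (A ⧸ I)] :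
    (A ⧸ I) ⊗[A] EGA4.Cpl A ≃ₐ[A ⧸ I] EGA4.Cpl (A ⧸ I) :=
  cplSurjEquiv A (A ⧸ I) Ideal.Quotient.mk_surjective

/-- The fibres of a base change, after a field extension. -/
noncomputable def fiberBaseChangeEquiv {A A' B B' : Type u} [CommRing A] [CommRing A'] [CommRing B]
    [CommRing B'] [Algebra A A'] [Algebra A B] [Algebra A' B'] (e : A' ⊗[A] B ≃ₐ[A'] B')
    (p : Ideal A) [p.IsPrime] (P : Ideal A') [P.IsPrime] (K : Type u) [CommRing K]
    [Algebra P.ResidueField K] [Algebra A' K] [IsScalarTower A' P.ResidueField K]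
    [Algebra A K] [IsScalarTower A A' K] [Algebra p.ResidueField K] [IsScalarTower A p.ResidueField K] :
    K ⊗[P.ResidueField] (P.Fiber B') ≃+* K ⊗[p.ResidueField] (p.Fiber B) :=
  ((Algebra.TensorProduct.cancelBaseChange A' P.ResidueField K K B').toRingEquiv.trans
    (Algebra.TensorProduct.congr (AlgEquiv.refl : K ≃ₐ[A'] K) e.symm).toRingEquiv).trans
    ((Algebra.TensorProduct.cancelBaseChange A A' K K B).toRingEquiv.trans
      (Algebra.TensorProduct.cancelBaseChange A p.ResidueField K K B).symm.toRingEquiv)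

end Groth.Agent.FlatDepth
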