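import Groth.Agent.Lib.FlatDepth.RkFlat
import Groth.Agent.Lib.FlatDepth.CM
import Groth.Prelude.Def_EGA4b
import Mathlib

/-!
# Normal, reduced and regular rings along flat maps with such fibres
-/

namespace Groth.Agent.FlatDepth

universe u

open IsLocalRing TensorProduct

section

variable {A B : Type u} [CommRing A] [CommRing B] [Algebra A B]

/-- The local ring of a fibre ring, for the fibre local ring. -/
theorem exists_fibLoc_equiv (q : Ideal B) [q.IsPrime] :
    ∃ (p : Ideal A) (_ : p.IsPrime) (Q : Ideal (p.Fiber B)) (_ : Q.IsPrime),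
      Nonempty (Localization.AtPrime Q ≃+* EGA4.FibLocRing A B q) := by
  let p : PrimeSpectrum A := PrimeSpectrum.comap (algebraMap A B) ⟨q, ‹_›⟩
  let Q := PrimeSpectrum.preimageEquivFiber A B p ⟨⟨q, ‹_›⟩, rfl⟩
  have hQ : Q.asIdeal.comap (Algebra.TensorProduct.includeRight : B →ₐ[A] p.asIdeal.Fiber B) = q :=
    congrArg (fun x => x.1.asIdeal)
      ((PrimeSpectrum.preimageEquivFiber A B p).symm_apply_apply ⟨⟨q, ‹_›⟩, rfl⟩)
  have key : ∀ (a : Ideal B) [a.IsPrime], a = q →
      Nonempty (Localization.AtPrime Q.asIdeal ≃+* EGA4.FibLocRing A B a) →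
      Nonempty (Localization.AtPrime Q.asIdeal ≃+* EGA4.FibLocRing A B q) := by
    intro a _ e h; subst e; exact h
  refine ⟨p.asIdeal, p.2, Q.asIdeal, Q.2, key _ hQ
    ⟨(Ideal.Fiber.algEquivAux₂ p.asIdeal Q.asIdeal).toRingEquiv.trans (Ideal.quotEquivOfEq ?_)⟩⟩
  have hp : (Q.asIdeal.comap (Algebra.TensorProduct.includeRight : B →ₐ[A] p.asIdeal.Fiber B)).comap
      (algebraMap A B) = p.asIdeal := by rw [hQ]; rfl
  rw [Ideal.map_map, ← IsScalarTower.algebraMap_eq, hp]

variable [IsNoetherianRing A] [IsNoetherianRing B]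

theorem normalRing_iff_rk_sk (R : Type u) [CommRing R] [IsNoetherianRing R] :
    EGA4.IsNormalRing R ↔ ∀ (q : Ideal R) [q.IsPrime], RkAt 1 R q ∧ SkAt 2 R q :=
  ⟨fun h q _ => (normalAt_iff q).1 (h q), fun h q _ => (normalAt_iff q).2 (h q)⟩

theorem normal_of_flat_fibres [Module.Flat A B] (hA : EGA4.IsNormalRing A)
    (hf : ∀ (p : Ideal A) [p.IsPrime], EGA4.IsNormalRing (p.Fiber B)) : EGA4.IsNormalRing B := by
  have hn : ∀ (q : Ideal B) [q.IsPrime], LocCoh.HasRk 1 (EGA4.FibLocRing A B q) ∧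
      LocCoh.HasSk 2 (EGA4.FibLocRing A B q) (EGA4.FibLocRing A B q) := fun q _ => by
    obtain ⟨p, _, Q, _, ⟨e⟩⟩ := exists_fibLoc_equiv (A := A) q
    obtain ⟨h1, h2⟩ := hf p Q
    haveI : IsDomain (EGA4.FibLocRing A B q) := MulEquiv.isDomain _ e.symm.toMulEquiv
    exact SerreCrit.normal_iff.1 ((normal_localRing_iff _).2 ⟨inferInstance, IsIntegrallyClosed.of_equiv (R := Localization.AtPrime Q) e⟩)
  intro q _
  obtain ⟨h1, h2⟩ := (normalAt_iff (q.comap (algebraMap A B))).1 (hA _)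
  exact (normalAt_iff q).2 ⟨rkAt_of_fibres q h1 fun q' _ _ hk => rkAt_self (hn q').1 hk,
    skAt_of_fibres q h2 fun q' _ _ => skIneq_self (hn q').2⟩

theorem normal_of_faithfullyFlat [Module.FaithfullyFlat A B] (hB : EGA4.IsNormalRing B) :
    EGA4.IsNormalRing A := by
  intro p _
  obtain ⟨⟨q, hq'⟩, hq⟩ := PrimeSpectrum.comap_surjective_of_faithfullyFlat (A := A) (B := B) ⟨p, ‹_›⟩
  obtain rfl : q.comap (algebraMap A B) = p := congrArg PrimeSpectrum.asIdeal hq
  haveI := hq'
  obtain ⟨h1, h2⟩ := (normalAt_iff q).1 (hB q)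
  exact (normalAt_iff _).2 ⟨rkAt_base q h1, skAt_base q h2⟩

theorem reduced_of_flat_fibres [Module.Flat A B] [IsReduced A]
    (hf : ∀ (p : Ideal A) [p.IsPrime], IsReduced (p.Fiber B)) : IsReduced B := by
  have hn : ∀ (q : Ideal B) [q.IsPrime], LocCoh.HasRk 0 (EGA4.FibLocRing A B q) ∧
      LocCoh.HasSk 1 (EGA4.FibLocRing A B q) (EGA4.FibLocRing A B q) := fun q _ => by
    obtain ⟨p, _, Q, _, ⟨e⟩⟩ := exists_fibLoc_equiv (A := A) q
    haveI := hf p
    haveI : IsReduced (Localization.AtPrime Q) := isReduced_localizationPreserves Q.primeCompl (Localization.AtPrime Q) inferInstance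
    exact SerreCrit.isReduced_iff.1 (isReduced_of_injective e.symm.toRingHom e.symm.injective)
  refine isReduced_ofLocalizationMaximal _ fun q _ => (reducedAt_iff q).2 ?_
  obtain ⟨h1, h2⟩ := (reducedAt_iff (q.comap (algebraMap A B))).1
    (isReduced_localizationPreserves (q.comap (algebraMap A B)).primeCompl (Localization.AtPrime (q.comap (algebraMap A B))) ‹IsReduced A›)
  exact ⟨rkAt_of_fibres q h1 fun q' _ _ hk => rkAt_self (hn q').1 hk,
    skAt_of_fibres q h2 fun q' _ _ => skIneq_self (hn q').2⟩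

theorem regular_of_flat_fibres [Module.Flat A B] [IsRegularRing A]
    (hf : ∀ (p : Ideal A) [p.IsPrime], IsRegularRing (p.Fiber B)) : IsRegularRing B := by
  rw [isRegularRing_iff]
  intro q _
  obtain ⟨p, _, Q, _, ⟨e⟩⟩ := exists_fibLoc_equiv (A := A) q
  haveI := hf p
  haveI : IsRegularLocalRing (EGA4.FibLocRing A B q) := IsRegularLocalRing.of_ringEquiv (R := Localization.AtPrime Q) e
  exact regular_of_fibre (A := A) q

theorem regular_of_faithfullyFlat [Module.FaithfullyFlat A B] [IsRegularRing B] : IsRegularRing A := by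
  rw [isRegularRing_iff]
  intro p _
  obtain ⟨⟨q, hq'⟩, hq⟩ := PrimeSpectrum.comap_surjective_of_faithfullyFlat (A := A) (B := B) ⟨p, ‹_›⟩
  obtain rfl : q.comap (algebraMap A B) = p := congrArg PrimeSpectrum.asIdeal hq
  haveI := hq'
  obtain ⟨k, hk⟩ := WithTop.ne_top_iff_exists.1 (Ideal.height_ne_top (I := q.comap (algebraMap A B))
    (Ideal.IsPrime.ne_top inferInstance))
  exact rkAt_base (k := k) q (fun q' _ _ _ => inferInstance) _ le_rfl hk.ge

end

end Groth.Agent.FlatDepth
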