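import Groth.Agent.Lib.FlatDepth.QuotLoc
import Groth.Agent.Lib.Depth.Basic
import Groth.Agent.Lib.Depth.More
import Groth.Agent.Lib.Depth.CM
import Groth.Agent.Lib.Depth.Devissage
import Mathlib

/-!
# Depth and dimension along `V(p)`, generically

For a finite module `M` over a Noetherian ring and a prime `p` there is `g ∉ p` such that for the primes
`q ⊇ p` with `g ∉ q`, `depth M_q ≥ depth M_p + depth (A/p)_q` and `dim M_q ≤ dim M_p + dim (A/p)_q`.
-/

namespace Groth.Agent.FlatDepth

universe u

open IsLocalRing Pointwise CategoryTheory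

section Basic

theorem mk_eq_zero' {A M : Type u} [CommRing A] [AddCommGroup M] [Module A M] {S : Submonoid A} {m : M} {s : S} :
    LocalizedModule.mk m s = 0 ↔ ∃ u : S, (u : A) • m = 0 := by
  rw [← LocalizedModule.zero_mk (1 : S), LocalizedModule.mk_eq]
  simp [Submonoid.smul_def]

variable {A : Type u} [CommRing A] (q : Ideal A) [q.IsPrime] (M : Type u) [AddCommGroup M] [Module A M]

/-- `depth M_q`. -/
noncomputable abbrev depthAt : ℕ∞ :=
  LocCoh.depth (Localization.AtPrime q) (LocalizedModule q.primeCompl M)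

/-- `dim M_q`. -/
noncomputable abbrev dimAt : WithBot ℕ∞ :=
  Module.supportDim (Localization.AtPrime q) (LocalizedModule q.primeCompl M)

variable {M}

theorem subsingleton_at {g : A} (hg : ∀ m : M, g • m = 0) (hgq : g ∉ q) :
    Subsingleton (LocalizedModule q.primeCompl M) :=
  LocalizedModule.subsingleton_iff.2 fun m => ⟨g, hgq, hg m⟩

theorem depthAt_eq_top [Subsingleton (LocalizedModule q.primeCompl M)] : depthAt q M = ⊤ :=
  DepthLib.idealDepth_of_smul_top_eq_top (Subsingleton.elim _ _)

theorem isSMulRegular_at {x g : A} (hg : ∀ m : M, x • m = 0 → g • m = 0) (hgq : g ∉ q) :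
    IsSMulRegular (LocalizedModule q.primeCompl M) (algebraMap A (Localization.AtPrime q) x) := by
  refine IsSMulRegular.of_right_eq_zero_of_smul fun z hz => ?_
  induction z using LocalizedModule.induction_on with
  | h m s =>
    rw [algebraMap_smul, LocalizedModule.smul'_mk, mk_eq_zero'] at hz
    obtain ⟨u, hu, hu'⟩ : ∃ u : A, u ∉ q ∧ u • x • m = 0 := by
      obtain ⟨u, hu⟩ := hz
      exact ⟨u, u.2, hu⟩
    refine mk_eq_zero'.2 ⟨⟨g * u, q.primeCompl.mul_mem hgq hu⟩, ?_⟩
    show (g * u) • m = 0
    rw [mul_smul]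
    exact hg _ (by rw [smul_comm]; exact hu')

/-- `(M / x M)_q = M_q / x M_q`. -/
noncomputable def quotSMulTopAtEquiv (x : A) :
    LocalizedModule q.primeCompl (QuotSMulTop x M) ≃ₗ[Localization.AtPrime q]
      QuotSMulTop (algebraMap A (Localization.AtPrime q) x) (LocalizedModule q.primeCompl M) :=
  ((IsLocalizedModule.mapEquiv q.primeCompl (LocalizedModule.mkLinearMap q.primeCompl _)
      (LocalizedModule.mkLinearMap q.primeCompl _) (Localization.AtPrime q)
      (Submodule.quotEquivOfEq _ _ (Submodule.ideal_span_singleton_smul x (⊤ : Submodule A M)).symm)).trans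
    (localizeQuotModEquiv M (Ideal.span {x}) q.primeCompl)).trans
    (Submodule.quotEquivOfEq _ _ (by rw [Ideal.map_span, Set.image_singleton, Submodule.ideal_span_singleton_smul]))

variable [IsNoetherianRing A] [Module.Finite A M]

theorem depthAt_quotSMulTop {x : A} (hxq : x ∈ q)
    (hreg : IsSMulRegular (LocalizedModule q.primeCompl M) (algebraMap A (Localization.AtPrime q) x)) :
    depthAt q (QuotSMulTop x M) + 1 = depthAt q M := by
  rw [depthAt, depthAt, LocCoh.depth, LocCoh.depth, DepthLib.idealDepth_congr (quotSMulTopAtEquiv q x)]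
  exact DepthLib.idealDepth_quotSMulTop_add_one
    ((IsLocalization.AtPrime.to_map_mem_maximal_iff _ q x).2 hxq) hreg

theorem dimAt_quotSMulTop {x : A} (hxq : x ∈ q)
    (hreg : IsSMulRegular (LocalizedModule q.primeCompl M) (algebraMap A (Localization.AtPrime q) x)) :
    dimAt q (QuotSMulTop x M) + 1 = dimAt q M := by
  rw [dimAt, dimAt, Module.supportDim_eq_of_equiv (quotSMulTopAtEquiv q x)]
  exact Module.supportDim_quotSMulTop_succ_eq_supportDim hreg
    ((IsLocalization.AtPrime.to_map_mem_maximal_iff _ q x).2 hxq)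

end Basic

section Exact

variable {A : Type u} [CommRing A] {N₁ N₂ N₃ : Type u} [AddCommGroup N₁] [Module A N₁] [AddCommGroup N₂]
  [Module A N₂] [AddCommGroup N₃] [Module A N₃]

theorem supportDim_le_max (f : N₁ →ₗ[A] N₂) (g : N₂ →ₗ[A] N₃) (h : Function.Exact f g) :
    Module.supportDim A N₂ ≤ max (Module.supportDim A N₁) (Module.supportDim A N₃) := by
  unfold Module.supportDim Order.krullDim
  refine iSup_le fun l => ?_
  have hl : ∀ i, (l.toFun 0).1 ≤ (l.toFun i).1 := fun i => l.head_le i
  by_cases h1 : (l.toFun 0).1 ∈ Module.support A N₁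
  · exact le_trans (le_iSup (fun l : LTSeries (Module.support A N₁) => (l.length : WithBot ℕ∞))
      { length := l.length
        toFun := fun i => ⟨(l.toFun i).1, Module.mem_support_mono (hl i) h1⟩
        step := fun i => l.step i }) (le_max_left _ _)
  · have h3 : (l.toFun 0).1 ∈ Module.support A N₃ := by
      by_contra h3
      rw [Module.notMem_support_iff] at h1 h3
      refine Module.notMem_support_iff.2 ?_ (l.toFun 0).2
      exact subsingleton_of_forall_eq 0 fun z => by
        have he := LocalizedModule.map_exact (l.toFun 0).1.asIdeal.primeCompl f g h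
        obtain ⟨w, rfl⟩ := (he z).1 (Subsingleton.elim _ _)
        rw [Subsingleton.elim w 0, map_zero]
    exact le_trans (le_iSup (fun l : LTSeries (Module.support A N₃) => (l.length : WithBot ℕ∞))
      { length := l.length
        toFun := fun i => ⟨(l.toFun i).1, Module.mem_support_mono (hl i) h3⟩
        step := fun i => l.step i }) (le_max_right _ _)

variable (q : Ideal A) [q.IsPrime] (f : N₁ →ₗ[A] N₂) (g : N₂ →ₗ[A] N₃)

theorem dimAt_exact (hf : Function.Injective f) (hg : Function.Surjective g) (h : Function.Exact f g) :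
    dimAt q N₂ = max (dimAt q N₁) (dimAt q N₃) :=
  le_antisymm (supportDim_le_max (LocalizedModule.map q.primeCompl f) (LocalizedModule.map q.primeCompl g)
      (LocalizedModule.map_exact q.primeCompl f g h))
    (max_le (Module.supportDim_le_of_injective _ (LocalizedModule.map_injective q.primeCompl f hf))
      (Module.supportDim_le_of_surjective _ (LocalizedModule.map_surjective q.primeCompl g hg)))

theorem depthAt_exact [IsNoetherianRing A] [Module.Finite A N₁] [Module.Finite A N₂] [Module.Finite A N₃]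
    (hf : Function.Injective f) (hg : Function.Surjective g) (h : Function.Exact f g) :
    min (depthAt q N₁) (depthAt q N₃) ≤ depthAt q N₂ :=
  (DepthLib.idealDepth_shortExact (DepthLib.shortExact_of_linearMap
    (f := LocalizedModule.map q.primeCompl f) (g := LocalizedModule.map q.primeCompl g)
    (LocalizedModule.map_injective q.primeCompl f hf) (LocalizedModule.map_surjective q.primeCompl g hg)
    (LocalizedModule.map_exact q.primeCompl f g h))).1

end Exact

section Generic

variable {A : Type u} [CommRing A] [IsNoetherianRing A] (p : Ideal A) [p.IsPrime]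

/-- The two bounds near `p`. -/
def Bound (M : Type u) [AddCommGroup M] [Module A M] : Prop :=
  ∃ g ∉ p, ∀ (q : Ideal A) [q.IsPrime], p ≤ q → g ∉ q →
    depthAt q (A ⧸ p) ≤ depthAt q M ∧ dimAt q M ≤ dimAt p M + dimAt q (A ⧸ p)

theorem bound_of_notMem {M : Type u} [AddCommGroup M] [Module A M] {g : A}
    (hg : ∀ m : M, g • m = 0) (hgp : g ∉ p) : Bound p M := by
  refine ⟨g, hgp, fun q _ _ hgq => ?_⟩
  haveI := subsingleton_at q hg hgq
  refine ⟨?_, ?_⟩
  · rw [depthAt_eq_top q (M := M)]; exact le_top
  · rw [dimAt, Module.supportDim_eq_bot_of_subsingleton]; exact bot_le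

theorem bound_exact {N₁ N₂ N₃ : Type u} [AddCommGroup N₁] [Module A N₁] [Module.Finite A N₁]
    [AddCommGroup N₂] [Module A N₂] [Module.Finite A N₂] [AddCommGroup N₃] [Module A N₃] [Module.Finite A N₃]
    (f : N₁ →ₗ[A] N₂) (g : N₂ →ₗ[A] N₃)
    (hf : Function.Injective f) (hg : Function.Surjective g) (h : Function.Exact f g)
    (h₁ : Bound p N₁) (h₃ : Bound p N₃) : Bound p N₂ := by
  obtain ⟨a, ha, ha'⟩ := h₁
  obtain ⟨b, hb, hb'⟩ := h₃
  refine ⟨a * b, fun hm => (Ideal.IsPrime.mem_or_mem ‹_› hm).elim ha hb, fun q _ hle hq => ?_⟩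
  obtain ⟨d1, e1⟩ := ha' q hle fun h => hq (q.mul_mem_right _ h)
  obtain ⟨d3, e3⟩ := hb' q hle fun h => hq (q.mul_mem_left _ h)
  refine ⟨(le_min d1 d3).trans (depthAt_exact q f g hf hg h), ?_⟩
  rw [dimAt_exact q f g hf hg h, dimAt_exact p f g hf hg h]
  exact max_le (e1.trans (by gcongr; exact le_max_left _ _)) (e3.trans (by gcongr; exact le_max_right _ _))

theorem exists_bound (M : Type u) [AddCommGroup M] [Module A M] [Module.Finite A M] : Bound p M := by
  suffices H : ∀ (I : Ideal A) (M : Type u) [AddCommGroup M] [Module A M] [Module.Finite A M],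
      I ≤ Module.annihilator A M → Bound p M from H ⊥ M bot_le
  intro I
  induction I using IsNoetherian.induction with
  | hgt I ih =>
  intro M _ _ _ hI
  refine IsNoetherianRing.induction_on_isQuotientEquivQuotientPrime A (M := M) inferInstance
    (motive := fun N _ _ _ => I ≤ Module.annihilator A N → Bound p N) ?_ ?_ ?_ hI
  · intro N _ _ _ _ _
    exact bound_of_notMem p (g := 1) (fun _ => Subsingleton.elim _ _) ((Ideal.ne_top_iff_one p).1 ‹p.IsPrime›.ne_top)
  · intro N _ _ _ P e hIN
    have hPann : Module.annihilator A N = P.asIdeal := by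
      rw [e.annihilator_eq, Ideal.annihilator_quotient]
    rw [hPann] at hIN
    by_cases hPp : P.asIdeal ≤ p
    swap
    · obtain ⟨g, hg, hgp⟩ := SetLike.not_le_iff_exists.1 hPp
      exact bound_of_notMem p (fun m => Module.mem_annihilator.1 (hPann ▸ hg) m) hgp
    rcases eq_or_lt_of_le hPp with hP | hP
    · subst hP
      refine ⟨1, (Ideal.ne_top_iff_one _).1 P.2.ne_top, fun q _ _ _ => ?_⟩
      let eq' : ∀ (r : Ideal A) [r.IsPrime],
          LocalizedModule r.primeCompl N ≃ₗ[Localization.AtPrime r] LocalizedModule r.primeCompl (A ⧸ P.asIdeal) :=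
        fun r _ => IsLocalizedModule.mapEquiv r.primeCompl (LocalizedModule.mkLinearMap r.primeCompl _)
          (LocalizedModule.mkLinearMap r.primeCompl _) (Localization.AtPrime r) e
      refine ⟨(DepthLib.idealDepth_congr (eq' q)).ge, ?_⟩
      rw [dimAt, Module.supportDim_eq_of_equiv (eq' q)]
      refine le_add_of_nonneg_left ?_
      haveI : Nontrivial (LocalizedModule P.asIdeal.primeCompl N) :=
        Module.mem_support_iff.1 (show P ∈ Module.support A N by
          rw [Module.support_eq_zeroLocus, hPann, PrimeSpectrum.mem_zeroLocus])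
      obtain ⟨k, hk⟩ := DepthLib.exists_supportDim_eq_natCast (R := Localization.AtPrime P.asIdeal)
        (M := LocalizedModule P.asIdeal.primeCompl N)
      rw [dimAt, hk]
      exact_mod_cast Nat.zero_le k
    · obtain ⟨x, hxp, hxP⟩ := Set.exists_of_ssubset (SetLike.coe_ssubset_coe.2 hP)
      have hxP' : x ∉ P.asIdeal := hxP
      have hreg : ∀ m : N, x • m = 0 → (1 : A) • m = 0 := by
        intro m hm
        obtain ⟨a, ha⟩ := Ideal.Quotient.mk_surjective (e m)
        have h2 : e (x • m) = 0 := by rw [hm, map_zero]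
        rw [map_smul, ← ha, Algebra.smul_def, Ideal.Quotient.algebraMap_eq, ← map_mul,
          Ideal.Quotient.eq_zero_iff_mem] at h2
        rw [one_smul, ← e.map_eq_zero_iff, ← ha, Ideal.Quotient.eq_zero_iff_mem]
        exact (P.2.mem_or_mem h2).resolve_left hxP'
      have hlt : I < I ⊔ Ideal.span {x} := lt_of_le_not_ge le_sup_left fun h =>
        hxP' (hIN (h (Ideal.mem_sup_right (Ideal.mem_span_singleton_self x))))
      obtain ⟨g, hgp, hg⟩ := ih _ hlt (QuotSMulTop x N) (sup_le ((hPann ▸ hIN).trans
          (LinearMap.annihilator_le_of_surjective _ (Submodule.mkQ_surjective (x • (⊤ : Submodule A N))))) (by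
        rw [Ideal.span_le, Set.singleton_subset_iff, SetLike.mem_coe, Module.mem_annihilator]
        intro z
        obtain ⟨w, rfl⟩ := Submodule.Quotient.mk_surjective _ z
        rw [← Submodule.Quotient.mk_smul, Submodule.Quotient.mk_eq_zero]
        exact Submodule.smul_mem_pointwise_smul w x _ trivial))
      refine ⟨g, hgp, fun q _ hle hgq => ?_⟩
      obtain ⟨h1, h2⟩ := hg q hle hgq
      have rq := isSMulRegular_at q (x := x) hreg ((Ideal.ne_top_iff_one q).1 ‹q.IsPrime›.ne_top)
      have rp := isSMulRegular_at p (x := x) hreg ((Ideal.ne_top_iff_one p).1 ‹p.IsPrime›.ne_top)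
      rw [← depthAt_quotSMulTop q (hle hxp) rq, ← dimAt_quotSMulTop q (hle hxp) rq, ← dimAt_quotSMulTop p hxp rp]
      exact ⟨h1.trans le_self_add, by rw [add_right_comm]; gcongr⟩
  · intro N₁ _ _ _ N₂ _ _ _ N₃ _ _ _ f g hf hg h h₁ h₃ hI2
    exact bound_exact p f g hf hg h (h₁ (hI2.trans (LinearMap.annihilator_le_of_injective f hf)))
      (h₃ (hI2.trans (LinearMap.annihilator_le_of_surjective g hg)))

/-- An element regular at `p` is regular nearby. -/
theorem exists_regular_nhd {M : Type u} [AddCommGroup M] [Module A M] [Module.Finite A M] (x : A)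
    (hx : IsSMulRegular (LocalizedModule p.primeCompl M) (algebraMap A (Localization.AtPrime p) x)) :
    ∃ g ∉ p, ∀ m : M, x • m = 0 → g • m = 0 := by
  classical
  obtain ⟨s, hs⟩ := (IsNoetherian.noetherian (LinearMap.ker (LinearMap.lsmul A M x)) :
    (LinearMap.ker (LinearMap.lsmul A M x)).FG)
  have : ∀ m : s, ∃ t ∈ p.primeCompl, t • (m : M) = 0 := fun m => by
    have h0 : x • (m : M) = 0 :=
      LinearMap.mem_ker.1 (show (m : M) ∈ LinearMap.ker (LinearMap.lsmul A M x) from hs ▸ Submodule.subset_span m.2)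
    have : LocalizedModule.mk (m : M) (1 : p.primeCompl) = 0 := hx.right_eq_zero_of_smul (by
      rw [algebraMap_smul, LocalizedModule.smul'_mk, h0, LocalizedModule.zero_mk])
    obtain ⟨t, ht⟩ := mk_eq_zero'.1 this
    exact ⟨t, t.2, ht⟩
  choose t ht ht' using this
  refine ⟨∏ m : s, t m, (prod_mem fun m _ => ht m : ∏ m : s, t m ∈ p.primeCompl), fun m hm => ?_⟩
  have hmem : m ∈ Submodule.span A (s : Set M) := hs.symm ▸ (LinearMap.mem_ker.2 hm)
  exact (Submodule.span_le (p := LinearMap.ker (LinearMap.lsmul A M (∏ m : s, t m)))).2 (fun z hz => by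
    obtain ⟨c, hc⟩ := Finset.dvd_prod_of_mem t (Finset.mem_univ (⟨z, hz⟩ : s))
    rw [SetLike.mem_coe, LinearMap.mem_ker, LinearMap.lsmul_apply, hc, mul_comm, mul_smul, ht' ⟨z, hz⟩, smul_zero]) hmem

/-- `depth M_q ≥ depth M_p + depth (A/p)_q` near `p`. -/
theorem exists_depth_add_le (M : Type u) [AddCommGroup M] [Module A M] [Module.Finite A M] :
    ∃ g ∉ p, ∀ (q : Ideal A) [q.IsPrime], p ≤ q → g ∉ q →
      depthAt p M + depthAt q (A ⧸ p) ≤ depthAt q M := by
  rcases subsingleton_or_nontrivial (LocalizedModule p.primeCompl M) with h | h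
  · obtain ⟨g, hg, hg'⟩ := exists_regular_nhd p (M := M) 0
      (fun _ _ _ => Subsingleton.elim _ _)
    refine ⟨g, hg, fun q _ _ hq => ?_⟩
    haveI := subsingleton_at q (fun m : M => hg' m (zero_smul _ _)) hq
    rw [depthAt_eq_top q (M := M)]
    exact le_top
  obtain ⟨d, hd⟩ := DepthLib.exists_depth_eq_natCast (R := Localization.AtPrime p) (M := LocalizedModule p.primeCompl M)
  clear h
  change depthAt p M = d at hd
  induction d generalizing M with
  | zero =>
    obtain ⟨g, hg, hg'⟩ := exists_bound p M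
    refine ⟨g, hg, fun q _ hle hq => ?_⟩
    rw [hd, Nat.cast_zero, zero_add]
    exact (hg' q hle hq).1
  | succ d ih =>
    have hne : maximalIdeal (Localization.AtPrime p) • (⊤ : Submodule (Localization.AtPrime p)
        (LocalizedModule p.primeCompl M)) ≠ ⊤ := fun h => by
      rw [depthAt, LocCoh.depth, DepthLib.idealDepth_of_smul_top_eq_top h] at hd
      exact ENat.coe_ne_top _ hd.symm
    obtain ⟨x', hx', hreg'⟩ := DepthLib.exists_isSMulRegular_of_one_le_idealDepth hne (by
      show 1 ≤ depthAt p M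
      rw [hd]; exact_mod_cast Nat.succ_le_succ (Nat.zero_le d))
    obtain ⟨⟨a, s⟩, has⟩ := IsLocalization.surj p.primeCompl x'
    have hap : a ∈ p := by
      refine (IsLocalization.AtPrime.to_map_mem_maximal_iff (Localization.AtPrime p) p a).1 ?_
      rw [← has]; exact Ideal.mul_mem_right _ _ hx'
    have hreg : IsSMulRegular (LocalizedModule p.primeCompl M) (algebraMap A (Localization.AtPrime p) a) := by
      rw [← has]
      exact hreg'.mul ((IsLocalization.map_units _ s).isSMulRegular _)
    obtain ⟨g₁, hg₁, hg₁'⟩ := exists_regular_nhd p a hreg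
    have hd' : depthAt p (QuotSMulTop a M) = d := by
      have := depthAt_quotSMulTop p hap hreg
      rw [hd, Nat.cast_succ] at this
      exact ENat.add_left_injective_of_ne_top ENat.one_ne_top this
    obtain ⟨g₂, hg₂, hg₂'⟩ := ih (QuotSMulTop a M) hd'
    refine ⟨g₁ * g₂, fun hm => (Ideal.IsPrime.mem_or_mem ‹_› hm).elim hg₁ hg₂, fun q _ hle hq => ?_⟩
    rw [hd, Nat.cast_succ, add_right_comm, ← hd',
      ← depthAt_quotSMulTop q (hle hap) (isSMulRegular_at q hg₁' fun h => hq (q.mul_mem_right _ h))]
    gcongr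
    exact hg₂' q hle fun h => hq (q.mul_mem_left _ h)

/-- `dim M_q ≤ dim M_p + dim (A/p)_q` near `p`. -/
theorem exists_dim_le_add (M : Type u) [AddCommGroup M] [Module A M] [Module.Finite A M] :
    ∃ g ∉ p, ∀ (q : Ideal A) [q.IsPrime], p ≤ q → g ∉ q →
      dimAt q M ≤ dimAt p M + dimAt q (A ⧸ p) := by
  obtain ⟨g, hg, hg'⟩ := exists_bound p M
  exact ⟨g, hg, fun q _ h1 h2 => (hg' q h1 h2).2⟩

end Generic

end Groth.Agent.FlatDepth
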