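import Groth.Agent.Lib.FlatDepth.FieldExt
import Mathlib

/-!
# Geometric regularity and normality under arbitrary field extensions; tensor products
-/

namespace Groth.Agent.FlatDepth

universe u

open IsLocalRing TensorProduct

section Extended

variable {A B : Type u} [CommRing A] [CommRing B] [Algebra A B] [IsNoetherianRing A] [IsNoetherianRing B]
  [Module.Flat A B]

/-- At a prime extended from the base, the local rings have the same dimension and depth. -/
theorem invariants_of_extended (q : Ideal B) [q.IsPrime]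
    (hq : (q.comap (algebraMap A B)).map (algebraMap A B) = q) :
    IsRegularLocalRing (EGA4.FibLocRing A B q) ∧
    LocCoh.depth (Localization.AtPrime q) (Localization.AtPrime q) =
      LocCoh.depth (Localization.AtPrime (q.comap (algebraMap A B))) (Localization.AtPrime (q.comap (algebraMap A B))) ∧
    ringKrullDim (Localization.AtPrime q) = ringKrullDim (Localization.AtPrime (q.comap (algebraMap A B))) := by
  have hI : (q.comap (algebraMap A B)).map (algebraMap A (Localization.AtPrime q)) =
      maximalIdeal (Localization.AtPrime q) := by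
    rw [IsScalarTower.algebraMap_eq A B (Localization.AtPrime q), ← Ideal.map_map, hq,
      Localization.AtPrime.map_eq_maximalIdeal]
  haveI : ((q.comap (algebraMap A B)).map (algebraMap A (Localization.AtPrime q))).IsMaximal :=
    hI ▸ IsLocalRing.maximalIdeal.isMaximal _
  letI : Field (EGA4.FibLocRing A B q) := Ideal.Quotient.field _
  obtain ⟨hd, hdim⟩ := ring_invariants (A := A) q
  have hf0 : ringKrullDim (EGA4.FibLocRing A B q) = 0 := ringKrullDim_eq_zero_of_field _
  have hd0 : LocCoh.depth (EGA4.FibLocRing A B q) (EGA4.FibLocRing A B q) = 0 :=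
    nonpos_iff_eq_zero.1 (WithBot.coe_le_coe.1 (DepthLib.depth_le_supportDim.trans
      ((Module.supportDim_self_eq_ringKrullDim _).le.trans hf0.le)))
  rw [hd0, add_zero] at hd
  rw [hf0, add_zero] at hdim
  exact ⟨inferInstance, hd, hdim⟩

theorem regularAt_of_extended [IsRegularRing A] (q : Ideal B) [q.IsPrime]
    (hq : (q.comap (algebraMap A B)).map (algebraMap A B) = q) :
    IsRegularLocalRing (Localization.AtPrime q) := by
  haveI := (invariants_of_extended (A := A) q hq).1
  exact regular_of_fibre (A := A) q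

theorem rk_sk_of_extended (hA : EGA4.IsNormalRing A) (q : Ideal B) [q.IsPrime]
    (hq : (q.comap (algebraMap A B)).map (algebraMap A B) = q) :
    (q.height ≤ 1 → IsRegularLocalRing (Localization.AtPrime q)) ∧ SkIneq 2 (Localization.AtPrime q) := by
  obtain ⟨hf, hd, hdim⟩ := invariants_of_extended (A := A) q hq
  obtain ⟨h1, h2⟩ := (normalAt_iff (q.comap (algebraMap A B))).1 (hA _)
  refine ⟨fun hk => ?_, ?_⟩
  · haveI := hf
    rw [IsLocalization.AtPrime.ringKrullDim_eq_height q,
      IsLocalization.AtPrime.ringKrullDim_eq_height (q.comap (algebraMap A B))] at hdim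
    haveI := h1 (q.comap (algebraMap A B)) le_rfl (WithBot.coe_injective hdim ▸ hk)
    exact regular_of_fibre (A := A) q
  · have := h2 (q.comap (algebraMap A B)) le_rfl
    rw [SkIneq] at this ⊢
    rwa [hd, hdim]

end Extended

section Union

variable {k : Type u} [Field k] (K : Type u) [Field K] [Algebra k K] (S : Type u) [CommRing S] [Algebra k S]
  [IsNoetherianRing (K ⊗[k] S)]

omit [IsNoetherianRing (K ⊗[k] S)] in
theorem flat_map_tensor (L : Type u) [Field L] [Algebra k L] [Algebra L K] [IsScalarTower k L K] :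
    (Algebra.TensorProduct.map (IsScalarTower.toAlgHom k L K) (AlgHom.id k S)).toRingHom.Flat := by
  letI : Algebra (L ⊗[k] S) (K ⊗[k] S) :=
    (Algebra.TensorProduct.map (IsScalarTower.toAlgHom k L K) (AlgHom.id k S)).toRingHom.toAlgebra
  let φ : (L ⊗[k] S) ⊗[L] K ≃+* K ⊗[k] S :=
    (Algebra.TensorProduct.comm L (L ⊗[k] S) K).toRingEquiv.trans
      (Algebra.TensorProduct.cancelBaseChange k L K K S).toRingEquiv
  let e : (L ⊗[k] S) ⊗[L] K ≃ₐ[L ⊗[k] S] K ⊗[k] S := AlgEquiv.ofRingEquiv (f := φ) fun x => by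
    show φ (x ⊗ₜ[L] 1) = Algebra.TensorProduct.map (IsScalarTower.toAlgHom k L K) (AlgHom.id k S) x
    induction x using TensorProduct.induction_on with
    | zero => simp
    | add a b ha hb => rw [add_tmul, map_add, map_add, ha, hb]
    | tmul l s => simp [φ, Algebra.smul_def]
  exact (Module.Flat.of_linearEquiv e.symm.toLinearEquiv : Module.Flat (L ⊗[k] S) (K ⊗[k] S))

/-- Each prime of `K ⊗ S` is extended from a finitely generated subextension. -/
theorem exists_extended (q : Ideal (K ⊗[k] S)) :
    ∃ L : IntermediateField k K, L.FG ∧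
      (Algebra.TensorProduct.map L.val (AlgHom.id k S)).toRingHom.Flat ∧
      (q.comap (Algebra.TensorProduct.map L.val (AlgHom.id k S)).toRingHom).map
        (Algebra.TensorProduct.map L.val (AlgHom.id k S)).toRingHom = q := by
  classical
  obtain ⟨gens, hgens⟩ := (IsNoetherian.noetherian q : q.FG)
  choose T hT using fun x : K ⊗[k] S => TensorProduct.exists_finset x
  let L := IntermediateField.adjoin k (((gens.biUnion T).image Prod.fst : Finset K) : Set K)
  let f : L ⊗[k] S →ₐ[k] K ⊗[k] S := Algebra.TensorProduct.map L.val (AlgHom.id k S)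
  have hflat : (Algebra.TensorProduct.map L.val (AlgHom.id k S)).toRingHom.Flat := flat_map_tensor (k := k) K S L
  refine ⟨L, IntermediateField.fg_adjoin_finset _, hflat, le_antisymm Ideal.map_comap_le ?_⟩
  conv_lhs => rw [← hgens]
  rw [Submodule.span_le]
  intro x hx
  have hmem : x ∈ Set.range f := by
    rw [hT x]
    refine ⟨∑ i ∈ (T x).attach, (⟨i.1.1, IntermediateField.subset_adjoin k _
      (Finset.mem_image.2 ⟨i.1, Finset.mem_biUnion.2 ⟨x, hx, i.2⟩, rfl⟩)⟩ : L) ⊗ₜ[k] i.1.2, ?_⟩
    rw [map_sum]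
    exact (Finset.sum_congr rfl fun i _ => by simp [f]).trans
      ((T x).sum_attach fun i : K × S => i.1 ⊗ₜ[k] i.2)
  obtain ⟨y, rfl⟩ := hmem
  exact Ideal.mem_map_of_mem _ (Ideal.mem_comap.2 (show f y ∈ q from hgens ▸ Ideal.subset_span hx))

theorem regular_of_fg_subextensions (h : ∀ L : IntermediateField k K, L.FG → IsRegularRing (L ⊗[k] S)) :
    IsRegularRing (K ⊗[k] S) := by
  rw [isRegularRing_iff]
  intro q _
  obtain ⟨L, hL, hflat, hq⟩ := exists_extended K S q
  letI := (Algebra.TensorProduct.map L.val (AlgHom.id k S)).toRingHom.toAlgebra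
  haveI : Module.Flat (L ⊗[k] S) (K ⊗[k] S) := hflat
  haveI := h L hL
  exact regularAt_of_extended (A := L ⊗[k] S) q hq

theorem normal_of_fg_subextensions
    (h : ∀ L : IntermediateField k K, L.FG → IsNoetherianRing (L ⊗[k] S) ∧ EGA4.IsNormalRing (L ⊗[k] S)) :
    EGA4.IsNormalRing (K ⊗[k] S) := by
  rw [normalRing_iff_rk_sk]
  have key : ∀ (q : Ideal (K ⊗[k] S)) [q.IsPrime],
      (q.height ≤ 1 → IsRegularLocalRing (Localization.AtPrime q)) ∧ SkIneq 2 (Localization.AtPrime q) := by
    intro q _
    obtain ⟨L, hL, hflat, hq⟩ := exists_extended K S q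
    letI := (Algebra.TensorProduct.map L.val (AlgHom.id k S)).toRingHom.toAlgebra
    haveI : Module.Flat (L ⊗[k] S) (K ⊗[k] S) := hflat
    haveI := (h L hL).1
    exact rk_sk_of_extended (A := L ⊗[k] S) (h L hL).2 q hq
  exact fun q _ => ⟨fun q' _ _ hk => (key q').1 (by exact_mod_cast hk), fun q' _ _ => (key q').2⟩

end Union

section Geom

variable {k : Type u} [Field k] (S : Type u) [CommRing S] [Algebra k S] [IsNoetherianRing S]
  (K : Type u) [Field K] [Algebra k K]

theorem isNoetherianRing_tensor_essFinite [Algebra.EssFiniteType k K] :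
    IsNoetherianRing (K ⊗[k] S) := by
  haveI : IsNoetherianRing (S ⊗[k] K) := Algebra.EssFiniteType.isNoetherianRing S _
  exact isNoetherianRing_of_ringEquiv (S ⊗[k] K) (Algebra.TensorProduct.comm k S K).toRingEquiv

/-- Key step: pass to a separably generated extension. -/
theorem exists_extension_step [Algebra.EssFiniteType k K] :
    ∃ (k' K' : Type u) (_ : Field k') (_ : Field K') (_ : Algebra k k') (_ : Algebra k' K'),
      Module.Finite k k' ∧ IsPurelyInseparable k k' ∧ Algebra.EssFiniteType k' K' ∧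
      (∀ (κ : Type u) [Field κ] [Algebra k' κ], IsRegularRing (κ ⊗[k'] K')) ∧
      ∃ _ : Algebra (K ⊗[k] S) (K' ⊗[k'] (k' ⊗[k] S)),
        Module.FaithfullyFlat (K ⊗[k] S) (K' ⊗[k'] (k' ⊗[k] S)) := by
  obtain ⟨k', K', _, _, _, _, _, _, _, _, s, hfin, hpi, hind, hess, _, _⟩ :=
    exists_purelyInseparable_sepGen k K
  refine ⟨k', K', inferInstance, inferInstance, inferInstance, inferInstance, hfin, hpi, hess,
    fun κ _ _ => isRegularRing_tensor_sepGen κ K' s hind, ?_⟩
  let e : (K ⊗[k] S) ⊗[K] K' ≃+* K' ⊗[k'] (k' ⊗[k] S) :=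
    (Algebra.TensorProduct.comm K (K ⊗[k] S) K').toRingEquiv.trans
      ((Algebra.TensorProduct.cancelBaseChange k K K' K' S).toRingEquiv.trans
        (Algebra.TensorProduct.cancelBaseChange k k' K' K' S).symm.toRingEquiv)
  letI : Algebra (K ⊗[k] S) (K' ⊗[k'] (k' ⊗[k] S)) :=
    (e.toRingHom.comp (algebraMap (K ⊗[k] S) ((K ⊗[k] S) ⊗[K] K'))).toAlgebra
  refine ⟨inferInstance, ?_⟩
  let e' : (K ⊗[k] S) ⊗[K] K' ≃ₐ[K ⊗[k] S] K' ⊗[k'] (k' ⊗[k] S) := AlgEquiv.ofRingEquiv (f := e) fun _ => rfl
  exact Module.FaithfullyFlat.of_linearEquiv _ _ e'.symm.toLinearEquiv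

/-- `R ⊗_k T` from the fibres `κ(p) ⊗_k T`. -/
theorem regular_tensor {R T : Type u} [CommRing R] [CommRing T] [Algebra k R] [Algebra k T]
    [IsRegularRing R] [IsNoetherianRing (R ⊗[k] T)]
    (h : ∀ (p : Ideal R) [p.IsPrime], IsRegularRing (p.ResidueField ⊗[k] T)) : IsRegularRing (R ⊗[k] T) :=
  regular_of_flat_fibres (A := R) (B := R ⊗[k] T) fun p _ => @IsRegularRing.of_ringEquiv _ _ _ _
    (Algebra.TensorProduct.cancelBaseChange k R p.ResidueField p.ResidueField T).symm.toRingEquiv (h p)

theorem normal_tensor {R T : Type u} [CommRing R] [CommRing T] [Algebra k R] [Algebra k T]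
    [IsNoetherianRing R] [IsNoetherianRing (R ⊗[k] T)] (hR : EGA4.IsNormalRing R)
    (h : ∀ (p : Ideal R) [p.IsPrime], EGA4.IsNormalRing (p.ResidueField ⊗[k] T)) :
    EGA4.IsNormalRing (R ⊗[k] T) :=
  normal_of_flat_fibres hR fun p _ => isNormalRing_of_ringEquiv
    (Algebra.TensorProduct.cancelBaseChange k R p.ResidueField p.ResidueField T).symm.toRingEquiv (h p)

/-- Finitely generated extensions: enough to test on finite purely inseparable ones. -/
theorem regular_baseChange_fg
    (h : ∀ (k' : Type u) [Field k'] [Algebra k k'], Module.Finite k k' → IsPurelyInseparable k k' →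
      IsRegularRing (k' ⊗[k] S))
    (L : Type u) [Field L] [Algebra k L] [Algebra.EssFiniteType k L] : IsRegularRing (L ⊗[k] S) := by
  obtain ⟨k', K', _, _, _, _, hfin, hpi, hess, hK', _, hff⟩ := exists_extension_step (k := k) S L
  haveI := isNoetherianRing_tensor_essFinite (k := k) S L
  haveI := hess
  haveI := h k' hfin hpi
  haveI : IsNoetherianRing ((k' ⊗[k] S) ⊗[k'] K') := Algebra.EssFiniteType.isNoetherianRing (k' ⊗[k] S) _
  haveI := regular_tensor (k := k') (R := k' ⊗[k] S) (T := K') fun p _ => hK' _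
  haveI := IsRegularRing.of_ringEquiv (Algebra.TensorProduct.comm k' (k' ⊗[k] S) K').toRingEquiv
  exact regular_of_faithfullyFlat (A := L ⊗[k] S) (B := K' ⊗[k'] (k' ⊗[k] S))

theorem normal_baseChange_fg
    (h : ∀ (k' : Type u) [Field k'] [Algebra k k'], Module.Finite k k' → IsPurelyInseparable k k' →
      EGA4.IsNormalRing (k' ⊗[k] S))
    (L : Type u) [Field L] [Algebra k L] [Algebra.EssFiniteType k L] : EGA4.IsNormalRing (L ⊗[k] S) := by
  obtain ⟨k', K', _, _, _, _, hfin, hpi, hess, hK', _, hff⟩ := exists_extension_step (k := k) S L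
  haveI := isNoetherianRing_tensor_essFinite (k := k) S L
  haveI := hess
  haveI := hfin
  haveI := isNoetherianRing_tensor_essFinite (k := k) S k'
  haveI : IsNoetherianRing ((k' ⊗[k] S) ⊗[k'] K') := Algebra.EssFiniteType.isNoetherianRing (k' ⊗[k] S) _
  have hn := normal_tensor (k := k') (R := k' ⊗[k] S) (T := K') (h k' hfin hpi)
    fun p _ => @isNormalRing_of_isRegularRing _ _ (hK' _)
  haveI : IsNoetherianRing (K' ⊗[k'] (k' ⊗[k] S)) :=
    isNoetherianRing_of_ringEquiv _ (Algebra.TensorProduct.comm k' (k' ⊗[k] S) K').toRingEquiv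
  exact normal_of_faithfullyFlat (B := K' ⊗[k'] (k' ⊗[k] S))
    (isNormalRing_of_ringEquiv (Algebra.TensorProduct.comm k' (k' ⊗[k] S) K').toRingEquiv hn)

/-- Geometric regularity survives every field extension with Noetherian base change. -/
theorem regular_baseChange [IsNoetherianRing (K ⊗[k] S)] (h : CAlg.IsGeometricallyRegular k S) :
    IsRegularRing (K ⊗[k] S) :=
  regular_of_fg_subextensions K S fun L hL => by
    haveI := IntermediateField.essFiniteType_iff.2 hL
    exact regular_baseChange_fg S (fun k' _ _ hf _ => h k' hf) L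

theorem normal_baseChange [IsNoetherianRing (K ⊗[k] S)] (h : EGA4.IsGeomNormal k S) :
    EGA4.IsNormalRing (K ⊗[k] S) :=
  normal_of_fg_subextensions K S fun L hL => by
    haveI := IntermediateField.essFiniteType_iff.2 hL
    exact ⟨isNoetherianRing_tensor_essFinite S L, normal_baseChange_fg S (fun k' _ _ hf _ => h k' hf) L⟩

/-- A separable field extension is geometrically regular. -/
theorem geomRegular_of_field {L : Type u} [Field L] [Algebra k L] [Algebra.IsGeometricallyReduced k L] :
    CAlg.IsGeometricallyRegular k L := by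
  intro k' _ _ hk'
  haveI := hk'
  haveI : IsReduced (L ⊗[k] k') := isReduced_of_injective (Algebra.TensorProduct.comm k L k') (AlgEquiv.injective _)
  haveI := isRegularRing_of_finite_reduced L (L ⊗[k] k')
  exact IsRegularRing.of_ringEquiv (Algebra.TensorProduct.comm k L k').toRingEquiv

end Geom

end Groth.Agent.FlatDepth
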