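import Groth.Agent.Lib.FlatDepth.CM
import Groth.Agent.Lib.SerreCrit.Basic
import Groth.Agent.Lib.RegLoc.GlobalDim
import Groth.Agent.S9437
import Mathlib

/-!
# `(R_k)`, normality, reducedness and regularity along flat maps
-/

namespace Groth.Agent.FlatDepth

universe u

open IsLocalRing TensorProduct

/-- `(R_k)` at a prime, pointwise. -/
def RkAt (k : ℕ) (R : Type u) [CommRing R] (q : Ideal R) [q.IsPrime] : Prop :=
  ∀ (q' : Ideal R) [q'.IsPrime], q' ≤ q → q'.height ≤ k → IsRegularLocalRing (Localization.AtPrime q')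

/-- `(S_k)` at a prime, pointwise. -/
def SkAt (k : ℕ) (R : Type u) [CommRing R] (q : Ideal R) [q.IsPrime] : Prop :=
  ∀ (q' : Ideal R) [q'.IsPrime], q' ≤ q → SkIneq k (Localization.AtPrime q')

theorem hasRk_iff_rkAt (k : ℕ) (R : Type u) [CommRing R] :
    LocCoh.HasRk k R ↔ ∀ (q : Ideal R) [q.IsPrime], RkAt k R q :=
  ⟨fun h _ _ q' _ _ hh => h q' hh, fun h q _ hh => h q q le_rfl hh⟩

section Loc

variable {R : Type u} [CommRing R]

theorem nonempty_localLocalEquiv (T : Submonoid R) (Q : Ideal (Localization T)) [Q.IsPrime] :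
    Nonempty (Localization.AtPrime (Q.comap (algebraMap R (Localization T))) ≃+* Localization.AtPrime Q) :=
  ⟨(IsLocalization.localizationLocalizationAtPrimeIsoLocalization T Q).toRingEquiv⟩

theorem height_comap_localization (T : Submonoid R) (Q : Ideal (Localization T)) [Q.IsPrime] :
    (Q.comap (algebraMap R (Localization T))).height = Q.height := by
  obtain ⟨e⟩ := nonempty_localLocalEquiv T Q
  have h := ringKrullDim_eq_of_ringEquiv e
  rw [IsLocalization.AtPrime.ringKrullDim_eq_height (Q.comap (algebraMap R (Localization T))),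
    IsLocalization.AtPrime.ringKrullDim_eq_height Q] at h
  exact_mod_cast h

/-- primes of `R_q` against generizations of `q`. -/
theorem forall_localization_iff (q : Ideal R) [q.IsPrime] (P : ∀ (q' : Ideal R) [q'.IsPrime], Prop)
    (P' : ∀ (Q : Ideal (Localization.AtPrime q)) [Q.IsPrime], Prop)
    (h : ∀ (Q : Ideal (Localization.AtPrime q)) [Q.IsPrime],
      P' Q ↔ P (Q.comap (algebraMap R (Localization.AtPrime q)))) :
    (∀ (Q : Ideal (Localization.AtPrime q)) [Q.IsPrime], P' Q) ↔
      ∀ (q' : Ideal R) [q'.IsPrime], q' ≤ q → P q' := by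
  constructor
  · intro h' q' _ hle
    have hd : Disjoint (q.primeCompl : Set R) (q' : Set R) :=
      Set.disjoint_left.2 fun a ha ha' => ha (hle ha')
    haveI := IsLocalization.isPrime_of_isPrime_disjoint q.primeCompl (Localization.AtPrime q) q' ‹_› hd
    have hc := IsLocalization.comap_map_of_isPrime_disjoint q.primeCompl (Localization.AtPrime q) ‹q'.IsPrime› hd
    have key : ∀ (a : Ideal R) [a.IsPrime], a = q' → P a → P q' := by
      intro a _ e h; subst e; exact h
    exact key _ hc ((h _).1 (h' (q'.map (algebraMap R (Localization.AtPrime q)))))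
  · intro h' Q _
    refine (h Q).2 (h' _ fun a ha => ?_)
    by_contra hap
    exact Ideal.IsPrime.ne_top ‹Q.IsPrime› (Ideal.eq_top_of_isUnit_mem Q ha
      (IsLocalization.map_units (Localization.AtPrime q) (⟨a, hap⟩ : q.primeCompl)))

theorem hasRk_localization_iff (k : ℕ) (q : Ideal R) [q.IsPrime] :
    LocCoh.HasRk k (Localization.AtPrime q) ↔ RkAt k R q := by
  refine forall_localization_iff q (fun q' _ => q'.height ≤ k → IsRegularLocalRing (Localization.AtPrime q'))
    (fun Q _ => Q.height ≤ k → IsRegularLocalRing (Localization.AtPrime Q)) fun Q _ => ?_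
  obtain ⟨e⟩ := nonempty_localLocalEquiv q.primeCompl Q
  rw [height_comap_localization]
  exact imp_congr_right fun _ => ⟨fun h => IsRegularLocalRing.of_ringEquiv e.symm,
    fun h => IsRegularLocalRing.of_ringEquiv e⟩

theorem hasSk_localization_iff (k : ℕ) (q : Ideal R) [q.IsPrime] :
    LocCoh.HasSk k (Localization.AtPrime q) (Localization.AtPrime q) ↔ SkAt k R q := by
  rw [hasSk_self_iff]
  refine forall_localization_iff q (fun q' _ => SkIneq k (Localization.AtPrime q'))
    (fun Q _ => SkIneq k (Localization.AtPrime Q)) fun Q _ => ?_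
  obtain ⟨e⟩ := nonempty_localLocalEquiv q.primeCompl Q
  exact ⟨fun h => h.congr e.symm, fun h => h.congr e⟩

/-- A ring is normal iff a local ring at each prime is: for local rings, domain and integrally closed
amounts to normality at every prime. -/
theorem normal_localRing_iff (L : Type u) [CommRing L] [IsLocalRing L] :
    (∀ (p : Ideal L) [p.IsPrime], IsDomain (Localization.AtPrime p) ∧
      IsIntegrallyClosed (Localization.AtPrime p)) ↔ (IsDomain L ∧ IsIntegrallyClosed L) := by
  constructor
  · intro h
    obtain ⟨h1, h2⟩ := h (maximalIdeal L)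
    let e : L ≃ₐ[L] Localization.AtPrime (maximalIdeal L) :=
      IsLocalization.atUnits L (maximalIdeal L).primeCompl (fun x hx => by rw [IsUnit.mem_submonoid_iff]; simpa using hx)
    haveI : IsDomain L := MulEquiv.isDomain _ e.toRingEquiv.toMulEquiv
    exact ⟨inferInstance, IsIntegrallyClosed.of_equiv e.toRingEquiv.symm⟩
  · rintro ⟨h1, h2⟩ p _
    exact ⟨IsLocalization.isDomain_localization p.primeCompl_le_nonZeroDivisors,
      isIntegrallyClosed_of_isLocalization _ p.primeCompl p.primeCompl_le_nonZeroDivisors⟩

theorem normalAt_iff [IsNoetherianRing R] (q : Ideal R) [q.IsPrime] :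
    (IsDomain (Localization.AtPrime q) ∧ IsIntegrallyClosed (Localization.AtPrime q)) ↔
      RkAt 1 R q ∧ SkAt 2 R q := by
  rw [← normal_localRing_iff, SerreCrit.normal_iff, hasRk_localization_iff, hasSk_localization_iff]

theorem reducedAt_iff [IsNoetherianRing R] (q : Ideal R) [q.IsPrime] :
    IsReduced (Localization.AtPrime q) ↔ RkAt 0 R q ∧ SkAt 1 R q := by
  rw [SerreCrit.isReduced_iff, hasRk_localization_iff, hasSk_localization_iff]

theorem rkAt_self {k : ℕ} {L : Type u} [CommRing L] [IsLocalRing L] (h : LocCoh.HasRk k L)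
    (hk : ringKrullDim L ≤ k) : IsRegularLocalRing L := by
  let e : L ≃ₐ[L] Localization.AtPrime (maximalIdeal L) :=
    IsLocalization.atUnits L (maximalIdeal L).primeCompl (fun x hx => by rw [IsUnit.mem_submonoid_iff]; simpa using hx)
  haveI := h (maximalIdeal L) (by rw [← IsLocalRing.maximalIdeal_height_eq_ringKrullDim] at hk; exact_mod_cast hk)
  exact IsRegularLocalRing.of_ringEquiv e.toRingEquiv.symm

theorem skIneq_self {k : ℕ} {L : Type u} [CommRing L] [IsLocalRing L] (h : LocCoh.HasSk k L L) :
    SkIneq k L := by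
  let e : L ≃ₐ[L] Localization.AtPrime (maximalIdeal L) :=
    IsLocalization.atUnits L (maximalIdeal L).primeCompl (fun x hx => by rw [IsUnit.mem_submonoid_iff]; simpa using hx)
  exact ((hasSk_self_iff k L).1 h (maximalIdeal L)).congr e.toRingEquiv.symm

end Loc

section Flat

variable {A B : Type u} [CommRing A] [CommRing B] [Algebra A B] [IsNoetherianRing A] [IsNoetherianRing B]
  [Module.Flat A B]

/-- Regularity ascends when the fibre is regular. -/
theorem regular_of_fibre (q : Ideal B) [q.IsPrime]
    [IsRegularLocalRing (Localization.AtPrime (q.comap (algebraMap A B)))]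
    [IsRegularLocalRing (EGA4.FibLocRing A B q)] : IsRegularLocalRing (Localization.AtPrime q) := by
  obtain ⟨-, hdim⟩ := ring_invariants (A := A) q
  let p := q.comap (algebraMap A B)
  let I : Ideal (Localization.AtPrime q) := p.map (algebraMap A (Localization.AtPrime q))
  have hI : I = (maximalIdeal (Localization.AtPrime p)).map (Localization.localRingHom p q (algebraMap A B) rfl) := by
    rw [← Localization.AtPrime.map_eq_maximalIdeal, Ideal.map_map]
    show p.map _ = _
    congr 1
    refine RingHom.ext fun a => ?_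
    rw [RingHom.comp_apply, Localization.localRingHom_to_map, ← IsScalarTower.algebraMap_apply]
  obtain ⟨s, hs, hsI⟩ := (IsNoetherian.noetherian I : I.FG).exists_span_finset_card_eq_spanFinrank
  obtain ⟨t, ht, htm⟩ := (IsNoetherian.noetherian (maximalIdeal (EGA4.FibLocRing A B q)) :
    (maximalIdeal (EGA4.FibLocRing A B q)).FG).exists_span_finset_card_eq_spanFinrank
  classical
  choose g hg using Ideal.Quotient.mk_surjective (I := I)
  have hm : maximalIdeal (Localization.AtPrime q) = Ideal.span ((s ∪ t.image g : Finset _) : Set _) := by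
    rw [Finset.coe_union, Ideal.span_union, Finset.coe_image]
    have hI' : Ideal.span (s : Set (Localization.AtPrime q)) = I := hsI
    have h1 : (maximalIdeal (EGA4.FibLocRing A B q)).comap (Ideal.Quotient.mk I) =
        maximalIdeal (Localization.AtPrime q) := by
      haveI := Ideal.comap_isMaximal_of_surjective (Ideal.Quotient.mk I) Ideal.Quotient.mk_surjective
        (K := maximalIdeal (EGA4.FibLocRing A B q))
      exact IsLocalRing.eq_maximalIdeal inferInstance
    have h2 : Ideal.span (t : Set (EGA4.FibLocRing A B q)) = maximalIdeal (EGA4.FibLocRing A B q) := htm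
    rw [hI', ← h1, ← h2, ← Set.image_id' (t : Set (EGA4.FibLocRing A B q))]
    conv_lhs => rw [show (fun x => x) '' (t : Set (EGA4.FibLocRing A B q)) =
      Ideal.Quotient.mk I '' (g '' t) by rw [Set.image_image]; simp [hg]]
    rw [← Ideal.map_span, Ideal.comap_map_of_surjective _ Ideal.Quotient.mk_surjective,
      ← RingHom.ker_eq_comap_bot, Ideal.mk_ker, sup_comm, Set.image_image]
  refine IsRegularLocalRing.of_spanFinrank_maximalIdeal_le _ ?_
  rw [hdim, ← IsRegularLocalRing.spanFinrank_maximalIdeal (R := Localization.AtPrime p),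
    ← IsRegularLocalRing.spanFinrank_maximalIdeal (R := EGA4.FibLocRing A B q)]
  have hsle : s.card ≤ (maximalIdeal (Localization.AtPrime p)).spanFinrank := by
    rw [hs, hI]
    exact Ideal.spanFinrank_map_le_of_fg _ (IsNoetherian.noetherian _)
  have := (Submodule.spanFinrank_span_le_ncard_of_finite (R := Localization.AtPrime q)
    (s ∪ t.image g).finite_toSet)
  rw [Set.ncard_coe_finset] at this
  have h3 : (maximalIdeal (Localization.AtPrime q)).spanFinrank ≤
      (maximalIdeal (Localization.AtPrime p)).spanFinrank + (maximalIdeal (EGA4.FibLocRing A B q)).spanFinrank := by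
    rw [hm]
    exact this.trans ((Finset.card_union_le _ _).trans (add_le_add hsle (Finset.card_image_le.trans ht.le)))
  exact_mod_cast h3

/-- A point over `p` minimal in its fibre below `q`. -/
theorem exists_generic_below (q : Ideal B) [q.IsPrime] (p : Ideal A) [p.IsPrime]
    (hp : p ≤ q.comap (algebraMap A B)) :
    ∃ (q' : Ideal B) (_ : q'.IsPrime), q' ≤ q ∧ q'.comap (algebraMap A B) = p ∧
      ringKrullDim (EGA4.FibLocRing A B q') = 0 ∧
      LocCoh.depth (EGA4.FibLocRing A B q') (EGA4.FibLocRing A B q') = 0 := by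
  have hsupp : (⟨q, ‹_›⟩ : PrimeSpectrum B) ∈ Module.support B B := by
    rw [Module.support_eq_zeroLocus, PrimeSpectrum.mem_zeroLocus]
    intro a ha
    have := Module.mem_annihilator.1 ha (1 : B)
    rw [smul_eq_mul, mul_one] at this
    rw [this]
    exact q.zero_mem
  obtain ⟨Q, hle, -, hc, hfib⟩ := exists_fibre_generic (A := A) (F := B) ⟨q, ‹_›⟩ hsupp ⟨p, ‹_›⟩ hp
  rw [(fib_self_invariants Q.asIdeal).2] at hfib
  exact ⟨Q.asIdeal, Q.2, hle, congrArg PrimeSpectrum.asIdeal hc,
    le_antisymm hfib ringKrullDim_nonneg_of_nontrivial,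
    nonpos_iff_eq_zero.1 (WithBot.coe_le_coe.1 (DepthLib.depth_le_supportDim.trans
      ((Module.supportDim_self_eq_ringKrullDim _).le.trans hfib)))⟩

theorem rkAt_of_fibres {k : ℕ} (q : Ideal B) [q.IsPrime]
    (hA : RkAt k A (q.comap (algebraMap A B)))
    (hfib : ∀ (q' : Ideal B) [q'.IsPrime], q' ≤ q → ringKrullDim (EGA4.FibLocRing A B q') ≤ k →
      IsRegularLocalRing (EGA4.FibLocRing A B q')) : RkAt k B q := by
  intro q' _ hle hk
  obtain ⟨-, hdim⟩ := ring_invariants (A := A) q'
  rw [IsLocalization.AtPrime.ringKrullDim_eq_height q',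
    IsLocalization.AtPrime.ringKrullDim_eq_height (q'.comap (algebraMap A B))] at hdim
  have hk' : ((q'.height : ℕ∞) : WithBot ℕ∞) ≤ (k : WithBot ℕ∞) := by exact_mod_cast hk
  rw [hdim] at hk'
  haveI := hA (q'.comap (algebraMap A B)) (Ideal.comap_mono hle) (by
    have := (le_add_of_nonneg_right ringKrullDim_nonneg_of_nontrivial).trans hk'
    exact_mod_cast this)
  haveI := hfib q' hle ((le_add_of_nonneg_left (WithBot.coe_le_coe.2 zero_le')).trans hk')
  exact regular_of_fibre (A := A) q'

theorem rkAt_base {k : ℕ} (q : Ideal B) [q.IsPrime] (h : RkAt k B q) :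
    RkAt k A (q.comap (algebraMap A B)) := by
  intro p' _ hle hk
  obtain ⟨q', _, hle', hc, h0, -⟩ := exists_generic_below (A := A) q p' hle
  obtain ⟨-, hdim⟩ := ring_invariants (A := A) q'
  subst hc
  rw [h0, add_zero, IsLocalization.AtPrime.ringKrullDim_eq_height q',
    IsLocalization.AtPrime.ringKrullDim_eq_height (q'.comap (algebraMap A B))] at hdim
  haveI := h q' hle' (by rw [show q'.height = _ from WithBot.coe_injective hdim]; exact hk)
  haveI : q'.LiesOver (q'.comap (algebraMap A B)) := ⟨rfl⟩
  letI := Localization.AtPrime.algebraOfLiesOver (q'.comap (algebraMap A B)) q'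
  haveI : IsScalarTower A (Localization.AtPrime (q'.comap (algebraMap A B))) (Localization.AtPrime q') :=
    .of_algebraMap_eq fun a => by
      rw [show algebraMap (Localization.AtPrime (q'.comap (algebraMap A B))) (Localization.AtPrime q') =
        Localization.localRingHom (q'.comap (algebraMap A B)) q' (algebraMap A B) rfl from rfl,
        Localization.localRingHom_to_map, ← IsScalarTower.algebraMap_apply]
  haveI : IsLocalHom (algebraMap (Localization.AtPrime (q'.comap (algebraMap A B))) (Localization.AtPrime q')) :=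
    Localization.isLocalHom_localRingHom _ q' (algebraMap A B) rfl
  haveI : Module.Flat A (Localization.AtPrime q') := Module.Flat.trans A B _
  haveI : Module.Flat (Localization.AtPrime (q'.comap (algebraMap A B))) (Localization.AtPrime q') :=
    (Module.flat_iff_of_isLocalization (Localization.AtPrime (q'.comap (algebraMap A B)))
      (q'.comap (algebraMap A B)).primeCompl _).2 inferInstance
  exact RegLoc.isRegularLocalRing_of_flat (Localization.AtPrime (q'.comap (algebraMap A B))) (Localization.AtPrime q')

theorem skAt_of_fibres {k : ℕ} (q : Ideal B) [q.IsPrime]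
    (hA : SkAt k A (q.comap (algebraMap A B)))
    (hfib : ∀ (q' : Ideal B) [q'.IsPrime], q' ≤ q → SkIneq k (EGA4.FibLocRing A B q')) : SkAt k B q :=
  fun q' _ hle => skIneq_of_fibre k q' (hA _ (Ideal.comap_mono hle)) (hfib q' hle)

theorem skAt_base {k : ℕ} (q : Ideal B) [q.IsPrime] (h : SkAt k B q) :
    SkAt k A (q.comap (algebraMap A B)) := by
  intro p' _ hle
  obtain ⟨q', _, hle', hc, h0, hd0⟩ := exists_generic_below (A := A) q p' hle
  obtain ⟨hd, hdim⟩ := ring_invariants (A := A) q'
  subst hc
  have := h q' hle'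
  rw [SkIneq, hd, hdim, h0, hd0, add_zero, add_zero] at this
  exact this

end Flat

end Groth.Agent.FlatDepth
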