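import Groth.Agent.Lib.FlatDepth.Fibre
import Mathlib

/-!
# Depth and dimension of `F ⊗ E` at a prime, for `F` flat over the base
-/

namespace Groth.Agent.FlatDepth

universe u

open TensorProduct IsLocalRing

section

variable {A B : Type u} [CommRing A] [CommRing B] [Algebra A B]
variable (F : Type u) [AddCommGroup F] [Module B F] [Module A F] [IsScalarTower A B F]
variable (E : Type u) [AddCommGroup E] [Module A E]
variable (q : Ideal B) [q.IsPrime]

/-- Localizations of a module flat over the base are flat over the base. -/
theorem flat_localizedModule_of_flat [Module.Flat A F] (T : Submonoid B) :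
    Module.Flat A (LocalizedModule T F) := by
  refine Module.Flat.iff_lTensor_injective'.2 fun J => ?_
  rw [← AlgebraTensorModule.coe_lTensor (A := B)]
  have h := IsLocalizedModule.map_injective T
    (AlgebraTensorModule.rTensor A J (LocalizedModule.mkLinearMap T F))
    (AlgebraTensorModule.rTensor A A (LocalizedModule.mkLinearMap T F))
    (AlgebraTensorModule.lTensor B F J.subtype)
    (Module.Flat.lTensor_preserves_injective_linearMap _ J.injective_subtype)
  rwa [IsLocalizedModule.map_lTensor] at h

instance nontrivial_fibLocRing : Nontrivial (EGA4.FibLocRing A B q) :=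
  Ideal.Quotient.nontrivial_iff.2 <| ne_top_of_le_ne_top (maximalIdeal.isMaximal _).ne_top <|
    Ideal.map_le_iff_le_comap.2 fun a ha => by
      rw [Ideal.mem_comap, IsScalarTower.algebraMap_apply A B (Localization.AtPrime q)]
      exact (IsLocalization.AtPrime.to_map_mem_maximal_iff _ q _).2 ha

/-- `(F ⊗ E)_q = F_q ⊗ E_p`. -/
noncomputable def localizeEquiv (p : Ideal A) [p.IsPrime]
    [Algebra (Localization.AtPrime p) (Localization.AtPrime q)]
    [IsScalarTower A (Localization.AtPrime p) (Localization.AtPrime q)]
    [Module (Localization.AtPrime p) (LocalizedModule q.primeCompl F)]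
    [IsScalarTower (Localization.AtPrime p) (Localization.AtPrime q) (LocalizedModule q.primeCompl F)]
    [IsScalarTower A (Localization.AtPrime p) (LocalizedModule q.primeCompl F)] :
    LocalizedModule q.primeCompl (F ⊗[A] E) ≃ₗ[Localization.AtPrime q]
      LocalizedModule q.primeCompl F ⊗[Localization.AtPrime p] LocalizedModule p.primeCompl E :=
  let g := AlgebraTensorModule.rTensor A E (LocalizedModule.mkLinearMap q.primeCompl F)
  let e₁ := (IsLocalizedModule.iso q.primeCompl g).extendScalarsOfIsLocalization q.primeCompl
    (Localization.AtPrime q)
  let eE := (IsLocalizedModule.isBaseChange p.primeCompl (Localization.AtPrime p)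
    (LocalizedModule.mkLinearMap p.primeCompl E)).equiv
  e₁.trans ((AlgebraTensorModule.cancelBaseChange A (Localization.AtPrime p) (Localization.AtPrime q)
    (LocalizedModule q.primeCompl F) E).symm.trans
      (AlgebraTensorModule.congr (LinearEquiv.refl _ _) eE))

variable [IsNoetherianRing A] [IsNoetherianRing B] [Module.Finite A E] [Module.Finite B F]
  [Module.Flat A F]

/-- Depth and support dimension of `(F ⊗ E)_q` in terms of `E_p` and the fibre of `F` at `q`. -/
theorem atPrime_invariants :
    LocCoh.depth (Localization.AtPrime q) (LocalizedModule q.primeCompl (F ⊗[A] E)) =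
        LocCoh.depth (Localization.AtPrime (q.comap (algebraMap A B)))
          (LocalizedModule (q.comap (algebraMap A B)).primeCompl E) +
        LocCoh.depth (EGA4.FibLocRing A B q) (EGA4.FibLocMod A B q F) ∧
      (Nontrivial (LocalizedModule q.primeCompl F) →
        Nontrivial (LocalizedModule (q.comap (algebraMap A B)).primeCompl E) →
        Nontrivial (EGA4.FibLocMod A B q F) ∧
        Module.supportDim (Localization.AtPrime q) (LocalizedModule q.primeCompl (F ⊗[A] E)) =
          Module.supportDim (Localization.AtPrime (q.comap (algebraMap A B)))
            (LocalizedModule (q.comap (algebraMap A B)).primeCompl E) +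
          Module.supportDim (EGA4.FibLocRing A B q) (EGA4.FibLocMod A B q F)) := by
  let p := q.comap (algebraMap A B)
  haveI : q.LiesOver p := ⟨rfl⟩
  letI := Localization.AtPrime.algebraOfLiesOver p q
  haveI : IsScalarTower A (Localization.AtPrime p) (Localization.AtPrime q) :=
    .of_algebraMap_eq fun a => by
      rw [show algebraMap (Localization.AtPrime p) (Localization.AtPrime q) =
        Localization.localRingHom p q (algebraMap A B) rfl from rfl,
        Localization.localRingHom_to_map, ← IsScalarTower.algebraMap_apply]
  haveI : IsLocalHom (algebraMap (Localization.AtPrime p) (Localization.AtPrime q)) :=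
    Localization.isLocalHom_localRingHom p q (algebraMap A B) rfl
  letI : Module (Localization.AtPrime p) (LocalizedModule q.primeCompl F) :=
    Module.compHom _ (algebraMap (Localization.AtPrime p) (Localization.AtPrime q))
  haveI : IsScalarTower (Localization.AtPrime p) (Localization.AtPrime q)
      (LocalizedModule q.primeCompl F) :=
    IsScalarTower.of_algebraMap_smul fun _ _ => rfl
  haveI : IsScalarTower A (Localization.AtPrime p) (LocalizedModule q.primeCompl F) :=
    IsScalarTower.of_algebraMap_smul fun a z => by
      change algebraMap (Localization.AtPrime p) (Localization.AtPrime q)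
        (algebraMap A (Localization.AtPrime p) a) • z = _
      rw [← IsScalarTower.algebraMap_apply, algebraMap_smul]
  haveI : Module.Flat (Localization.AtPrime p) (LocalizedModule q.primeCompl F) :=
    (Module.flat_iff_of_isLocalization (Localization.AtPrime p) p.primeCompl _).2
      (flat_localizedModule_of_flat F _)
  let e := localizeEquiv F E q p
  have hI : (maximalIdeal (Localization.AtPrime p)).map
      (algebraMap (Localization.AtPrime p) (Localization.AtPrime q)) =
      p.map (algebraMap A (Localization.AtPrime q)) := by
    rw [← Localization.AtPrime.map_eq_maximalIdeal, Ideal.map_map, ← IsScalarTower.algebraMap_eq]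
  let eF : LocalizedModule q.primeCompl F ⊗[Localization.AtPrime p]
      (Localization.AtPrime p ⧸ maximalIdeal (Localization.AtPrime p)) ≃ₗ[Localization.AtPrime q]
      EGA4.FibLocMod A B q F :=
    (tensorQuotEquiv _ _).trans (Submodule.quotEquivOfEq _ _ (by rw [hI]))
  have hs : Function.Surjective (algebraMap (Localization.AtPrime q) (EGA4.FibLocRing A B q)) :=
    Ideal.Quotient.mk_surjective
  haveI : Module.Finite (EGA4.FibLocRing A B q) (EGA4.FibLocMod A B q F) :=
    Module.Finite.of_restrictScalars_finite (Localization.AtPrime q) _ _
  refine ⟨?_, fun hF hE => ?_⟩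
  · rw [← depth_eq_of_surjective _ hs, LocCoh.depth, DepthLib.idealDepth_congr e, ← LocCoh.depth,
      depth_tensor, LocCoh.depth, LocCoh.depth, DepthLib.idealDepth_congr eF]
    rfl
  · haveI := nontrivial_fibre (Localization.AtPrime q) (R := Localization.AtPrime p)
      (N := LocalizedModule q.primeCompl F)
    refine ⟨eF.symm.toEquiv.nontrivial, ?_⟩
    rw [← supportDim_eq_of_surjective _ hs, Module.supportDim_eq_of_equiv e, supportDim_tensor,
      Module.supportDim_eq_of_equiv eF]

end

end Groth.Agent.FlatDepth
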