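import Groth.Agent.Lib.FlatDepth.GeomExt
import Mathlib

/-!
# Base change of the field, tensor products
-/

namespace Groth.Agent.FlatDepth

universe u

open IsLocalRing TensorProduct

theorem regular_at_base {A B : Type u} [CommRing A] [CommRing B] [Algebra A B] [IsNoetherianRing A]
    [IsNoetherianRing B] [Module.Flat A B] (q : Ideal B) [q.IsPrime]
    [IsRegularLocalRing (Localization.AtPrime q)] :
    IsRegularLocalRing (Localization.AtPrime (q.comap (algebraMap A B))) := by
  obtain ⟨k, hk⟩ := WithTop.ne_top_iff_exists.1 (Ideal.height_ne_top (I := q.comap (algebraMap A B))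
    (Ideal.IsPrime.ne_top inferInstance))
  refine rkAt_base (k := k) q ((hasRk_localization_iff k q).1 fun Q _ _ => ?_) _ le_rfl hk.ge
  exact RegLoc.isRegularLocalRing_localization _ Q

variable {k : Type u} [Field k]

theorem geomRegular_baseChange (S : Type u) [CommRing S] [Algebra k S] [IsNoetherianRing S]
    (K : Type u) [Field K] [Algebra k K] [IsNoetherianRing (K ⊗[k] S)]
    (h : CAlg.IsGeometricallyRegular k S) : CAlg.IsGeometricallyRegular K (K ⊗[k] S) := by
  intro L _ _ hL
  haveI := hL
  letI : Algebra k L := ((algebraMap K L).comp (algebraMap k K)).toAlgebra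
  haveI : IsScalarTower k K L := .of_algebraMap_eq fun _ => rfl
  let e := (Algebra.TensorProduct.cancelBaseChange k K L L S).toRingEquiv
  haveI : IsNoetherianRing (L ⊗[K] (K ⊗[k] S)) := isNoetherianRing_tensor_essFinite (k := K) (K ⊗[k] S) L
  haveI := isNoetherianRing_of_ringEquiv _ e
  haveI := regular_baseChange S L h
  exact IsRegularRing.of_ringEquiv e.symm

theorem geomNormal_baseChange (S : Type u) [CommRing S] [Algebra k S] [IsNoetherianRing S]
    (K : Type u) [Field K] [Algebra k K] [IsNoetherianRing (K ⊗[k] S)]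
    (h : EGA4.IsGeomNormal k S) : EGA4.IsGeomNormal K (K ⊗[k] S) := by
  intro L _ _ hL
  haveI := hL
  letI : Algebra k L := ((algebraMap K L).comp (algebraMap k K)).toAlgebra
  haveI : IsScalarTower k K L := .of_algebraMap_eq fun _ => rfl
  let e := (Algebra.TensorProduct.cancelBaseChange k K L L S).toRingEquiv
  haveI : IsNoetherianRing (L ⊗[K] (K ⊗[k] S)) := isNoetherianRing_tensor_essFinite (k := K) (K ⊗[k] S) L
  haveI := isNoetherianRing_of_ringEquiv _ e
  exact isNormalRing_of_ringEquiv e.symm (normal_baseChange S L h)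

/-- A common field extension, finite over `K`. -/
theorem exists_composite (K k' : Type u) [Field K] [Field k'] [Algebra k K] [Algebra k k'] [Module.Finite k k'] :
    ∃ (L : Type u) (_ : Field L) (_ : Algebra k L) (_ : Algebra K L) (_ : Algebra k' L),
      IsScalarTower k K L ∧ IsScalarTower k k' L ∧ Module.Finite K L := by
  haveI : Nontrivial (K ⊗[k] k') := (Algebra.TensorProduct.includeLeft_injective (S := k) (A := K)
    (B := k') (RingHom.injective _)).nontrivial
  obtain ⟨m, hm⟩ := Ideal.exists_maximal (K ⊗[k] k')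
  let L := (K ⊗[k] k') ⧸ m
  letI : Field L := Ideal.Quotient.field m
  letI : Algebra k' L := ((Ideal.Quotient.mk m).comp (Algebra.TensorProduct.includeRight :
    k' →ₐ[k] K ⊗[k] k').toRingHom).toAlgebra
  haveI : IsScalarTower k k' L := .of_algebraMap_eq fun x =>
    (congrArg (Ideal.Quotient.mk m) ((Algebra.TensorProduct.includeRight : k' →ₐ[k] K ⊗[k] k').commutes x)).symm
  exact ⟨L, inferInstance, inferInstance, inferInstance, inferInstance, inferInstance, inferInstance,
    Module.Finite.of_surjective (Ideal.Quotient.mkₐ K m).toLinearMap Ideal.Quotient.mk_surjective⟩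

/-- Geometric regularity can be checked after any field extension. -/
theorem geomRegular_of_baseChange (S : Type u) [CommRing S] [Algebra k S] [IsNoetherianRing S]
    (K : Type u) [Field K] [Algebra k K] [IsNoetherianRing (K ⊗[k] S)]
    (h : CAlg.IsGeometricallyRegular K (K ⊗[k] S)) : CAlg.IsGeometricallyRegular k S := by
  intro k' _ _ hk'
  haveI := hk'
  obtain ⟨L, _, _, _, _, _, _, hL⟩ := exists_composite (k := k) K k'
  haveI := h L hL
  haveI : IsRegularRing (L ⊗[k] S) :=
    IsRegularRing.of_ringEquiv (Algebra.TensorProduct.cancelBaseChange k K L L S).toRingEquiv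
  haveI : IsRegularRing ((k' ⊗[k] S) ⊗[k'] L) :=
    IsRegularRing.of_ringEquiv ((Algebra.TensorProduct.cancelBaseChange k k' L L S).symm.toRingEquiv.trans
      (Algebra.TensorProduct.comm k' L (k' ⊗[k] S)).toRingEquiv)
  haveI := isNoetherianRing_tensor_essFinite (k := k) S k'
  exact regular_of_faithfullyFlat (A := k' ⊗[k] S) (B := (k' ⊗[k] S) ⊗[k'] L)

theorem geomNormal_of_baseChange (S : Type u) [CommRing S] [Algebra k S] [IsNoetherianRing S]
    (K : Type u) [Field K] [Algebra k K] [IsNoetherianRing (K ⊗[k] S)]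
    (h : EGA4.IsGeomNormal K (K ⊗[k] S)) : EGA4.IsGeomNormal k S := by
  intro k' _ _ hk'
  haveI := hk'
  obtain ⟨L, _, _, _, _, _, _, hL⟩ := exists_composite (k := k) K k'
  have hn := h L hL
  haveI := hL
  haveI : IsNoetherianRing (L ⊗[K] (K ⊗[k] S)) := isNoetherianRing_tensor_essFinite (k := K) (K ⊗[k] S) L
  let e := ((Algebra.TensorProduct.cancelBaseChange k K L L S).toRingEquiv.trans
    ((Algebra.TensorProduct.cancelBaseChange k k' L L S).symm.toRingEquiv.trans
      (Algebra.TensorProduct.comm k' L (k' ⊗[k] S)).toRingEquiv))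
  haveI := isNoetherianRing_tensor_essFinite (k := k) S k'
  haveI := isNoetherianRing_of_ringEquiv _ e
  exact normal_of_faithfullyFlat (B := (k' ⊗[k] S) ⊗[k'] L) (isNormalRing_of_ringEquiv e hn)

/-- The fibres of `R → R ⊗ T` are Noetherian. -/
theorem isNoetherianRing_residue_tensor (R T : Type u) [CommRing R] [CommRing T] [Algebra k R] [Algebra k T]
    [IsNoetherianRing (R ⊗[k] T)] (p : Ideal R) [p.IsPrime] : IsNoetherianRing (p.ResidueField ⊗[k] T) := by
  haveI := isNoetherianRing_fiber (A := R) (B := R ⊗[k] T) p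
  exact isNoetherianRing_of_ringEquiv _
    (Algebra.TensorProduct.cancelBaseChange k R p.ResidueField p.ResidueField T).toRingEquiv

variable {S T : Type u} [CommRing S] [CommRing T] [Algebra k S] [Algebra k T] [IsNoetherianRing S]
  [IsNoetherianRing T] [IsNoetherianRing (S ⊗[k] T)]

theorem regular_tensor_geom [IsRegularRing S] (hT : CAlg.IsGeometricallyRegular k T) :
    IsRegularRing (S ⊗[k] T) :=
  regular_tensor fun p _ => by
    haveI := isNoetherianRing_residue_tensor (k := k) S T p
    exact regular_baseChange T _ hT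

theorem normal_tensor_geom (hS : EGA4.IsNormalRing S) (hT : EGA4.IsGeomNormal k T) :
    EGA4.IsNormalRing (S ⊗[k] T) :=
  normal_tensor hS fun p _ => by
    haveI := isNoetherianRing_residue_tensor (k := k) S T p
    exact normal_baseChange T _ hT

theorem geomRegular_tensor (hS : CAlg.IsGeometricallyRegular k S) (hT : CAlg.IsGeometricallyRegular k T) :
    CAlg.IsGeometricallyRegular k (S ⊗[k] T) := by
  intro k' _ _ hk'
  haveI := hk'
  haveI := hS k' hk'
  haveI := isNoetherianRing_tensor_essFinite (k := k) (S ⊗[k] T) k'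
  let e := (Algebra.TensorProduct.assoc k k k k' S T).symm.toRingEquiv
  haveI := isNoetherianRing_of_ringEquiv _ e
  haveI := regular_tensor_geom (k := k) (S := k' ⊗[k] S) hT
  exact IsRegularRing.of_ringEquiv e.symm

theorem geomNormal_tensor (hS : EGA4.IsGeomNormal k S) (hT : EGA4.IsGeomNormal k T) :
    EGA4.IsGeomNormal k (S ⊗[k] T) := by
  intro k' _ _ hk'
  haveI := hk'
  haveI := isNoetherianRing_tensor_essFinite (k := k) (S ⊗[k] T) k'
  haveI := isNoetherianRing_tensor_essFinite (k := k) S k'
  let e := (Algebra.TensorProduct.assoc k k k k' S T).symm.toRingEquiv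
  haveI := isNoetherianRing_of_ringEquiv _ e
  exact isNormalRing_of_ringEquiv e.symm (normal_tensor_geom (S := k' ⊗[k] S) (hS k' hk') hT)

omit [IsNoetherianRing T] in
/-- Local rings of fibres of `S → S ⊗ k'` for separable `k'`. -/
theorem regular_fibLoc_field (K : Type u) [Field K] [Algebra k K] [Algebra.IsGeometricallyReduced k K]
    [IsNoetherianRing (S ⊗[k] K)] (q : Ideal (S ⊗[k] K)) [q.IsPrime] :
    IsRegularLocalRing (EGA4.FibLocRing S (S ⊗[k] K) q) := by
  obtain ⟨p, _, Q, _, ⟨e⟩⟩ := exists_fibLoc_equiv (A := S) q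
  haveI := isNoetherianRing_residue_tensor (k := k) S K p
  haveI := regular_baseChange K p.ResidueField (geomRegular_of_field (k := k) (L := K))
  haveI : IsRegularRing (p.Fiber (S ⊗[k] K)) := IsRegularRing.of_ringEquiv
    (Algebra.TensorProduct.cancelBaseChange k S p.ResidueField p.ResidueField K).symm.toRingEquiv
  exact IsRegularLocalRing.of_ringEquiv (R := Localization.AtPrime Q) e

end Groth.Agent.FlatDepth
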