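import Groth.Agent.Lib.FlatDepth.Depth
import Groth.Agent.Lib.Depth.Devissage
import Groth.Agent.Lib.HilbSam.Param
import Mathlib

/-!
# Support and dimension of `N ⊗ M`
-/

namespace Groth.Agent.FlatDepth

universe u

open TensorProduct IsLocalRing
open scoped Pointwise

section Support

variable {R S : Type u} [CommRing R] [CommRing S] [Algebra R S] [IsNoetherianRing R] [IsNoetherianRing S]
variable {N : Type u} [AddCommGroup N] [Module S N] [Module R N] [IsScalarTower R S N]
  [Module.Finite S N]
variable {M : Type u} [AddCommGroup M] [Module R M] [Module.Finite R M]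

/-- The support of `N ⊗ M` is `supp N ∩ π⁻¹ (supp M)`. -/
theorem mem_support_tensor_iff (P : PrimeSpectrum S) :
    P ∈ Module.support S (N ⊗[R] M) ↔
      P ∈ Module.support S N ∧ PrimeSpectrum.comap (algebraMap R S) P ∈ Module.support R M := by
  constructor
  · intro h
    rw [Module.support_eq_zeroLocus, PrimeSpectrum.mem_zeroLocus] at h
    rw [Module.support_eq_zeroLocus, Module.support_eq_zeroLocus, PrimeSpectrum.mem_zeroLocus,
      PrimeSpectrum.mem_zeroLocus]
    refine ⟨fun a ha => h (Module.mem_annihilator.2 fun z => ?_),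
      fun a ha => h (Module.mem_annihilator.2 fun z => ?_)⟩
    · induction z with
      | zero => simp
      | tmul n m => rw [smul_tmul', Module.mem_annihilator.1 ha, zero_tmul]
      | add x y hx hy => rw [smul_add, hx, hy, add_zero]
    · rw [algebraMap_smul]
      induction z with
      | zero => simp
      | tmul n m => rw [← tmul_smul, Module.mem_annihilator.1 ha, tmul_zero]
      | add x y hx hy => rw [smul_add, hx, hy, add_zero]
  · rintro ⟨hN, hM⟩
    obtain ⟨φ, hφ⟩ := DepthLib.exists_linearMap_ne_zero (R := S) N hN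
    obtain ⟨ψ, hψ⟩ := DepthLib.exists_linearMap_ne_zero (R := R) M hM
    let ι : R ⧸ (PrimeSpectrum.comap (algebraMap R S) P).asIdeal →ₗ[R] S ⧸ P.asIdeal :=
      (PrimeSpectrum.comap (algebraMap R S) P).asIdeal.liftQ (Algebra.linearMap R (S ⧸ P.asIdeal))
        fun r hr => by
          rw [LinearMap.mem_ker, Algebra.linearMap_apply, ← Ideal.Quotient.mk_algebraMap,
            Ideal.Quotient.eq_zero_iff_mem]
          exact hr
    have hι : Function.Injective ι := by
      rw [← LinearMap.ker_eq_bot]
      refine Submodule.ker_liftQ_eq_bot _ _ _ fun r hr => ?_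
      rw [LinearMap.mem_ker, Algebra.linearMap_apply, ← Ideal.Quotient.mk_algebraMap,
        Ideal.Quotient.eq_zero_iff_mem] at hr
      exact hr
    obtain ⟨n, hn⟩ : ∃ n, φ n ≠ 0 := by
      by_contra h; push Not at h; exact hφ (LinearMap.ext h)
    obtain ⟨m, hm⟩ : ∃ m, ψ m ≠ 0 := by
      by_contra h; push Not at h; exact hψ (LinearMap.ext h)
    let B : N →ₗ[R] M →ₗ[R] S ⧸ P.asIdeal :=
      ((LinearMap.mul R (S ⧸ P.asIdeal)).compl₁₂ (φ.restrictScalars R) (ι ∘ₗ ψ))
    let Φ : N ⊗[R] M →ₗ[R] S ⧸ P.asIdeal := TensorProduct.lift B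
    have hΦ : ∀ (a : S) z, Φ (a • z) = a • Φ z := fun a z => by
      induction z with
      | zero => simp
      | tmul n m => simp [Φ, B, smul_tmul']
      | add x y hx hy => simp [smul_add, map_add, hx, hy]
    rw [Module.support_eq_zeroLocus, PrimeSpectrum.mem_zeroLocus]
    intro a ha
    have h1 : a • Φ (n ⊗ₜ m) = 0 := by rw [← hΦ, Module.mem_annihilator.1 ha, map_zero]
    have hne : Φ (n ⊗ₜ m) ≠ 0 := by
      simp only [Φ, B, lift.tmul, LinearMap.compl₁₂_apply, LinearMap.mul_apply_apply]
      exact mul_ne_zero hn fun h => hm (hι (h.trans (map_zero ι).symm))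
    rw [Algebra.smul_def, mul_eq_zero, Ideal.Quotient.algebraMap_eq, Ideal.Quotient.eq_zero_iff_mem] at h1
    exact h1.resolve_right hne

variable [Module.Flat R N]

/-- Going down in the support of a module flat over the base. -/
theorem exists_le_mem_support {P : PrimeSpectrum S} (hP : P ∈ Module.support S N) {p : PrimeSpectrum R}
    (hp : p.asIdeal ≤ P.asIdeal.comap (algebraMap R S)) :
    ∃ Q : PrimeSpectrum S, Q ≤ P ∧ Q ∈ Module.support S N ∧
      PrimeSpectrum.comap (algebraMap R S) Q = p := by
  have hPX : P ∈ Module.support S (N ⊗[R] (R ⧸ p.asIdeal)) := by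
    rw [mem_support_tensor_iff, DepthLib.support_quotient, PrimeSpectrum.mem_zeroLocus]
    exact ⟨hP, hp⟩
  rw [Module.support_eq_zeroLocus, PrimeSpectrum.mem_zeroLocus] at hPX
  obtain ⟨Q, hQ, hQP⟩ := Ideal.exists_minimalPrimes_le (J := P.asIdeal) hPX
  have hQmem : (⟨Q, hQ.isPrime⟩ : PrimeSpectrum S) ∈ Module.support S (N ⊗[R] (R ⧸ p.asIdeal)) := by
    rw [Module.support_eq_zeroLocus, PrimeSpectrum.mem_zeroLocus]
    exact hQ.1.2
  rw [mem_support_tensor_iff, DepthLib.support_quotient, PrimeSpectrum.mem_zeroLocus] at hQmem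
  refine ⟨⟨Q, hQ.isPrime⟩, hQP, hQmem.1, PrimeSpectrum.ext (le_antisymm (fun r hr => ?_) hQmem.2)⟩
  by_contra hrp
  obtain ⟨-, z, hz⟩ := isAssociatedPrime_iff.1
    (Module.associatedPrimes.minimalPrimes_annihilator_subset_associatedPrimes S _ hQ)
  have hreg : IsSMulRegular (R ⧸ p.asIdeal) r := fun a b hab => by
    simp only [Algebra.smul_def, Ideal.Quotient.algebraMap_eq] at hab
    exact mul_left_cancel₀ (by rwa [Ne, Ideal.Quotient.eq_zero_iff_mem]) hab
  have hr' : algebraMap R S r ∈ Q := hr
  rw [hz, Submodule.mem_colon_singleton, Submodule.mem_bot] at hr'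
  have hz0 : z = 0 := isSMulRegular_right hreg (hr'.trans (smul_zero _).symm)
  exact hQ.isPrime.ne_top (by rw [hz, hz0]; ext; simp [Submodule.mem_colon_singleton])

/-- A chain in `Spec R` ending below the image of a point of `supp N` lifts to `supp N`. -/
theorem exists_ltSeries (l : LTSeries (PrimeSpectrum R)) {P : PrimeSpectrum S}
    (hP : P ∈ Module.support S N) (hl : PrimeSpectrum.comap (algebraMap R S) P = l.last) :
    ∃ L : LTSeries (PrimeSpectrum S), L.length = l.length ∧ L.last = P ∧
      ∀ i, L i ∈ Module.support S N ∧ ∃ j, PrimeSpectrum.comap (algebraMap R S) (L i) = l j := by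
  suffices h : ∀ (n : ℕ) (l : LTSeries (PrimeSpectrum R)) {P : PrimeSpectrum S}, l.length = n →
      P ∈ Module.support S N → PrimeSpectrum.comap (algebraMap R S) P = l.last →
      ∃ L : LTSeries (PrimeSpectrum S), L.length = l.length ∧ L.last = P ∧
        ∀ i, L i ∈ Module.support S N ∧ ∃ j, PrimeSpectrum.comap (algebraMap R S) (L i) = l j from
    h _ l rfl hP hl
  clear hP hl l P
  intro n
  induction n with
  | zero =>
    intro l P hn hP hl
    exact ⟨RelSeries.singleton _ P, by simp [hn], by simp, fun i => ⟨by simpa [RelSeries.singleton] using hP,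
      Fin.last _, by simpa [RelSeries.singleton, RelSeries.last] using hl⟩⟩
  | succ n ih =>
    intro l P hn hP hl
    have hlt : l.eraseLast.last < l.last := RelSeries.eraseLast_last_rel_last l (by omega)
    obtain ⟨Q, hQP, hQ, hQc⟩ := exists_le_mem_support hP (p := l.eraseLast.last)
      ((le_of_lt hlt).trans_eq hl.symm)
    obtain ⟨L, hL, hLl, hLi⟩ := ih l.eraseLast (by simp [hn]) hQ hQc
    have hQP' : Q < P := lt_of_le_of_ne hQP fun h => hlt.ne (by rw [← hQc, h, hl])
    refine ⟨L.snoc P (by rw [hLl]; exact hQP'), by simp [hL]; omega, by simp, fun i => ?_⟩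
    refine Fin.lastCases ?_ (fun j => ?_) i
    · rw [show (L.snoc P _) (Fin.last _) = P from RelSeries.last_snoc _ _ _]
      exact ⟨hP, Fin.last _, hl⟩
    · obtain ⟨h1, j', h2⟩ := hLi j
      erw [RelSeries.snoc_castSucc]
      exact ⟨h1, ⟨j', by have := j'.2; simp at this; omega⟩, h2⟩

end Support

section Dim

variable {R S : Type u} [CommRing R] [CommRing S] [Algebra R S] [IsNoetherianRing R] [IsNoetherianRing S]
  [IsLocalRing R] [IsLocalRing S] [IsLocalHom (algebraMap R S)]
variable {N : Type u} [AddCommGroup N] [Module S N] [Module R N] [IsScalarTower R S N]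
  [Module.Finite S N]

theorem supportDim_tensor_le (M : Type u) [AddCommGroup M] [Module R M] [Module.Finite R M] {d r : ℕ}
    (hd : Module.supportDim R M ≤ d)
    (hr : Module.supportDim S (N ⊗[R] (R ⧸ maximalIdeal R)) ≤ r) :
    Module.supportDim S (N ⊗[R] M) ≤ ((d + r : ℕ) : WithBot ℕ∞) := by
  obtain ⟨ys, hys, hysm, hysf⟩ := HilbSam.exists_parameters_list hd
  obtain ⟨zs, hzs, hzsm, hzsf⟩ := HilbSam.exists_parameters_list hr
  rw [← hys, ← hzs, ← List.length_map (algebraMap R S), ← List.length_append]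
  refine HilbSam.supportDim_le_of_list _ (fun a ha => ?_) ?_
  · rcases List.mem_append.1 ha with ha | ha
    · obtain ⟨b, hb, rfl⟩ := List.mem_map.1 ha
      have h1 := hysm b hb
      rw [ringJacobson_eq_maximalIdeal] at h1 ⊢
      exact map_nonunit _ b h1
    · exact hzsm a ha
  · refine HilbSam.isFiniteLength_of_support fun P hP => ?_
    rw [Module.support_quotient] at hP
    obtain ⟨hPX, hPI⟩ := hP
    rw [mem_support_tensor_iff] at hPX
    rw [PrimeSpectrum.mem_zeroLocus, SetLike.coe_subset_coe, Ideal.ofList, Ideal.span_le] at hPI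
    have hmax : (P.asIdeal.comap (algebraMap R S)).IsMaximal := by
      refine HilbSam.isMaximal_of_mem_support (p := PrimeSpectrum.comap (algebraMap R S) P) hysf ?_
      rw [Module.support_quotient]
      refine ⟨hPX.2, ?_⟩
      rw [PrimeSpectrum.mem_zeroLocus, SetLike.coe_subset_coe, Ideal.ofList, Ideal.span_le]
      exact fun b hb => hPI (List.mem_append_left _ (List.mem_map_of_mem hb))
    refine HilbSam.isMaximal_of_mem_support hzsf ?_
    rw [Module.support_quotient]
    refine ⟨(mem_support_tensor_iff P).2 ⟨hPX.1, ?_⟩, ?_⟩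
    · rw [DepthLib.support_quotient, PrimeSpectrum.mem_zeroLocus]
      exact ((IsLocalRing.eq_maximalIdeal hmax).ge)
    · rw [PrimeSpectrum.mem_zeroLocus, SetLike.coe_subset_coe, Ideal.ofList, Ideal.span_le]
      exact fun b hb => hPI (List.mem_append_right _ hb)

variable [Module.Flat R N]

/-- `dim (N ⊗ M) = dim M + dim (N / 𝔪 N)` for `N` flat over the base. -/
theorem supportDim_tensor [Nontrivial N] (M : Type u) [AddCommGroup M] [Module R M] [Module.Finite R M]
    [Nontrivial M] :
    Module.supportDim S (N ⊗[R] M) =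
      Module.supportDim R M + Module.supportDim S (N ⊗[R] (R ⧸ maximalIdeal R)) := by
  have := nontrivial_fibre S (R := R) (N := N)
  obtain ⟨d, hd⟩ := DepthLib.exists_supportDim_eq_natCast (R := R) (M := M)
  obtain ⟨r, hr⟩ := DepthLib.exists_supportDim_eq_natCast (R := S) (M := N ⊗[R] (R ⧸ maximalIdeal R))
  rw [hd, hr, ← Nat.cast_add]
  refine le_antisymm (supportDim_tensor_le M hd.le hr.le) ?_
  obtain ⟨c, hc⟩ := (Order.le_krullDim_iff (α := Module.support S (N ⊗[R] (R ⧸ maximalIdeal R))) (n := r)).1 hr.ge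
  obtain ⟨l, hl⟩ := (Order.le_krullDim_iff (α := Module.support R M) (n := d)).1 hd.ge
  obtain ⟨l', hl', hlast, hmem⟩ : ∃ l' : LTSeries (PrimeSpectrum R), l'.length = d ∧
      l'.last = closedPoint R ∧ ∀ j, l' j ∈ Module.support R M := by
    have hmax : closedPoint R ∈ Module.support R M :=
      closedPoint_mem_support R M
    let l₀ : LTSeries (PrimeSpectrum R) := l.map Subtype.val fun _ _ h => h
    rcases Nat.eq_zero_or_pos d with rfl | hd0
    · exact ⟨RelSeries.singleton _ (closedPoint R), rfl, rfl, fun _ => hmax⟩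
    have hlt : l₀.eraseLast.last < closedPoint R :=
      lt_of_lt_of_le (RelSeries.eraseLast_last_rel_last l₀
        (show l₀.length ≠ 0 by change l.length ≠ 0; omega)) (le_maximalIdeal l₀.last.2.ne_top)
    refine ⟨l₀.eraseLast.snoc (closedPoint R) hlt, ?_, by simp, fun j => ?_⟩
    · change l.length - 1 + 1 = d; omega
    · refine Fin.lastCases ?_ (fun i => ?_) j
      · rw [show (l₀.eraseLast.snoc (closedPoint R) hlt) (Fin.last _) = closedPoint R from
          RelSeries.last_snoc _ _ _]
        exact hmax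
      · erw [RelSeries.snoc_castSucc]
        exact (l _).2
  have hc0 := (mem_support_tensor_iff c.head.1).1 c.head.2
  have hc0' : PrimeSpectrum.comap (algebraMap R S) c.head.1 = l'.last := by
    rw [hlast]
    have h := hc0.2
    rw [DepthLib.support_quotient, PrimeSpectrum.mem_zeroLocus] at h
    exact PrimeSpectrum.ext (le_antisymm (le_maximalIdeal (Ideal.IsPrime.ne_top inferInstance)) h)
  obtain ⟨L, hL, hLlast, hLi⟩ := exists_ltSeries l' hc0.1 hc0'
  let L' : LTSeries (Module.support S (N ⊗[R] M)) :=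
    ⟨L.length, fun i => ⟨L i, (mem_support_tensor_iff _).2 ⟨(hLi i).1, by
      obtain ⟨j, hj⟩ := (hLi i).2
      rw [hj]; exact hmem j⟩⟩, fun i => L.step i⟩
  let c' : LTSeries (Module.support S (N ⊗[R] M)) :=
    c.map (fun q => ⟨q.1, (mem_support_tensor_iff _).2 ⟨((mem_support_tensor_iff q.1).1 q.2).1, by
      have h := ((mem_support_tensor_iff q.1).1 q.2).2
      rw [DepthLib.support_quotient, PrimeSpectrum.mem_zeroLocus] at h
      have e : PrimeSpectrum.comap (algebraMap R S) q.1 = closedPoint R :=
        PrimeSpectrum.ext (le_antisymm (le_maximalIdeal (Ideal.IsPrime.ne_top inferInstance)) h)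
      rw [e]
      exact closedPoint_mem_support R M⟩⟩) (fun _ _ h => h)
  have hh : L'.last = c'.head := Subtype.ext hLlast
  refine le_trans ?_ (Order.LTSeries.length_le_krullDim (L'.smash c' hh))
  simp [L', c', hL, hl', hc, LTSeries.map]

end Dim

end Groth.Agent.FlatDepth
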