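import Groth.Agent.Lib.FlatDepth.CM
import Groth.Agent.Lib.CplLocH7.Basic
import Groth.Prelude.Def_EGA4b
import Groth.Agent.Lib.FlatDepth.CplQuot
import Groth.Agent.Lib.Compl.Dim
import Mathlib

/-!
# Completion of a Cohen-Macaulay module, formal fibres
-/

namespace Groth.Agent.FlatDepth

universe u

open TensorProduct IsLocalRing

variable (A : Type u) [CommRing A] [IsNoetherianRing A] [IsLocalRing A]
  (M : Type u) [AddCommGroup M] [Module A M] [Module.Finite A M]

theorem nontrivial_of_support_univ (hsupp : Module.support A M = Set.univ) : Nontrivial M := by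
  rw [← Module.nonempty_support_iff (R := A), hsupp]
  exact Set.univ_nonempty

/-- The completion of a Cohen-Macaulay module is Cohen-Macaulay, with full support if the module has. -/
theorem cm_completion (hCM : LocCoh.IsCohenMacaulayModule A M) (hsupp : Module.support A M = Set.univ) :
    LocCoh.IsCohenMacaulayModule (EGA4.Cpl A) (EGA4.Cpl A ⊗[A] M) ∧
      Module.support (EGA4.Cpl A) (EGA4.Cpl A ⊗[A] M) = Set.univ := by
  haveI := CplLocH7.isNoetherianRing_cpl A
  haveI := CplLocH7.faithfullyFlat_cpl A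
  haveI := nontrivial_of_support_univ A M hsupp
  refine ⟨?_, Set.eq_univ_of_forall fun P => (mem_support_tensor_iff P).2
    ⟨?_, by rw [hsupp]; exact Set.mem_univ _⟩⟩
  · let k := EGA4.Cpl A ⊗[A] (A ⧸ maximalIdeal A)
    let e : k ≃ₗ[EGA4.Cpl A] EGA4.Cpl A ⧸ maximalIdeal (EGA4.Cpl A) :=
      (tensorQuotEquiv (EGA4.Cpl A) (maximalIdeal A)).trans (Submodule.quotEquivOfEq _ _ (by
        rw [Ideal.smul_eq_mul, Ideal.mul_top, CplLocH7.maximalIdeal_cpl]))
    have hdim : Module.supportDim (EGA4.Cpl A) k = 0 := by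
      rw [Module.supportDim_eq_of_equiv e, Module.supportDim_quotient_eq_ringKrullDim]
      letI : Field (EGA4.Cpl A ⧸ maximalIdeal (EGA4.Cpl A)) := Ideal.Quotient.field _
      exact ringKrullDim_eq_zero_of_field _
    haveI : Nontrivial k := e.toEquiv.nontrivial
    have hdep : LocCoh.depth (EGA4.Cpl A) k = 0 :=
      nonpos_iff_eq_zero.1 (WithBot.coe_le_coe.1 (DepthLib.depth_le_supportDim.trans hdim.le))
    show _ = _
    rw [supportDim_tensor, depth_tensor, hdim, hdep, add_zero, add_zero]
    exact hCM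
  · rw [Module.support_eq_zeroLocus, PrimeSpectrum.mem_zeroLocus]
    intro a ha
    have := Module.mem_annihilator.1 ha (1 : EGA4.Cpl A)
    rw [smul_eq_mul, mul_one] at this
    rw [this]
    exact P.asIdeal.zero_mem

/-- A local ring carrying a Cohen-Macaulay module of full support has Cohen-Macaulay formal fibres. -/
theorem hasCMFormalFibres_of_cm_module (hCM : LocCoh.IsCohenMacaulayModule A M)
    (hsupp : Module.support A M = Set.univ) : EGA4.HasCMFormalFibres A := by
  haveI := CplLocH7.isNoetherianRing_cpl A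
  haveI := CplLocH7.faithfullyFlat_cpl A
  obtain ⟨h1, h2⟩ := cm_completion A M hCM hsupp
  intro p _
  haveI := isNoetherianRing_fiber (A := A) (B := EGA4.Cpl A) p
  rw [cohenMacaulayRing_iff]
  intro k
  refine hasSk_fiber_of_skIneq p fun q _ _ => ?_
  have hq : (⟨q, ‹_›⟩ : PrimeSpectrum (EGA4.Cpl A)) ∈
      Module.support (EGA4.Cpl A) (EGA4.Cpl A ⊗[A] M) := h2 ▸ Set.mem_univ _
  obtain ⟨hF, hE⟩ := nontrivial_factors (A := A) (q := q) (F := EGA4.Cpl A) (E := M)
    (Module.mem_support_iff.1 hq)
  obtain ⟨hd, hdim⟩ := atPrime_invariants (A := A) (EGA4.Cpl A) M q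
  obtain ⟨hW, hdim⟩ := hdim hF hE
  have hcm := (DepthLib.isCohenMacaulayModule_localizedModule h1 q hq).1
  unfold LocCoh.IsCohenMacaulayModule at hcm
  rw [hd, hdim, (fib_self_invariants q).1, (fib_self_invariants q).2,
    ← Module.supportDim_self_eq_ringKrullDim] at hcm
  obtain ⟨d, hd'⟩ := DepthLib.exists_supportDim_eq_natCast
    (R := Localization.AtPrime (q.comap (algebraMap A (EGA4.Cpl A))))
    (M := LocalizedModule (q.comap (algebraMap A (EGA4.Cpl A))).primeCompl M)
  obtain ⟨e, he⟩ := DepthLib.exists_supportDim_eq_natCast (R := EGA4.FibLocRing A (EGA4.Cpl A) q)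
    (M := EGA4.FibLocRing A (EGA4.Cpl A) q)
  obtain ⟨a, ha⟩ := DepthLib.exists_depth_eq_natCast
    (R := Localization.AtPrime (q.comap (algebraMap A (EGA4.Cpl A))))
    (M := LocalizedModule (q.comap (algebraMap A (EGA4.Cpl A))).primeCompl M)
  obtain ⟨b, hb⟩ := DepthLib.exists_depth_eq_natCast (R := EGA4.FibLocRing A (EGA4.Cpl A) q)
    (M := EGA4.FibLocRing A (EGA4.Cpl A) q)
  have hle : (a : ℕ∞) ≤ d := by
    have := DepthLib.depth_le_supportDim (R := Localization.AtPrime (q.comap (algebraMap A (EGA4.Cpl A))))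
      (M := LocalizedModule (q.comap (algebraMap A (EGA4.Cpl A))).primeCompl M)
    rw [ha, hd'] at this
    exact_mod_cast this
  rw [SkIneq, ← Module.supportDim_self_eq_ringKrullDim, he, hb, DepthLib.cast_min_le_iff]
  rw [hd', he, ha, hb] at hcm
  have : d + e = a + b := by exact_mod_cast hcm
  have hle' : a ≤ d := by exact_mod_cast hle
  omega

/-- A local ring carrying a Cohen-Macaulay module of full support is formally equidimensional. -/
theorem isFormallyEquidim_of_cm_module (hCM : LocCoh.IsCohenMacaulayModule A M)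
    (hsupp : Module.support A M = Set.univ) : EGA4.IsFormallyEquidim A := by
  haveI := CplLocH7.isNoetherianRing_cpl A
  obtain ⟨h1, h2⟩ := cm_completion A M hCM hsupp
  intro p hp
  haveI := hp.1.1
  have hass : p ∈ associatedPrimes (EGA4.Cpl A) (EGA4.Cpl A ⊗[A] M) := by
    refine Module.associatedPrimes.minimalPrimes_annihilator_subset_associatedPrimes _ _ ?_
    have hle : Module.annihilator (EGA4.Cpl A) (EGA4.Cpl A ⊗[A] M) ≤ p := by
      have := h2.ge (Set.mem_univ (⟨p, inferInstance⟩ : PrimeSpectrum (EGA4.Cpl A)))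
      rwa [Module.support_eq_zeroLocus] at this
    exact ⟨⟨inferInstance, hle⟩, fun P hP hPle => hp.2 ⟨hP.1, bot_le⟩ hPle⟩
  rw [DepthLib.ringKrullDim_quotient_eq_of_mem_associatedPrimes h1 hass, Module.supportDim, h2,
    ringKrullDim]
  exact Order.krullDim_eq_of_orderIso OrderIso.Set.univ

omit [IsNoetherianRing A] [IsLocalRing A] in
/-- In a Cohen-Macaulay local ring, dimension is height plus coheight. -/
theorem dim_quotient_add_height [LocCoh.IsCohenMacaulayLocalRing A] (P : Ideal A) [P.IsPrime] :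
    ringKrullDim A = ringKrullDim (A ⧸ P) + (P.height : WithBot ℕ∞) := by
  have h : LocCoh.IsCohenMacaulayModule A A := LocCoh.IsCohenMacaulayLocalRing.supportDim_eq_depth
  have hs : (⟨P, ‹_›⟩ : PrimeSpectrum A) ∈ Module.support A A := by
    rw [Module.support_eq_zeroLocus, PrimeSpectrum.mem_zeroLocus]
    intro a ha
    have := Module.mem_annihilator.1 ha (1 : A)
    rw [smul_eq_mul, mul_one] at this
    rw [this]
    exact P.zero_mem
  have h3 := (DepthLib.isCohenMacaulayModule_localizedModule h P hs).2.2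
  rwa [Module.supportDim_self_eq_ringKrullDim, DepthLib.supportDim_eq_ringKrullDim_of_isPrime] at h3

/-- Quotient domains of Cohen-Macaulay local rings are formally equidimensional. -/
theorem isFormallyEquidim_quotient_prime [hA : LocCoh.IsCohenMacaulayLocalRing A]
    (C : Type u) [CommRing C] [IsDomain C] [IsNoetherianRing C] [IsLocalRing C] [Algebra A C]
    (hs : Function.Surjective (algebraMap A C)) : EGA4.IsFormallyEquidim C := by
  haveI := CplLocH7.isNoetherianRing_cpl A
  haveI := CplLocH7.isNoetherianRing_cpl C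
  haveI := CplLocH7.faithfullyFlat_cpl A
  have hsupp : Module.support A A = Set.univ := Set.eq_univ_of_forall fun P => by
    rw [Module.support_eq_zeroLocus, PrimeSpectrum.mem_zeroLocus]
    intro a ha
    have := Module.mem_annihilator.1 ha (1 : A)
    rw [smul_eq_mul, mul_one] at this
    rw [this]
    exact P.asIdeal.zero_mem
  haveI : LocCoh.IsCohenMacaulayLocalRing (EGA4.Cpl A) := by
    obtain ⟨h1, -⟩ := cm_completion A A hA.supportDim_eq_depth hsupp
    have e : EGA4.Cpl A ⊗[A] A ≃ₗ[EGA4.Cpl A] EGA4.Cpl A := AlgebraTensorModule.rid A (EGA4.Cpl A) (EGA4.Cpl A)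
    refine ⟨?_⟩
    unfold LocCoh.IsCohenMacaulayModule at h1
    rwa [Module.supportDim_eq_of_equiv e, LocCoh.depth, DepthLib.idealDepth_congr e] at h1
  let π := cplQuotHom A C hs
  have hπ : Function.Surjective π := cplQuotHom_surjective A C hs
  haveI := RingHom.ker_isPrime (algebraMap A C)
  intro Q hQ
  haveI := hQ.1.1
  let Q' := Q.comap π
  have hker : RingHom.ker π ≤ Q' := fun x hx => by
    rw [Ideal.mem_comap, RingHom.mem_ker.1 hx]; exact Q.zero_mem
  have hmin : Q' ∈ ((RingHom.ker (algebraMap A C)).map (algebraMap A (EGA4.Cpl A))).minimalPrimes := by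
    rw [← ker_cplQuotHom A C hs]
    refine ⟨⟨inferInstance, hker⟩, fun P hP hPle => ?_⟩
    haveI := hP.1
    haveI : (P.map π).IsPrime := Ideal.map_isPrime_of_surjective hπ hP.2
    have h1 : Q ≤ P.map π := hQ.2 ⟨inferInstance, bot_le⟩
      ((Ideal.map_mono hPle).trans (Ideal.map_comap_of_surjective _ hπ Q).le)
    refine (Ideal.comap_mono (f := π) h1).trans ?_
    rw [Ideal.comap_map_of_surjective _ hπ, ← RingHom.ker_eq_comap_bot]
    exact sup_le le_rfl hP.2
  have hQA : Q'.comap (algebraMap A (EGA4.Cpl A)) = RingHom.ker (algebraMap A C) := by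
    refine le_antisymm ?_ (Ideal.map_le_iff_le_comap.1 hmin.1.2)
    haveI : Q'.LiesOver (Q'.comap (algebraMap A (EGA4.Cpl A))) := ⟨rfl⟩
    obtain ⟨Q'', hle, hQ'', hover⟩ := Ideal.exists_ideal_le_liesOver_of_le Q'
      (p := RingHom.ker (algebraMap A C)) (q := Q'.comap (algebraMap A (EGA4.Cpl A)))
      (Ideal.map_le_iff_le_comap.1 hmin.1.2)
    have : Q' ≤ Q'' := hmin.2 ⟨hQ'', Ideal.map_le_iff_le_comap.2 hover.over.le⟩ hle
    exact (Ideal.comap_mono this).trans hover.over.ge
  haveI : Q'.LiesOver (RingHom.ker (algebraMap A C)) := ⟨hQA.symm⟩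
  have hh : Q'.height = (RingHom.ker (algebraMap A C)).height := by
    rw [Ideal.height_eq_height_add_of_liesOver_of_hasGoingDown (RingHom.ker (algebraMap A C)) Q']
    suffices h0 : (Q'.map (Ideal.Quotient.mk ((RingHom.ker (algebraMap A C)).map
        (algebraMap A (EGA4.Cpl A))))).height = 0 by rw [h0, add_zero]
    haveI : Q'.IsPrime := inferInstance
    haveI := Ideal.map_isPrime_of_surjective (f := Ideal.Quotient.mk ((RingHom.ker (algebraMap A C)).map
      (algebraMap A (EGA4.Cpl A)))) Ideal.Quotient.mk_surjective (by rw [Ideal.mk_ker]; exact hmin.1.2)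
      (I := Q')
    rw [Ideal.height_eq_zero_iff]
    refine ⟨⟨inferInstance, bot_le⟩, fun P hP hPle => ?_⟩
    haveI := hP.1
    have h1 : P.comap (Ideal.Quotient.mk _) ≤ Q' := by
      refine (Ideal.comap_mono hPle).trans ?_
      rw [Ideal.comap_map_of_surjective _ Ideal.Quotient.mk_surjective, ← RingHom.ker_eq_comap_bot,
        Ideal.mk_ker]
      exact sup_le le_rfl hmin.1.2
    exact Ideal.map_le_iff_le_comap.2 (hmin.2 ⟨inferInstance, fun x hx => by
      rw [Ideal.mem_comap, Ideal.Quotient.eq_zero_iff_mem.2 hx]; exact zero_mem P⟩ h1)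
  have e1 : ringKrullDim (EGA4.Cpl C ⧸ Q) = ringKrullDim (EGA4.Cpl A ⧸ Q') :=
    ringKrullDim_eq_of_ringEquiv ((RingHom.quotientKerEquivOfSurjective
      (f := (Ideal.Quotient.mk Q).comp π) (Ideal.Quotient.mk_surjective.comp hπ)).symm.trans
      (Ideal.quotEquivOfEq (by rw [← RingHom.comap_ker, Ideal.mk_ker])))
  have e2 : ringKrullDim C = ringKrullDim (A ⧸ RingHom.ker (algebraMap A C)) :=
    ringKrullDim_eq_of_ringEquiv (RingHom.quotientKerEquivOfSurjective hs).symm
  have hA1 := dim_quotient_add_height A (RingHom.ker (algebraMap A C))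
  have hA2 := dim_quotient_add_height (EGA4.Cpl A) Q'
  rw [show ringKrullDim (EGA4.Cpl A) = ringKrullDim A from Compl.ringKrullDim_maximalIdeal_adicCompletion A,
    hA1, hh] at hA2
  obtain ⟨n, hn⟩ := ENat.ne_top_iff_exists.1
    (Ideal.height_ne_top_of_isPrime (I := RingHom.ker (algebraMap A C)))
  rw [← hn] at hA2
  rw [e1, show ringKrullDim (EGA4.Cpl C) = ringKrullDim C from Compl.ringKrullDim_maximalIdeal_adicCompletion C, e2]
  exact le_antisymm (DepthLib.withBot_add_coe_cancel n hA2.ge) (DepthLib.withBot_add_coe_cancel n hA2.le)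

end Groth.Agent.FlatDepth
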