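import Groth.Agent.Lib.FlatDepth.RkFlat
import Groth.Agent.Lib.FlatDepth.RegNormal
import Groth.Agent.Lib.FlatDepth.CMTensor
import Mathlib

/-!
# Openness of loci in Noetherian spectra
-/

namespace Groth.Agent.FlatDepth

universe u

open IsLocalRing Pointwise

variable {A : Type u} [CommRing A] [IsNoetherianRing A]

/-- A set is open if finitely many primes generate its complement. -/
theorem isOpen_of_finite_generators (U : Set (PrimeSpectrum A)) (hU : ∀ p q : PrimeSpectrum A, p.asIdeal ≤ q.asIdeal → q ∈ U → p ∈ U)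
    (Z : Set (PrimeSpectrum A)) (hZ : Z.Finite)
    (h : ∀ q ∉ U, (∀ p : PrimeSpectrum A, p.asIdeal < q.asIdeal → p ∈ U) → q ∈ Z) : IsOpen U := by
  have key : ∀ n : ℕ, ∀ q : PrimeSpectrum A, q.asIdeal.height ≤ n → q ∉ U →
      ∃ z ∈ Z \ U, z.asIdeal ≤ q.asIdeal := by
    intro n
    induction n with
    | zero =>
      intro q hq hqU
      refine ⟨q, ⟨h q hqU fun p hp => ?_, hqU⟩, le_rfl⟩
      exact absurd ((Ideal.height_strict_mono_of_isPrime hp).trans_le hq) (by simp)
    | succ n ih =>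
      intro q hq hqU
      by_cases hall : ∀ p : PrimeSpectrum A, p.asIdeal < q.asIdeal → p ∈ U
      · exact ⟨q, ⟨h q hqU hall, hqU⟩, le_rfl⟩
      · push Not at hall
        obtain ⟨p, hp, hpU⟩ := hall
        have hlt := (Ideal.height_strict_mono_of_isPrime hp).trans_le hq
        obtain ⟨z, hz, hzp⟩ := ih p (by
          rw [Nat.cast_succ] at hlt
          exact ENat.lt_coe_add_one_iff.1 hlt) hpU
        exact ⟨z, hz, hzp.trans hp.le⟩
  have hcl : Uᶜ = ⋃ z ∈ Z \ U, closure {z} := by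
    ext q
    simp only [Set.mem_compl_iff, Set.mem_iUnion, ← specializes_iff_mem_closure, ← PrimeSpectrum.le_iff_specializes,
      exists_prop]
    refine ⟨fun hq => ?_, fun ⟨z, hz, hle⟩ hq => hz.2 (hU z q hle hq)⟩
    obtain ⟨n, hn⟩ := WithTop.ne_top_iff_exists.1 (Ideal.height_ne_top (I := q.asIdeal) q.2.ne_top)
    exact key n q hn.ge hq
  rw [← isClosed_compl_iff, hcl]
  exact (hZ.sdiff).isClosed_biUnion fun _ _ => isClosed_closure

/-- Nagata's criterion. -/
theorem isOpen_of_nagata (U : Set (PrimeSpectrum A)) (hU : ∀ p q : PrimeSpectrum A, p.asIdeal ≤ q.asIdeal → q ∈ U → p ∈ U)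
    (h : ∀ p ∈ U, ∃ f : A, f ∉ p.asIdeal ∧ ∀ q : PrimeSpectrum A, p.asIdeal ≤ q.asIdeal → f ∉ q.asIdeal → q ∈ U) :
    IsOpen U := by
  obtain ⟨I, hI⟩ := (PrimeSpectrum.isClosed_iff_zeroLocus_ideal (closure Uᶜ)).1 isClosed_closure
  have hmin : ∀ (z : Ideal A) (hz : z ∈ I.minimalPrimes), (⟨z, hz.1.1⟩ : PrimeSpectrum A) ∉ U := by
    intro z hz hzU
    obtain ⟨f, hf, hfU⟩ := h _ hzU
    have hfin := Ideal.finite_minimalPrimes_of_isNoetherianRing A I
    haveI := hz.1.1
    have hnle : ¬ (hfin.toFinset.erase z).inf id ≤ z := by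
      rw [Ideal.IsPrime.inf_le' ‹z.IsPrime›]
      rintro ⟨w, hw, hwz⟩
      rw [Finset.mem_erase, Set.Finite.mem_toFinset] at hw
      exact hw.1 (le_antisymm hwz (hz.2 hw.2.1 hwz))
    obtain ⟨g, hg, hgz⟩ := SetLike.not_le_iff_exists.1 hnle
    have hsub : closure Uᶜ ⊆ PrimeSpectrum.zeroLocus {f * g} := by
      refine closure_minimal (fun q hq => ?_) (PrimeSpectrum.isClosed_zeroLocus _)
      rw [PrimeSpectrum.mem_zeroLocus, Set.singleton_subset_iff]
      have hqI : I ≤ q.asIdeal := fun a ha =>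
        (PrimeSpectrum.mem_zeroLocus _ _).1 (hI ▸ subset_closure hq) ha
      obtain ⟨w, hw, hwq⟩ := Ideal.exists_minimalPrimes_le hqI
      by_cases hwz : w = z
      · subst hwz
        by_contra hfg
        exact hq (hfU q hwq fun hf' => hfg (Ideal.mul_mem_right _ _ hf'))
      · exact Ideal.mul_mem_left _ _ (hwq (Submodule.mem_finsetInf.1 hg w
          (Finset.mem_erase.2 ⟨hwz, hfin.mem_toFinset.2 hw⟩)))
    have hzcl : (⟨z, hz.1.1⟩ : PrimeSpectrum A) ∈ closure Uᶜ := by
      rw [hI, PrimeSpectrum.mem_zeroLocus]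
      exact hz.1.2
    have hmem : f * g ∈ z := by simpa [PrimeSpectrum.mem_zeroLocus] using hsub hzcl
    exact (hz.1.1.mem_or_mem hmem).elim hf hgz
  refine isOpen_of_finite_generators U hU
    {q | q.asIdeal ∈ I.minimalPrimes}
    ((Ideal.finite_minimalPrimes_of_isNoetherianRing A I).preimage
      (fun a _ b _ e => PrimeSpectrum.ext e)) fun q hq hgen => ?_
  have hqI : I ≤ q.asIdeal := fun a ha => (PrimeSpectrum.mem_zeroLocus _ _).1 (hI ▸ subset_closure hq) ha
  obtain ⟨w, hw, hwq⟩ := Ideal.exists_minimalPrimes_le hqI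
  rcases eq_or_lt_of_le hwq with rfl | hlt
  · exact hw
  · exact absurd (hgen ⟨w, hw.1.1⟩ hlt) (hmin w hw)

theorem rkAt_mono {k : ℕ} {p q : PrimeSpectrum A} (h : p.asIdeal ≤ q.asIdeal) (hq : RkAt k A q.asIdeal) :
    RkAt k A p.asIdeal :=
  fun q' _ hle => hq q' (hle.trans h)

theorem setOf_hasRkAt (k : ℕ) : {p : PrimeSpectrum A | EGA4.HasRkAt k A p.asIdeal} = {p | RkAt k A p.asIdeal} :=
  Set.ext fun p => hasRk_localization_iff k p.asIdeal

/-- The generic points of the failure of `(R_k)`. -/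
theorem rk_generic {k : ℕ} (q : PrimeSpectrum A) (hq : ¬ RkAt k A q.asIdeal)
    (hgen : ∀ p : PrimeSpectrum A, p.asIdeal < q.asIdeal → RkAt k A p.asIdeal) :
    q.asIdeal.height ≤ k ∧ ¬ IsRegularLocalRing (Localization.AtPrime q.asIdeal) := by
  rw [← Classical.not_imp]
  intro hall
  refine hq fun q' hq' hle hk => ?_
  rcases eq_or_lt_of_le hle with rfl | hlt
  · exact hall hk
  · exact hgen ⟨q', hq'⟩ hlt q' le_rfl hk

theorem regular_of_le {p q : PrimeSpectrum A} (h : p.asIdeal ≤ q.asIdeal)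
    (hq : IsRegularLocalRing (Localization.AtPrime q.asIdeal)) :
    IsRegularLocalRing (Localization.AtPrime p.asIdeal) := by
  haveI := hq
  obtain ⟨k, hk⟩ := WithTop.ne_top_iff_exists.1 (Ideal.height_ne_top (I := p.asIdeal) p.2.ne_top)
  exact ((hasRk_localization_iff k q.asIdeal).1 fun Q _ _ => RegLoc.isRegularLocalRing_localization _ Q)
    p.asIdeal h hk.ge

theorem isOpen_rk (h : IsOpen (EGA4.regLocus A)) (k : ℕ) : IsOpen {p : PrimeSpectrum A | RkAt k A p.asIdeal} := by
  obtain ⟨I, hI⟩ := (PrimeSpectrum.isClosed_iff_zeroLocus_ideal _).1 h.isClosed_compl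
  refine isOpen_of_finite_generators _ (fun p q h => rkAt_mono h) {q | q.asIdeal ∈ I.minimalPrimes}
    ((Ideal.finite_minimalPrimes_of_isNoetherianRing A I).preimage (fun a _ b _ e => PrimeSpectrum.ext e))
    fun q hq hgen => ?_
  obtain ⟨hk, hreg⟩ := rk_generic q hq hgen
  have hqI : I ≤ q.asIdeal := fun a ha =>
    (PrimeSpectrum.mem_zeroLocus _ _).1 (hI ▸ (show q ∈ (EGA4.regLocus A)ᶜ from hreg)) ha
  obtain ⟨w, hw, hwq⟩ := Ideal.exists_minimalPrimes_le hqI
  rcases eq_or_lt_of_le hwq with rfl | hlt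
  · exact hw
  · haveI := hw.1.1
    have hwreg : ¬ IsRegularLocalRing (Localization.AtPrime w) :=
      hI.symm.subset ((PrimeSpectrum.mem_zeroLocus (⟨w, hw.1.1⟩ : PrimeSpectrum A) _).2 (SetLike.coe_subset_coe.2 hw.1.2))
    haveI := hw.1.1
    exact absurd (hgen ⟨w, hw.1.1⟩ hlt w le_rfl ((Ideal.height_mono hwq).trans hk)) hwreg

theorem isOpen_rk_zero : IsOpen {p : PrimeSpectrum A | RkAt 0 A p.asIdeal} := by
  refine isOpen_of_finite_generators _ (fun p q h => rkAt_mono h) {q | q.asIdeal ∈ minimalPrimes A}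
    ((Ideal.finite_minimalPrimes_of_isNoetherianRing A ⊥).preimage (fun a _ b _ e => PrimeSpectrum.ext e))
    fun q hq hgen => ?_
  exact Ideal.height_eq_zero_iff.1 (le_antisymm (rk_generic q hq hgen).1 bot_le)

/-- If `x` is regular at `q` and `q` is not associated to `A/(x)`, the depth at `q` is at least two. -/
theorem two_le_depth_of_notMem (q : Ideal A) [q.IsPrime] {x : A} (hx : x ∈ q)
    (hreg : IsSMulRegular (Localization.AtPrime q) (algebraMap A (Localization.AtPrime q) x))
    (hass : q ∉ associatedPrimes A (A ⧸ Ideal.span {x})) :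
    2 ≤ LocCoh.depth (Localization.AtPrime q) (Localization.AtPrime q) := by
  classical
  let L := Localization.AtPrime q
  let a := algebraMap A L x
  have ham : a ∈ maximalIdeal L := (IsLocalization.AtPrime.to_map_mem_maximal_iff L q x).2 hx
  refine (DepthLib.natCast_le_idealDepth_quotSMulTop_iff ham hreg 1).1 ?_
  rw [Nat.cast_one]
  by_cases hex : ∃ r ∈ maximalIdeal L, IsSMulRegular (QuotSMulTop a L) r
  · obtain ⟨r, hr, hr'⟩ := hex
    exact DepthLib.one_le_idealDepth_of_regular hr hr'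
  exfalso
  push Not at hex
  obtain ⟨Q, hQ, hle⟩ := DepthLib.exists_associatedPrime_ge hex
  obtain ⟨-, z, hz⟩ := isAssociatedPrime_iff.1 hQ
  obtain ⟨b, rfl⟩ := Submodule.Quotient.mk_surjective _ z
  rw [← (maximalIdeal.isMaximal L).eq_of_le hQ.isPrime.ne_top hle] at hz
  have hzmem : ∀ r, r ∈ maximalIdeal L ↔ a ∣ r * b := fun r => by
    rw [hz, Submodule.mem_colon_singleton, Submodule.mem_bot, ← Submodule.Quotient.mk_smul,
      Submodule.Quotient.mk_eq_zero, Submodule.mem_smul_pointwise_iff_exists]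
    simp [dvd_def, eq_comm]
  obtain ⟨⟨b₀, s⟩, hb⟩ := IsLocalization.surj q.primeCompl b
  -- `r b₀` lies in `x A_q` for `r ∈ q`
  have hloc : ∀ r ∈ q, ∃ t ∈ q.primeCompl, x ∣ t * (r * b₀) := by
    intro r hr
    obtain ⟨c, hc⟩ := (hzmem (algebraMap A L r)).1 ((IsLocalization.AtPrime.to_map_mem_maximal_iff L q r).2 hr)
    obtain ⟨⟨c₀, u⟩, hc₀⟩ := IsLocalization.surj q.primeCompl c
    have : algebraMap A L (u * (r * b₀)) = algebraMap A L (x * (c₀ * s)) := by
      simp only [map_mul] at hb hc₀ ⊢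
      rw [← hb, ← hc₀]
      linear_combination (algebraMap A L u) * (algebraMap A L s) * hc
    obtain ⟨v, hv⟩ := (IsLocalization.eq_iff_exists q.primeCompl L).1 this
    exact ⟨v * u, mul_mem v.2 u.2, ⟨v * (c₀ * s), by linear_combination hv⟩⟩
  obtain ⟨G, hG⟩ := (IsNoetherian.noetherian q : q.FG)
  choose t ht htx using fun g : G => hloc g.1 (hG ▸ Ideal.subset_span g.2)
  let T := ∏ g : G, t g
  have hT : T ∈ q.primeCompl := prod_mem fun g _ => ht g
  refine hass (isAssociatedPrime_iff.2 ⟨‹_›, Ideal.Quotient.mk _ (T * b₀), le_antisymm (fun r hr => ?_) fun r hr => ?_⟩)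
  · have hsub : q ≤ Submodule.colon (⊥ : Submodule A (A ⧸ Ideal.span {x})) {Ideal.Quotient.mk _ (T * b₀)} := by
      conv_lhs => rw [← hG]
      refine Submodule.span_le.2 fun g hg => ?_
      rw [SetLike.mem_coe, Submodule.mem_colon_singleton, Submodule.mem_bot, Algebra.smul_def,
        Ideal.Quotient.algebraMap_eq, ← map_mul, Ideal.Quotient.eq_zero_iff_mem, Ideal.mem_span_singleton]
      obtain ⟨d, hd⟩ : t ⟨g, hg⟩ ∣ T := Finset.dvd_prod_of_mem _ (Finset.mem_univ _)
      rw [hd, show g * (t ⟨g, hg⟩ * d * b₀) = d * (t ⟨g, hg⟩ * (g * b₀)) by ring]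
      exact (htx ⟨g, hg⟩).mul_left d
    exact hsub hr
  · rw [Submodule.mem_colon_singleton, Submodule.mem_bot, Algebra.smul_def, Ideal.Quotient.algebraMap_eq,
      ← map_mul, Ideal.Quotient.eq_zero_iff_mem, Ideal.mem_span_singleton] at hr
    by_contra hrq
    refine (maximalIdeal.isMaximal L).ne_top ((Ideal.eq_top_iff_one _).2 ((hzmem 1).2 ?_))
    have hu : IsUnit (algebraMap A L (r * T)) :=
      IsLocalization.map_units L (⟨r * T, mul_mem hrq hT⟩ : q.primeCompl)
    have hd := map_dvd (algebraMap A L) hr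
    rw [← mul_assoc r T b₀, map_mul, hu.dvd_mul_left, ← hb, (IsLocalization.map_units L s).dvd_mul_right] at hd
    rwa [one_mul]

theorem one_le_depth_iff (q : Ideal A) [q.IsPrime] :
    1 ≤ LocCoh.depth (Localization.AtPrime q) (Localization.AtPrime q) ↔ q ∉ associatedPrimes A A := by
  rw [← DepthLib.depth_localizedModule_self q]
  exact ⟨ClosedAlong.notMem_associatedPrimes_of_one_le_depth q, ClosedAlong.one_le_depth_of_notMem_associatedPrimes q⟩

/-- The generic points of non-normality, given open sets around the normal minimal primes. -/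
theorem isOpen_normal_of_generic
    (h : ∀ p : PrimeSpectrum A, p.asIdeal ∈ minimalPrimes A → p ∈ EGA4.norLocus A →
      ∃ U : Set (PrimeSpectrum A), IsOpen U ∧ p ∈ U ∧ U ⊆ EGA4.norLocus A) :
    IsOpen (EGA4.norLocus A) := by
  classical
  have hmono : ∀ p q : PrimeSpectrum A, p.asIdeal ≤ q.asIdeal → q ∈ EGA4.norLocus A → p ∈ EGA4.norLocus A := by
    intro p q hle hq
    obtain ⟨h1, h2⟩ := (normalAt_iff q.asIdeal).1 hq
    exact (normalAt_iff p.asIdeal).2 ⟨rkAt_mono hle h1, fun q' _ hq' => h2 q' (hq'.trans hle)⟩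
  -- a closed set away from the good minimal primes
  let Good := {p : PrimeSpectrum A | p.asIdeal ∈ minimalPrimes A ∧ p ∈ EGA4.norLocus A}
  let V : Set (PrimeSpectrum A) := (interior (EGA4.norLocus A))ᶜ
  have hgood : ∀ p ∈ Good, p ∉ V := fun p hp hV => by
    obtain ⟨U, hU, hpU, hsub⟩ := h p hp.1 hp.2
    exact hV (interior_maximal hsub hU hpU)
  obtain ⟨J, hJ⟩ := (PrimeSpectrum.isClosed_iff_zeroLocus_ideal V).1 isOpen_interior.isClosed_compl
  have hfA : (associatedPrimes A A).Finite := associatedPrimes.finite A A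
  have hsel : ∀ T : Finset (Ideal A), ∃ x : A, (∀ t ∈ T, ¬ J ≤ t) → (∀ t ∈ T, t.IsPrime) →
      x ∈ J ∧ ∀ t ∈ T, x ∉ t := fun T => by
    by_cases hc : (∀ t ∈ T, ¬ J ≤ t) ∧ (∀ t ∈ T, t.IsPrime)
    · have : ¬ (J : Set A) ⊆ ⋃ t ∈ (T : Set (Ideal A)), (t : Set A) := fun hsub => by
        obtain ⟨t, ht, hle⟩ := (Ideal.subset_union_prime ⊥ ⊥ fun t ht _ _ => hc.2 t ht).1 hsub
        exact hc.1 t ht hle
      obtain ⟨x, hx, hx'⟩ := Set.not_subset.1 this
      exact ⟨x, fun _ _ => ⟨hx, fun t ht hxt => hx' (Set.mem_biUnion ht hxt)⟩⟩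
    · exact ⟨0, fun h1 h2 => absurd ⟨h1, h2⟩ hc⟩
  choose x hx using hsel
  let Z : Set (Ideal A) := minimalPrimes A ∪ associatedPrimes A A ∪
    (⋃ p ∈ minimalPrimes A, (p ⊔ J).minimalPrimes) ∪
    ⋃ T ∈ (hfA.toFinset.powerset : Set (Finset (Ideal A))), associatedPrimes A (A ⧸ Ideal.span {x T})
  have hZ : Z.Finite := by
    have hm : (minimalPrimes A).Finite := Ideal.finite_minimalPrimes_of_isNoetherianRing A ⊥
    refine ((hm.union hfA).union (hm.biUnion fun p _ => Ideal.finite_minimalPrimes_of_isNoetherianRing A _)).union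
      ((Finset.finite_toSet _).biUnion fun T _ => associatedPrimes.finite A _)
  refine isOpen_of_finite_generators _ hmono {q | q.asIdeal ∈ Z}
    (hZ.preimage fun a _ b _ e => PrimeSpectrum.ext e) fun q hq hgen => ?_
  by_contra hqZ
  simp only [Z, Set.mem_setOf_eq, Set.mem_union, not_or, Set.mem_iUnion, not_exists] at hqZ
  obtain ⟨⟨⟨hqmin, hqass⟩, hqJ⟩, hqT⟩ := hqZ
  have hJq : J ≤ q.asIdeal := fun a ha =>
    (PrimeSpectrum.mem_zeroLocus _ _).1 (hJ ▸ (show q ∈ V from fun hi => hq (interior_subset hi))) ha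
  have hbelow : ∀ w : Ideal A, ∀ hw : w.IsPrime, w ∈ minimalPrimes A → w ≤ q.asIdeal → ¬ J ≤ w := by
    intro w hw hwm hwq hJw
    have hlt : w < q.asIdeal := lt_of_le_of_ne hwq fun e => hqmin (e ▸ hwm)
    exact hgood ⟨w, hw⟩ ⟨hwm, hgen ⟨w, hw⟩ hlt⟩ (hJ.symm.subset ((PrimeSpectrum.mem_zeroLocus _ _).2 hJw))
  obtain ⟨p₀, hp₀, hp₀q⟩ := Ideal.exists_minimalPrimes_le (bot_le : ⊥ ≤ q.asIdeal)
  have hht0 : q.asIdeal.height ≠ 0 := fun e => hqmin (Ideal.height_eq_zero_iff.1 e)
  have hht : 2 ≤ q.asIdeal.height := by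
    by_contra hlt
    haveI := hp₀.1.1
    have h1 : q.asIdeal.height ≤ 1 := by
      have : q.asIdeal.height < 1 + 1 := by rw [one_add_one_eq_two]; exact not_le.1 hlt
      exact ENat.lt_coe_add_one_iff.1 (by exact_mod_cast this)
    obtain ⟨w, hw, hwq⟩ := Ideal.exists_minimalPrimes_le (sup_le hp₀q hJq)
    refine hqJ p₀ hp₀ ?_
    rcases eq_or_lt_of_le hwq with e | hl
    · exact e ▸ hw
    haveI := hw.1.1
    have hw0 : w.height = 0 := nonpos_iff_eq_zero.1 (Order.lt_one_iff.1
      ((Ideal.height_strict_mono_of_isPrime hl).trans_le h1)).le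
    have hwm := Ideal.height_eq_zero_iff.1 hw0
    exact absurd (le_sup_right.trans hw.1.2) (hbelow w hw.1.1 hwm hwq)
  let T := hfA.toFinset.filter (fun t => t ≤ q.asIdeal)
  have hTmin : ∀ t ∈ T, t ∈ minimalPrimes A := by
    intro t ht
    rw [Finset.mem_filter, Set.Finite.mem_toFinset] at ht
    haveI := ht.1.isPrime
    have hlt : t < q.asIdeal := lt_of_le_of_ne ht.2 fun e => hqass (e ▸ ht.1)
    by_contra hnm
    have hs := ((normalAt_iff t).1 (hgen ⟨t, ht.1.isPrime⟩ hlt)).2 t le_rfl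
    have h0 : t.height ≠ 0 := fun e => hnm (Ideal.height_eq_zero_iff.1 e)
    rw [SkIneq, IsLocalization.AtPrime.ringKrullDim_eq_height t] at hs
    have hs' : min (2 : ℕ∞) t.height ≤ LocCoh.depth (Localization.AtPrime t) (Localization.AtPrime t) := by
      have hs2 : ((min (2 : ℕ∞) t.height : ℕ∞) : WithBot ℕ∞) ≤ LocCoh.depth (Localization.AtPrime t) (Localization.AtPrime t) := by
        rw [WithBot.coe_min]; exact hs
      exact WithBot.coe_le_coe.1 hs2
    exact (one_le_depth_iff t).1 ((le_min (by norm_num) (Order.one_le_iff_pos.2 (pos_iff_ne_zero.2 h0))).trans hs') ht.1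
  obtain ⟨hxJ, hxT⟩ := hx T (fun t ht => hbelow t (hTmin t ht).1.1 (hTmin t ht) (Finset.mem_filter.1 ht).2)
    fun t ht => (hTmin t ht).1.1
  have hreg : IsSMulRegular (Localization.AtPrime q.asIdeal) (algebraMap A (Localization.AtPrime q.asIdeal) (x T)) := by
    refine IsSMulRegular.of_right_eq_zero_of_smul fun y hy => ?_
    obtain ⟨⟨y₀, s⟩, hys⟩ := IsLocalization.surj q.asIdeal.primeCompl y
    have : algebraMap A (Localization.AtPrime q.asIdeal) (x T * y₀) = 0 := by
      rw [map_mul, ← hys, ← mul_assoc, ← smul_eq_mul (a := algebraMap A _ (x T)), hy, zero_mul]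
    obtain ⟨v, hv⟩ := (IsLocalization.map_eq_zero_iff q.asIdeal.primeCompl _ _).1 this
    by_contra hy0
    have hne : algebraMap A (Localization.AtPrime q.asIdeal) y₀ ≠ 0 := by
      rw [← hys]
      exact fun e => hy0 ((IsLocalization.map_units _ s).mul_left_eq_zero.1 e)
    have hne' : (v : A) * y₀ ≠ 0 := fun e => hne ((IsLocalization.map_eq_zero_iff q.asIdeal.primeCompl _ _).2 ⟨v, e⟩)
    by_cases hq' : Submodule.colon (⊥ : Submodule A A) {(v : A) * y₀} ≤ q.asIdeal
    · obtain ⟨t, htm, htq⟩ := Ideal.exists_minimalPrimes_le hq'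
      have hta : t ∈ associatedPrimes A A := by
        refine associatedPrimes.subset_of_injective (M := Submodule.span A {(v : A) * y₀}) Subtype.val_injective
          (f := (Submodule.span A {(v : A) * y₀}).subtype) ?_
        refine Module.associatedPrimes.minimalPrimes_annihilator_subset_associatedPrimes A _ ?_
        change t ∈ (Submodule.span A {(v : A) * y₀}).annihilator.minimalPrimes
        rwa [← Submodule.bot_colon, Submodule.colon_span]
      refine hxT t (Finset.mem_filter.2 ⟨hfA.mem_toFinset.2 hta, htq⟩) (htm.1.2 ?_)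
      rw [Submodule.mem_colon_singleton, Submodule.mem_bot, smul_eq_mul, ← mul_left_comm]
      exact hv
    · obtain ⟨w, hw, hwq⟩ := SetLike.not_le_iff_exists.1 hq'
      rw [Submodule.mem_colon_singleton, Submodule.mem_bot, smul_eq_mul, ← mul_assoc] at hw
      exact hne ((IsLocalization.map_eq_zero_iff q.asIdeal.primeCompl _ _).2 ⟨⟨w, hwq⟩ * v, hw⟩)
  have hdepth := two_le_depth_of_notMem q.asIdeal (hJq hxJ) hreg
    (hqT T (Finset.mem_powerset.2 (Finset.filter_subset _ _)))
  refine hq ((normalAt_iff q.asIdeal).2 ⟨fun q' _ hle hk => ?_, fun q' _ hle => ?_⟩)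
  · rcases eq_or_lt_of_le hle with e | hlt
    · subst e; exact absurd (hht.trans hk) (by norm_num)
    · exact ((normalAt_iff q').1 (hgen ⟨q', ‹_›⟩ hlt)).1 q' le_rfl hk
  · rcases eq_or_lt_of_le hle with e | hlt
    · subst e
      exact (min_le_left _ _).trans (WithBot.coe_le_coe.2 hdepth)
    · exact ((normalAt_iff q').1 (hgen ⟨q', ‹_›⟩ hlt)).2 q' le_rfl

theorem isOpen_rk_one_of_generic
    (h : ∀ p : PrimeSpectrum A, p.asIdeal ∈ minimalPrimes A → RkAt 1 A p.asIdeal →
      ∃ U : Set (PrimeSpectrum A), IsOpen U ∧ p ∈ U ∧ U ⊆ {p : PrimeSpectrum A | RkAt 1 A p.asIdeal}) :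
    IsOpen {p : PrimeSpectrum A | RkAt 1 A p.asIdeal} := by
  let V : Set (PrimeSpectrum A) := (interior {p : PrimeSpectrum A | RkAt 1 A p.asIdeal})ᶜ
  obtain ⟨J, hJ⟩ := (PrimeSpectrum.isClosed_iff_zeroLocus_ideal V).1 isOpen_interior.isClosed_compl
  let Z : Set (Ideal A) := minimalPrimes A ∪ ⋃ p ∈ minimalPrimes A, (p ⊔ J).minimalPrimes
  have hm : (minimalPrimes A).Finite := Ideal.finite_minimalPrimes_of_isNoetherianRing A ⊥
  have hZ : Z.Finite := hm.union (hm.biUnion fun p _ => Ideal.finite_minimalPrimes_of_isNoetherianRing A _)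
  refine isOpen_of_finite_generators _ (fun p q h => rkAt_mono h) {q | q.asIdeal ∈ Z}
    (hZ.preimage fun a _ b _ e => PrimeSpectrum.ext e) fun q hq hgen => ?_
  by_cases hqmin : q.asIdeal ∈ minimalPrimes A
  · exact Or.inl hqmin
  have hk := (rk_generic q hq hgen).1
  obtain ⟨p₀, hp₀, hp₀q⟩ := Ideal.exists_minimalPrimes_le (bot_le : ⊥ ≤ q.asIdeal)
  have hJq : J ≤ q.asIdeal := fun a ha =>
    (PrimeSpectrum.mem_zeroLocus _ _).1 (hJ ▸ (show q ∈ V from fun hi => hq (interior_subset hi))) ha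
  obtain ⟨w, hw, hwq⟩ := Ideal.exists_minimalPrimes_le (sup_le hp₀q hJq)
  refine Or.inr (Set.mem_biUnion hp₀ ?_)
  rcases eq_or_lt_of_le hwq with e | hl
  · exact e ▸ hw
  haveI := hw.1.1
  have hw0 : w.height = 0 := nonpos_iff_eq_zero.1 (Order.lt_one_iff.1
    ((Ideal.height_strict_mono_of_isPrime hl).trans_le (by exact_mod_cast hk))).le
  obtain ⟨U, hU, hpU, hsub⟩ := h ⟨w, hw.1.1⟩ (Ideal.height_eq_zero_iff.1 hw0) (hgen ⟨w, hw.1.1⟩ hl)
  exact absurd (interior_maximal hsub hU hpU)
    (hJ.symm.subset ((PrimeSpectrum.mem_zeroLocus _ _).2 (fun a ha => hw.1.2 (Ideal.mem_sup_right ha))))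

/-- `(S_1)` fails along embedded associated primes. -/
theorem isOpen_sk_one (M : Type u) [AddCommGroup M] [Module A M] [Module.Finite A M] :
    IsOpen {p : PrimeSpectrum A | EGA4.HasSkAt 1 A M p.asIdeal} := by
  refine isOpen_of_finite_generators _ (fun p q hle hq => ?_) {q | q.asIdeal ∈ associatedPrimes A M}
    ((associatedPrimes.finite A M).preimage fun a _ b _ e => PrimeSpectrum.ext e) fun q hq hgen => ?_
  · rw [Set.mem_setOf_eq, hasSkAt_iff] at hq ⊢
    exact fun p' _ h' => hq p' (h'.trans hle)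
  · by_contra hass
    rw [Set.mem_setOf_eq, hasSkAt_iff] at hq
    refine hq fun p' hp' hle => ?_
    rcases eq_or_lt_of_le hle with e | hlt
    · subst e
      exact (min_le_left _ _).trans (WithBot.coe_le_coe.2
        (ClosedAlong.one_le_depth_of_notMem_associatedPrimes (M := M) q.asIdeal hass))
    · exact (hasSkAt_iff 1 (M := M) p').1 (hgen ⟨p', hp'⟩ hlt) p' le_rfl

omit [IsNoetherianRing A] in
/-- Chains concatenate. -/
theorem height_add_height_quotient_le (p q : Ideal A) [p.IsPrime] [q.IsPrime] (Q : Ideal (A ⧸ p)) [Q.IsPrime]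
    (hQ : Q.comap (Ideal.Quotient.mk p) = q) [p.FiniteHeight] [Q.FiniteHeight] : p.height + Q.height ≤ q.height := by
  obtain ⟨lp, hlp, hlenp⟩ := p.exists_ltSeries_length_eq_height
  obtain ⟨lq, hlq, hlenq⟩ := Q.exists_ltSeries_length_eq_height
  let l' : LTSeries (PrimeSpectrum A) :=
    lq.map (PrimeSpectrum.comap (Ideal.Quotient.mk p)) (RingHom.strictMono_comap_of_surjective Ideal.Quotient.mk_surjective)
  have hle : lp.last ≤ l'.head := by
    rw [← PrimeSpectrum.asIdeal_le_asIdeal, hlp]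
    intro a ha
    show Ideal.Quotient.mk p a ∈ lq.head.asIdeal
    rw [Ideal.Quotient.eq_zero_iff_mem.2 ha]
    exact lq.head.asIdeal.zero_mem
  have hlast : l'.last.asIdeal = q := by simp [l', hlq, hQ]
  rw [← hlenp, ← hlenq, (⟨q, ‹_›⟩ : PrimeSpectrum A).height_eq_orderHeight, ← Nat.cast_add]
  rcases eq_or_lt_of_le hle with e | hlt
  · refine le_trans (le_of_eq ?_) (Order.length_le_height (p := lp.smash l' e) ?_)
    · simp [l']
    · simp [← PrimeSpectrum.asIdeal_le_asIdeal, hlast]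
  · refine le_trans ?_ (Order.length_le_height (p := lp.append l' hlt) ?_)
    · simp [l']
    · simp [← PrimeSpectrum.asIdeal_le_asIdeal, hlast]

/-- Regular at `p` and regular on an open subset of `V(p)` gives regular nearby. -/
theorem regular_of_quotient (p : Ideal A) [p.IsPrime] [IsRegularLocalRing (Localization.AtPrime p)] :
    ∃ f ∉ p, ∀ (q : Ideal A) [q.IsPrime] (hle : p ≤ q), f ∉ q →
      ∀ (Q : Ideal (A ⧸ p)) [Q.IsPrime], Q.comap (Ideal.Quotient.mk p) = q →
        IsRegularLocalRing (Localization.AtPrime Q) → IsRegularLocalRing (Localization.AtPrime q) := by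
  classical
  obtain ⟨s, hs, hsm⟩ := (IsNoetherian.noetherian (maximalIdeal (Localization.AtPrime p)) :
    (maximalIdeal (Localization.AtPrime p)).FG).exists_span_finset_card_eq_spanFinrank
  choose z hz using fun y : s => IsLocalization.surj p.primeCompl y.1
  let I : Ideal A := Ideal.span (Set.range fun y : s => (z y).1)
  have hIp : ∀ a ∈ p, ∃ t ∈ p.primeCompl, t * a ∈ I := by
    intro a ha
    have h1 : algebraMap A (Localization.AtPrime p) a ∈ I.map (algebraMap A (Localization.AtPrime p)) := by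
      have hle : maximalIdeal (Localization.AtPrime p) ≤ I.map (algebraMap A (Localization.AtPrime p)) := by
        rw [← show Ideal.span (s : Set (Localization.AtPrime p)) = maximalIdeal (Localization.AtPrime p) from hsm,
          Ideal.span_le]
        intro y hy
        refine (Ideal.mul_unit_mem_iff_mem _ (IsLocalization.map_units _ (z ⟨y, hy⟩).2)).1 ?_
        rw [hz ⟨y, hy⟩]
        exact Ideal.mem_map_of_mem _ (Ideal.subset_span ⟨_, rfl⟩)
      exact hle ((IsLocalization.AtPrime.to_map_mem_maximal_iff _ p a).2 ha)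
    exact (IsLocalization.algebraMap_mem_map_algebraMap_iff p.primeCompl _ I a).1 h1
  obtain ⟨G, hG⟩ := (IsNoetherian.noetherian p : p.FG)
  choose t ht htI using fun g : G => hIp g.1 (hG ▸ Ideal.subset_span g.2)
  refine ⟨∏ g : G, t g, fun hf => ?_, fun q _ hle hfq Q _ hQ hreg => ?_⟩
  · exact (prod_mem fun g _ => ht g : (∏ g : G, t g) ∈ p.primeCompl) hf
  haveI := hreg
  let L := Localization.AtPrime q
  have hu : ∀ g : G, IsUnit (algebraMap A L (t g)) := fun g =>
    IsLocalization.map_units L (⟨t g, fun hg => hfq (q.mem_of_dvd (Finset.dvd_prod_of_mem t (Finset.mem_univ g)) hg)⟩ : q.primeCompl)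
  have hpI : p.map (algebraMap A L) ≤ I.map (algebraMap A L) := by
    conv_lhs => rw [← hG]
    rw [Ideal.map_span, Ideal.span_le]
    rintro _ ⟨g, hg, rfl⟩
    refine (Ideal.unit_mul_mem_iff_mem _ (hu ⟨g, hg⟩)).1 ?_
    rw [← map_mul]
    exact Ideal.mem_map_of_mem _ (htI _)
  let φ : Localization.AtPrime q →+* Localization.AtPrime Q :=
    Localization.localRingHom q Q (Ideal.Quotient.mk p) hQ.symm
  obtain ⟨s', hs', hsm'⟩ := (IsNoetherian.noetherian (maximalIdeal (Localization.AtPrime Q)) :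
    (maximalIdeal (Localization.AtPrime Q)).FG).exists_span_finset_card_eq_spanFinrank
  have hφs : Function.Surjective φ := by
    intro y
    obtain ⟨⟨a, b⟩, hy⟩ := IsLocalization.surj Q.primeCompl y
    obtain ⟨a, rfl⟩ := Ideal.Quotient.mk_surjective a
    obtain ⟨b', hb'⟩ := Ideal.Quotient.mk_surjective (b : A ⧸ p)
    have hb'q : b' ∈ q.primeCompl := fun hb => b.2 (by rw [SetLike.mem_coe, ← hQ, Ideal.mem_comap, hb'] at hb; exact hb)
    refine ⟨IsLocalization.mk' L a ⟨b', hb'q⟩, ?_⟩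
    rw [Localization.localRingHom_mk']
    exact IsLocalization.mk'_eq_iff_eq_mul.2 (by simpa [hb'] using hy.symm)
  have hker : RingHom.ker φ ≤ p.map (algebraMap A L) := by
    intro y hy
    obtain ⟨⟨a, b⟩, hab⟩ := IsLocalization.surj q.primeCompl y
    have h0 : algebraMap (A ⧸ p) (Localization.AtPrime Q) (Ideal.Quotient.mk p a) = 0 := by
      rw [← Localization.localRingHom_to_map q Q (Ideal.Quotient.mk p) hQ.symm a, ← hab, map_mul]
      exact mul_eq_zero_of_left hy _
    obtain ⟨v, hv⟩ := (IsLocalization.map_eq_zero_iff Q.primeCompl _ _).1 h0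
    obtain ⟨v', hv'⟩ := Ideal.Quotient.mk_surjective (v : A ⧸ p)
    have hv'q : v' ∈ q.primeCompl := fun hb => v.2 (by rw [SetLike.mem_coe, ← hQ, Ideal.mem_comap, hv'] at hb; exact hb)
    rw [← hv', ← map_mul, Ideal.Quotient.eq_zero_iff_mem] at hv
    refine (Ideal.mul_unit_mem_iff_mem _ (IsLocalization.map_units L b)).1 ?_
    rw [hab, ← Ideal.unit_mul_mem_iff_mem _ (IsLocalization.map_units L (⟨v', hv'q⟩ : q.primeCompl)), ← map_mul]
    exact Ideal.mem_map_of_mem _ hv
  choose g hg using hφs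
  refine IsRegularLocalRing.of_spanFinrank_maximalIdeal_le _ ?_
  let S : Finset L := (Finset.univ.image fun y : s => algebraMap A L (z y).1) ∪ s'.image g
  have hspan : maximalIdeal L ≤ Ideal.span (S : Set L) := by
    intro y hy
    have hy' : φ y ∈ (Ideal.span ((s'.image g : Finset L) : Set L)).map φ := by
      rw [Finset.coe_image, Ideal.map_span, Set.image_image]
      simp only [hg, Set.image_id']
      rw [show Ideal.span (s' : Set (Localization.AtPrime Q)) = maximalIdeal _ from hsm']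
      haveI : IsLocalHom φ := Localization.isLocalHom_localRingHom _ _ _ _
      exact map_nonunit φ y hy
    obtain ⟨y', hy'm, hyy⟩ := (Ideal.mem_map_iff_of_surjective φ (fun a => ⟨g a, hg a⟩)).1 hy'
    have h1 : y - y' ∈ I.map (algebraMap A L) := hpI (hker (RingHom.mem_ker.2 (by rw [map_sub, hyy, sub_self])))
    rw [← sub_add_cancel y y']
    refine Ideal.add_mem _ ?_ (Ideal.span_mono (by simp [S]) hy'm)
    refine (?_ : I.map (algebraMap A L) ≤ _) h1
    rw [Ideal.map_span, Ideal.span_le]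
    rintro _ ⟨_, ⟨y, rfl⟩, rfl⟩
    exact Ideal.subset_span (Finset.mem_coe.2 (Finset.mem_union_left _ (Finset.mem_image.2 ⟨y, Finset.mem_univ _, rfl⟩)))
  have hS : (maximalIdeal L) = Ideal.span (S : Set L) := by
    refine le_antisymm hspan (Ideal.span_le.2 fun y hy => ?_)
    rcases Finset.mem_union.1 hy with hy | hy
    · obtain ⟨w, -, rfl⟩ := Finset.mem_image.1 hy
      refine (IsLocalization.AtPrime.to_map_mem_maximal_iff L q _).2 (hle ?_)
      refine (IsLocalization.AtPrime.to_map_mem_maximal_iff (Localization.AtPrime p) p _).1 ?_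
      rw [← hz w]
      exact Ideal.mul_mem_right _ _ (hsm ▸ Ideal.subset_span w.2)
    · obtain ⟨w, hw, rfl⟩ := Finset.mem_image.1 hy
      by_contra hmem
      have : IsUnit (φ (g w)) := (IsLocalRing.notMem_maximalIdeal.1 hmem).map φ
      rw [hg] at this
      exact IsLocalRing.notMem_maximalIdeal.2 this (hsm' ▸ Ideal.subset_span hw)
  have hcard : (maximalIdeal L).spanFinrank ≤
      (maximalIdeal (Localization.AtPrime p)).spanFinrank + (maximalIdeal (Localization.AtPrime Q)).spanFinrank := by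
    rw [hS]
    refine (Submodule.spanFinrank_span_le_ncard_of_finite S.finite_toSet).trans ?_
    rw [Set.ncard_coe_finset]
    exact (Finset.card_union_le _ _).trans (add_le_add
      (Finset.card_image_le.trans (by simp [hs.le])) (Finset.card_image_le.trans hs'.le))
  have hdim : p.height + Q.height ≤ q.height := height_add_height_quotient_le p q Q hQ
  have h1 := IsRegularLocalRing.spanFinrank_maximalIdeal (R := Localization.AtPrime p)
  have h2 := IsRegularLocalRing.spanFinrank_maximalIdeal (R := Localization.AtPrime Q)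
  rw [IsLocalization.AtPrime.ringKrullDim_eq_height p] at h1
  rw [IsLocalization.AtPrime.ringKrullDim_eq_height Q] at h2
  have h1' : ((maximalIdeal (Localization.AtPrime p)).spanFinrank : ℕ∞) = p.height := by exact_mod_cast h1
  have h2' : ((maximalIdeal (Localization.AtPrime Q)).spanFinrank : ℕ∞) = Q.height := by exact_mod_cast h2
  rw [IsLocalization.AtPrime.ringKrullDim_eq_height q]
  have h3 : ((maximalIdeal L).spanFinrank : ℕ∞) ≤ q.height := by
    refine le_trans ?_ hdim
    rw [← h1', ← h2']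
    exact_mod_cast hcard
  exact_mod_cast h3

end Groth.Agent.FlatDepth
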