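import Groth.Agent.Lib.FlatDepth.GenericDepth
import Groth.Agent.Lib.FlatDepth.SkLocal
import Groth.Agent.Lib.FlatDepth.Locus
import Mathlib

/-!
# Openness of `(S_n)` and of codepth conditions
-/

namespace Groth.Agent.FlatDepth

universe u

open IsLocalRing Pointwise

section Topology

variable {A : Type u} [CommRing A] [IsNoetherianRing A]

/-- A pointwise condition on all generizations is open when it spreads out along `V(p)`. -/
theorem isOpen_of_pointwise (P : PrimeSpectrum A → Prop)
    (h : ∀ p : PrimeSpectrum A, (∀ p' : PrimeSpectrum A, p'.asIdeal ≤ p.asIdeal → P p') →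
      ∃ f : A, f ∉ p.asIdeal ∧ ∀ q : PrimeSpectrum A, p.asIdeal ≤ q.asIdeal → f ∉ q.asIdeal → P q) :
    IsOpen {q : PrimeSpectrum A | ∀ q' : PrimeSpectrum A, q'.asIdeal ≤ q.asIdeal → P q'} := by
  classical
  set U := {q : PrimeSpectrum A | ∀ q' : PrimeSpectrum A, q'.asIdeal ≤ q.asIdeal → P q'}
  let B := {q : PrimeSpectrum A | q ∉ U ∧ ∀ p : PrimeSpectrum A, p.asIdeal < q.asIdeal → p ∈ U}
  obtain ⟨I, hI⟩ := (PrimeSpectrum.isClosed_iff_zeroLocus_ideal (closure B)).1 isClosed_closure
  have hfin := Ideal.finite_minimalPrimes_of_isNoetherianRing A I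
  have hBI : ∀ q ∈ B, I ≤ q.asIdeal := fun q hq a ha =>
    (PrimeSpectrum.mem_zeroLocus _ _).1 (hI ▸ subset_closure hq) ha
  have hmin : ∀ (z : Ideal A) (hz : z ∈ I.minimalPrimes), (⟨z, hz.1.1⟩ : PrimeSpectrum A) ∉ U := by
    intro z hz hzU
    obtain ⟨f, hf, hfP⟩ := h _ hzU
    haveI := hz.1.1
    have hnle : ¬ (hfin.toFinset.erase z).inf id ≤ z := by
      rw [Ideal.IsPrime.inf_le' ‹z.IsPrime›]
      rintro ⟨w, hw, hwz⟩
      rw [Finset.mem_erase, Set.Finite.mem_toFinset] at hw
      exact hw.1 (le_antisymm hwz (hz.2 hw.2.1 hwz))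
    obtain ⟨g, hg, hgz⟩ := SetLike.not_le_iff_exists.1 hnle
    have hsub : closure B ⊆ PrimeSpectrum.zeroLocus {f * g} := by
      refine closure_minimal (fun q hq => ?_) (PrimeSpectrum.isClosed_zeroLocus _)
      rw [PrimeSpectrum.mem_zeroLocus, Set.singleton_subset_iff]
      obtain ⟨w, hw, hwq⟩ := Ideal.exists_minimalPrimes_le (hBI q hq)
      by_cases hwz : w = z
      · subst hwz
        by_contra hfg
        refine hq.1 fun q' hle => ?_
        rcases eq_or_lt_of_le hle with e | hlt
        · rw [PrimeSpectrum.ext e]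
          exact hfP q hwq fun hf' => hfg (Ideal.mul_mem_right _ _ hf')
        · exact hq.2 q' hlt q' le_rfl
      · exact Ideal.mul_mem_left _ _ (hwq (Submodule.mem_finsetInf.1 hg w
          (Finset.mem_erase.2 ⟨hwz, hfin.mem_toFinset.2 hw⟩)))
    have hzcl : (⟨z, hz.1.1⟩ : PrimeSpectrum A) ∈ closure B := by
      rw [hI, PrimeSpectrum.mem_zeroLocus]
      exact hz.1.2
    have hmem : f * g ∈ z := by simpa [PrimeSpectrum.mem_zeroLocus] using hsub hzcl
    exact (hz.1.1.mem_or_mem hmem).elim hf hgz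
  refine isOpen_of_finite_generators U (fun p q hpq hq q' hle => hq q' (hle.trans hpq))
    {q | q.asIdeal ∈ I.minimalPrimes} (hfin.preimage (fun a _ b _ e => PrimeSpectrum.ext e)) fun q hq hgen => ?_
  obtain ⟨w, hw, hwq⟩ := Ideal.exists_minimalPrimes_le (hBI q ⟨hq, hgen⟩)
  rcases eq_or_lt_of_le hwq with rfl | hlt
  · exact hw
  · exact absurd (hgen ⟨w, hw.1.1⟩ hlt) (hmin w hw)

omit [IsNoetherianRing A] in
/-- A nonempty open of `Spec (A/p)` contains a basic open around the generic point. -/
theorem exists_notMem_of_open (p : Ideal A) [p.IsPrime] (U : Set (PrimeSpectrum (A ⧸ p))) (hU : IsOpen U)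
    (hne : U.Nonempty) :
    ∃ f ∉ p, ∀ Q : PrimeSpectrum (A ⧸ p), Ideal.Quotient.mk p f ∉ Q.asIdeal → Q ∈ U := by
  obtain ⟨Q₀, hQ₀⟩ := hne
  have hη : (⟨⊥, Ideal.isPrime_bot⟩ : PrimeSpectrum (A ⧸ p)) ∈ U :=
    ((PrimeSpectrum.le_iff_specializes _ Q₀).1 (fun a ha => by
      rw [(Submodule.mem_bot _).1 ha]; exact zero_mem _)).mem_open hU hQ₀
  obtain ⟨_, ⟨_, ⟨r, rfl⟩, rfl⟩, hr, hsub⟩ := PrimeSpectrum.isBasis_basic_opens.exists_subset_of_mem_open hη hU
  obtain ⟨f, rfl⟩ := Ideal.Quotient.mk_surjective r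
  refine ⟨f, fun hf => ?_, fun Q hQ => hsub hQ⟩
  rw [Ideal.Quotient.eq_zero_iff_mem.2 hf] at hr
  simp at hr

end Topology

section Surjective

variable {A B : Type u} [CommRing A] [CommRing B] [Algebra A B] (hs : Function.Surjective (algebraMap A B))
  (N : Type u) [AddCommGroup N] [Module A N] [Module B N] [IsScalarTower A B N] [Module.Finite B N]

include hs in
theorem invariants_at_surjective (Q : Ideal B) [Q.IsPrime] :
    depthAt Q N = depthAt (Q.comap (algebraMap A B)) N ∧ dimAt Q N = dimAt (Q.comap (algebraMap A B)) N := by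
  let q := Q.comap (algebraMap A B)
  let φ : Localization.AtPrime q →+* Localization.AtPrime Q := Localization.localRingHom q Q (algebraMap A B) rfl
  letI : Algebra (Localization.AtPrime q) (Localization.AtPrime Q) := φ.toAlgebra
  have hφs : Function.Surjective (algebraMap (Localization.AtPrime q) (Localization.AtPrime Q)) := by
    intro y
    obtain ⟨b, s, rfl⟩ := IsLocalization.exists_mk'_eq Q.primeCompl y
    obtain ⟨a, rfl⟩ := hs b
    obtain ⟨t, ht⟩ := hs (s : B)
    refine ⟨IsLocalization.mk' _ a (⟨t, fun h => s.2 (ht ▸ h)⟩ : q.primeCompl), ?_⟩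
    change φ _ = _
    rw [Localization.localRingHom_mk']
    congr 1
    exact Subtype.ext ht
  let M' := LocalizedModule Q.primeCompl N
  letI : Module (Localization.AtPrime q) M' := Module.compHom M' φ
  haveI : IsScalarTower (Localization.AtPrime q) (Localization.AtPrime Q) M' :=
    IsScalarTower.of_algebraMap_smul fun _ _ => rfl
  haveI : IsScalarTower A (Localization.AtPrime q) M' := IsScalarTower.of_algebraMap_smul fun a z => by
    change φ (algebraMap A _ a) • z = a • z
    rw [Localization.localRingHom_to_map, algebraMap_smul, algebraMap_smul]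
  haveI : IsNoetherian (Localization.AtPrime q) PUnit.{u+1} := inferInstance
  haveI : Module.Finite (Localization.AtPrime q) M' :=
    haveI : Module.Finite (Localization.AtPrime q) (Localization.AtPrime Q) :=
      Module.Finite.of_surjective (Algebra.linearMap _ _) hφs
    Module.Finite.trans (Localization.AtPrime Q) M'
  haveI : Module.Finite A N :=
    haveI : Module.Finite A B := Module.Finite.of_surjective (Algebra.linearMap A B) hs
    Module.Finite.trans B N
  let g : N →ₗ[A] M' := (LocalizedModule.mkLinearMap Q.primeCompl N).restrictScalars A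
  haveI : IsLocalizedModule q.primeCompl g := by
    refine ⟨fun x => ?_, fun y => ?_, fun {x₁ x₂} e => ?_⟩
    · rw [Module.End.isUnit_iff]
      have hb := (Module.End.isUnit_iff _).1 (IsLocalizedModule.map_units
        (LocalizedModule.mkLinearMap Q.primeCompl N) (⟨algebraMap A B x, x.2⟩ : Q.primeCompl))
      convert hb using 1
      funext z
      exact (algebraMap_smul B (x : A) z).symm
    · obtain ⟨⟨n, t⟩, hnt⟩ := IsLocalizedModule.surj Q.primeCompl (LocalizedModule.mkLinearMap Q.primeCompl N) y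
      obtain ⟨a, ha⟩ := hs (t : B)
      refine ⟨⟨n, ⟨a, fun h => t.2 (ha ▸ h)⟩⟩, ?_⟩
      show a • y = _
      exact ((algebraMap_smul B a y).symm.trans (congrArg (· • y) ha)).trans hnt
    · obtain ⟨t, ht⟩ := IsLocalizedModule.exists_of_eq (S := Q.primeCompl)
        (f := LocalizedModule.mkLinearMap Q.primeCompl N) e
      obtain ⟨a, ha⟩ := hs (t : B)
      refine ⟨⟨a, fun h => t.2 (ha ▸ h)⟩, ?_⟩
      show a • x₁ = a • x₂
      rw [← algebraMap_smul B a x₁, ← algebraMap_smul B a x₂, ha]
      exact ht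
  obtain ⟨h1, h2⟩ := invariants_congr_localization q (Localization.AtPrime q) M' g
  exact ⟨(depth_eq_of_surjective M' hφs).symm.trans h1, (supportDim_eq_of_surjective M' hφs).symm.trans h2⟩

end Surjective

section Open

variable {A : Type u} [CommRing A] [IsNoetherianRing A] (M : Type u) [AddCommGroup M] [Module A M] [Module.Finite A M]

/-- `(A/p)_q` seen from `A` and from `A/p`. -/
theorem invariants_quotient (p q : Ideal A) [p.IsPrime] [q.IsPrime] (hle : p ≤ q) :
    ∃ (Q : Ideal (A ⧸ p)) (_ : Q.IsPrime), Q.comap (Ideal.Quotient.mk p) = q ∧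
      depthAt Q (A ⧸ p) = depthAt q (A ⧸ p) ∧ dimAt Q (A ⧸ p) = dimAt q (A ⧸ p) := by
  haveI : (q.map (Ideal.Quotient.mk p)).IsPrime :=
    Ideal.map_isPrime_of_surjective Ideal.Quotient.mk_surjective (by rwa [Ideal.mk_ker])
  have hc : (q.map (Ideal.Quotient.mk p)).comap (algebraMap A (A ⧸ p)) = q := by
    rw [Ideal.Quotient.algebraMap_eq, Ideal.comap_map_of_surjective _ Ideal.Quotient.mk_surjective,
      ← RingHom.ker_eq_comap_bot, Ideal.mk_ker, sup_eq_left.2 hle]
  obtain ⟨h1, h2⟩ := invariants_at_surjective (A := A) (B := A ⧸ p) Ideal.Quotient.mk_surjective (A ⧸ p)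
    (q.map (Ideal.Quotient.mk p))
  refine ⟨q.map (Ideal.Quotient.mk p), inferInstance, hc, h1.trans ?_, h2.trans ?_⟩
  all_goals
    have key : ∀ (a b : Ideal A) [a.IsPrime] [b.IsPrime], a = b →
        depthAt a (A ⧸ p) = depthAt b (A ⧸ p) ∧ dimAt a (A ⧸ p) = dimAt b (A ⧸ p) := by
      intro a b _ _ e; subst e; exact ⟨rfl, rfl⟩
  · exact (key _ _ hc).1
  · exact (key _ _ hc).2

theorem sk_open (n : ℕ)
    (h : ∀ (p : Ideal A) [p.IsPrime], ∃ f ∉ p, ∀ (q : Ideal A) [q.IsPrime], p ≤ q → f ∉ q →
      min (n : WithBot ℕ∞) (dimAt q (A ⧸ p)) ≤ (depthAt q (A ⧸ p) : WithBot ℕ∞)) :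
    IsOpen {p : PrimeSpectrum A | EGA4.HasSkAt n A M p.asIdeal} := by
  have hset : {p : PrimeSpectrum A | EGA4.HasSkAt n A M p.asIdeal} =
      {q : PrimeSpectrum A | ∀ q' : PrimeSpectrum A, q'.asIdeal ≤ q.asIdeal →
        min (n : WithBot ℕ∞) (dimAt q'.asIdeal M) ≤ (depthAt q'.asIdeal M : WithBot ℕ∞)} := Set.ext fun q => by
    rw [Set.mem_setOf_eq, hasSkAt_iff, Set.mem_setOf_eq]
    exact ⟨fun h q' hle => h q'.asIdeal hle, fun h q' hq' hle => h ⟨q', hq'⟩ hle⟩
  rw [hset]
  refine isOpen_of_pointwise _ fun p hp => ?_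
  obtain ⟨f₁, hf₁, H₁⟩ := exists_depth_add_le p.asIdeal M
  obtain ⟨f₂, hf₂, H₂⟩ := exists_dim_le_add p.asIdeal M
  obtain ⟨f₃, hf₃, H₃⟩ := h p.asIdeal
  refine ⟨f₁ * f₂ * f₃, fun hm => (p.2.mem_or_mem hm).elim (fun hm => (p.2.mem_or_mem hm).elim hf₁ hf₂) hf₃,
    fun q hle hq => ?_⟩
  have d := H₁ q.asIdeal hle fun h => hq (Ideal.mul_mem_right _ _ (Ideal.mul_mem_right _ _ h))
  have e := H₂ q.asIdeal hle fun h => hq (Ideal.mul_mem_right _ _ (Ideal.mul_mem_left _ _ h))
  have g := H₃ q.asIdeal hle fun h => hq (Ideal.mul_mem_left _ _ h)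
  have g0 := hp p le_rfl
  refine le_trans ?_ (WithBot.coe_le_coe.2 d)
  refine le_trans (min_le_min_left _ e) ?_
  revert g g0
  generalize dimAt p.asIdeal M = a
  generalize dimAt q.asIdeal (A ⧸ p.asIdeal) = b
  generalize depthAt p.asIdeal M = x
  generalize depthAt q.asIdeal (A ⧸ p.asIdeal) = y
  intro g g0
  induction a using WithBot.recBotCoe with
  | bot => simp
  | coe a =>
    induction b using WithBot.recBotCoe with
    | bot => simp
    | coe b =>
      rw [← WithBot.coe_natCast, ← WithBot.coe_min, WithBot.coe_le_coe] at g g0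
      rw [← WithBot.coe_natCast, ← WithBot.coe_add, ← WithBot.coe_min, WithBot.coe_le_coe]
      refine le_trans ?_ (add_le_add g0 g)
      rcases le_total (n : ℕ∞) a with hna | han
      · rw [min_eq_left hna]; exact le_add_right (min_le_left _ _)
      · rw [min_eq_right han]
        rcases le_total (n : ℕ∞) b with hnb | hbn
        · rw [min_eq_left hnb]; exact le_add_left (min_le_left _ _)
        · rw [min_eq_right hbn]; exact min_le_right _ _

/-- Ischebeck's bound. -/
theorem depth_le_depthAt_add {L : Type u} [CommRing L] [IsLocalRing L] [IsNoetherianRing L] {N : Type u}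
    [AddCommGroup N] [Module L N] [Module.Finite L N] (P : Ideal L) [P.IsPrime] {r : ℕ}
    (hr : ringKrullDim (L ⧸ P) = r) : LocCoh.depth L N ≤ depthAt P N + r := by
  refine ENat.forall_natCast_le_iff_le.1 fun d hd => ?_
  have h1 : ((d - r : ℕ) : ℕ∞) ≤ LocCoh.idealDepth P N := by
    rw [DepthLib.natCast_le_idealDepth_iff]
    intro i hi
    exact DepthLib.subsingleton_ext_of_supportDim_le (L ⧸ P) hd
      ((Module.supportDim_quotient_eq_ringKrullDim P).trans hr).le (by omega)
  have h2 : LocCoh.idealDepth P N ≤ depthAt P N := by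
    haveI : Module.Flat L (Localization.AtPrime P) := IsLocalization.flat _ P.primeCompl
    refine (DepthLib.idealDepth_le_baseChange (B := Localization.AtPrime P)).trans ?_
    rw [Localization.AtPrime.map_eq_maximalIdeal, depthAt, LocCoh.depth,
      DepthLib.idealDepth_congr (IsLocalizedModule.isBaseChange P.primeCompl (Localization.AtPrime P)
        (LocalizedModule.mkLinearMap P.primeCompl N)).equiv]
  refine le_trans ?_ (add_le_add (h1.trans h2) le_rfl)
  exact_mod_cast (by omega : d ≤ d - r + r)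

/-- Codepth does not increase under generization. -/
theorem codepth_generization {n : ℕ} {p q : Ideal A} [p.IsPrime] [q.IsPrime] (hle : p ≤ q)
    (h : dimAt q M ≤ (depthAt q M : WithBot ℕ∞) + n) : dimAt p M ≤ (depthAt p M : WithBot ℕ∞) + n := by
  rcases subsingleton_or_nontrivial (LocalizedModule p.primeCompl M) with h0 | h0
  · rw [dimAt, Module.supportDim_eq_bot_of_subsingleton]; exact bot_le
  have hd : Disjoint (q.primeCompl : Set A) (p : Set A) :=
    Set.disjoint_left.2 fun a ha ha' => ha (hle ha')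
  haveI := IsLocalization.isPrime_of_isPrime_disjoint q.primeCompl (Localization.AtPrime q) p ‹_› hd
  have hc := IsLocalization.comap_map_of_isPrime_disjoint q.primeCompl (Localization.AtPrime q) ‹p.IsPrime› hd
  let P := p.map (algebraMap A (Localization.AtPrime q))
  let L := Localization.AtPrime q
  let N := LocalizedModule q.primeCompl M
  have key : ∀ (a b : Ideal A) [a.IsPrime] [b.IsPrime], a = b →
      depthAt a M = depthAt b M ∧ dimAt a M = dimAt b M := by
    intro a b _ _ e; subst e; exact ⟨rfl, rfl⟩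
  obtain ⟨e1, e2⟩ := invariants_localization_localization (M := M) q.primeCompl P
  obtain ⟨k1, k2⟩ := key _ _ hc
  have e1' : depthAt P N = depthAt p M := e1.trans k1
  have e2' : dimAt P N = dimAt p M := e2.trans k2
  have hP : (⟨P, inferInstance⟩ : PrimeSpectrum L) ∈ Module.support L N := by
    refine Module.mem_support_iff.2 ?_
    rw [← Module.supportDim_ne_bot_iff_nontrivial (Localization.AtPrime P)]
    change dimAt P N ≠ ⊥
    rw [e2', dimAt, Module.supportDim_ne_bot_iff_nontrivial]
    exact h0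
  have h5 := DepthLib.supportDim_localizedModule_add_le P hP
  obtain ⟨r, hr⟩ := DepthLib.exists_ringKrullDim_quotient_eq_natCast P (Ideal.IsPrime.ne_top ‹P.IsPrime›)
  have h6 := depth_le_depthAt_add (N := N) P hr
  change dimAt P N + _ ≤ dimAt q M at h5
  rw [e2', hr] at h5
  rw [e1'] at h6
  refine DepthLib.withBot_add_coe_cancel r (h5.trans (h.trans ?_))
  rw [add_right_comm]
  gcongr
  exact WithBot.coe_le_coe.2 h6

theorem codepth_open (n : ℕ)
    (h : ∀ (p : Ideal A) [p.IsPrime], ∃ f ∉ p, ∀ (q : Ideal A) [q.IsPrime], p ≤ q → f ∉ q →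
      dimAt q (A ⧸ p) ≤ (depthAt q (A ⧸ p) : WithBot ℕ∞)) :
    IsOpen {p : PrimeSpectrum A | dimAt p.asIdeal M ≤ (depthAt p.asIdeal M : WithBot ℕ∞) + n} := by
  refine isOpen_of_nagata _ (fun p q hle hq => codepth_generization M hle hq) fun p hp => ?_
  obtain ⟨f₁, hf₁, H₁⟩ := exists_depth_add_le p.asIdeal M
  obtain ⟨f₂, hf₂, H₂⟩ := exists_dim_le_add p.asIdeal M
  obtain ⟨f₃, hf₃, H₃⟩ := h p.asIdeal
  refine ⟨f₁ * f₂ * f₃, fun hm => (p.2.mem_or_mem hm).elim (fun hm => (p.2.mem_or_mem hm).elim hf₁ hf₂) hf₃,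
    fun q hle hq => ?_⟩
  have d := H₁ q.asIdeal hle fun h => hq (Ideal.mul_mem_right _ _ (Ideal.mul_mem_right _ _ h))
  have e := H₂ q.asIdeal hle fun h => hq (Ideal.mul_mem_right _ _ (Ideal.mul_mem_left _ _ h))
  have g := H₃ q.asIdeal hle fun h => hq (Ideal.mul_mem_left _ _ h)
  refine e.trans ((add_le_add hp g).trans ?_)
  rw [add_right_comm, ← WithBot.coe_add]
  gcongr
  exact WithBot.coe_le_coe.2 d

end Open

section Regular

variable {R : Type u} [CommRing R] [IsRegularRing R]

/-- In a regular ring, `R/P` is Cohen–Macaulay near `P`. -/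
theorem cm_quotient_of_regular [IsNoetherianRing R] (P : Ideal R) [P.IsPrime] :
    ∃ f ∉ P, ∀ (q : Ideal R) [q.IsPrime], P ≤ q → f ∉ q →
      dimAt q (R ⧸ P) ≤ (depthAt q (R ⧸ P) : WithBot ℕ∞) := by
  classical
  haveI : IsRegularLocalRing (Localization.AtPrime P) := inferInstance
  obtain ⟨s, hs, hsm⟩ := (IsNoetherian.noetherian (maximalIdeal (Localization.AtPrime P)) :
    (maximalIdeal (Localization.AtPrime P)).FG).exists_span_finset_card_eq_spanFinrank
  choose z hz using fun y : s => IsLocalization.surj P.primeCompl y.1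
  let I : Ideal R := Ideal.span (Set.range fun y : s => (z y).1)
  have hzP : ∀ y : s, (z y).1 ∈ P := fun y => by
    refine (IsLocalization.AtPrime.to_map_mem_maximal_iff (Localization.AtPrime P) P _).1 ?_
    rw [← hz y]
    exact Ideal.mul_mem_right _ _ (hsm ▸ Ideal.subset_span y.2)
  have hIP : ∀ a ∈ P, ∃ t ∈ P.primeCompl, t * a ∈ I := by
    intro a ha
    have hle : maximalIdeal (Localization.AtPrime P) ≤ I.map (algebraMap R (Localization.AtPrime P)) := by
      rw [← show Ideal.span (s : Set (Localization.AtPrime P)) = maximalIdeal (Localization.AtPrime P) from hsm,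
        Ideal.span_le]
      intro y hy
      refine (Ideal.mul_unit_mem_iff_mem _ (IsLocalization.map_units _ (z ⟨y, hy⟩).2)).1 ?_
      rw [hz ⟨y, hy⟩]
      exact Ideal.mem_map_of_mem _ (Ideal.subset_span ⟨_, rfl⟩)
    exact (IsLocalization.algebraMap_mem_map_algebraMap_iff P.primeCompl _ I a).1
      (hle ((IsLocalization.AtPrime.to_map_mem_maximal_iff _ P a).2 ha))
  obtain ⟨G, hG⟩ := (IsNoetherian.noetherian P : P.FG)
  choose t ht htI using fun g : G => hIP g.1 (hG ▸ Ideal.subset_span g.2)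
  refine ⟨∏ g : G, t g, (prod_mem fun g _ => ht g : ∏ g : G, t g ∈ P.primeCompl), fun q _ hle hfq => ?_⟩
  let L := Localization.AtPrime q
  haveI : IsRegularLocalRing L := inferInstance
  have hd : Disjoint (q.primeCompl : Set R) (P : Set R) :=
    Set.disjoint_left.2 fun a ha ha' => ha (hle ha')
  haveI := IsLocalization.isPrime_of_isPrime_disjoint q.primeCompl L P ‹_› hd
  have hc := IsLocalization.comap_map_of_isPrime_disjoint q.primeCompl L ‹P.IsPrime› hd
  let P' := P.map (algebraMap R L)
  let xs : List L := (s.attach.toList.map fun y => algebraMap R L (z y).1)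
  have hu : ∀ g : G, IsUnit (algebraMap R L (t g)) := fun g =>
    IsLocalization.map_units L (⟨t g, fun hg => hfq (q.mem_of_dvd (Finset.dvd_prod_of_mem t (Finset.mem_univ g)) hg)⟩ : q.primeCompl)
  have hP' : P' = Ideal.ofList xs := by
    have hI : Ideal.ofList xs = I.map (algebraMap R L) := by
      rw [Ideal.map_span]
      unfold Ideal.ofList
      congr 1
      ext y
      simp [xs]
    rw [hI]
    refine le_antisymm ?_ (Ideal.map_mono (Ideal.span_le.2 ?_))
    · change P.map _ ≤ _
      conv_lhs => rw [← hG]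
      rw [Ideal.map_span, Ideal.span_le]
      rintro _ ⟨g, hg, rfl⟩
      refine (Ideal.unit_mul_mem_iff_mem _ (hu ⟨g, hg⟩)).1 ?_
      rw [← map_mul]
      exact Ideal.mem_map_of_mem _ (htI _)
    · rintro _ ⟨y, rfl⟩
      exact hzP y
  have hCM : LocCoh.IsCohenMacaulayModule L L :=
    DepthLib.isCohenMacaulayLocalRing_of_isRegularLocalRing.supportDim_eq_depth
  have hmem : (⟨P', inferInstance⟩ : PrimeSpectrum L) ∈ Module.support L L :=
    Module.mem_support_iff.2 inferInstance
  obtain ⟨hCMP, hidP, hdimP⟩ := DepthLib.isCohenMacaulayModule_localizedModule hCM P' hmem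
  have hlen : (xs.length : ℕ∞) = LocCoh.idealDepth P' L := by
    rw [hidP]
    apply WithBot.coe_injective
    rw [← show Module.supportDim _ _ = _ from hCMP, DepthLib.supportDim_eq_ringKrullDim_of_isPrime,
      ← IsLocalization.height_under q.primeCompl P']
    congr 1
    rw [show P'.under R = P from hc]
    have h1 := IsRegularLocalRing.spanFinrank_maximalIdeal (R := Localization.AtPrime P)
    rw [IsLocalization.AtPrime.ringKrullDim_eq_height P] at h1
    have h2 : ((maximalIdeal (Localization.AtPrime P)).spanFinrank : ℕ∞) = P.height := by exact_mod_cast h1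
    rw [← h2, ← hs]
    simp [xs]
  have hxm : ∀ x ∈ xs, x ∈ maximalIdeal L := fun x hx =>
    le_maximalIdeal (Ideal.IsPrime.ne_top ‹P'.IsPrime›) (hP' ▸ Ideal.subset_span hx)
  have hw := DepthLib.isWeaklyRegular_of_length_le_idealDepth xs hxm (by rw [← hP', hlen])
  have hdep := DepthLib.idealDepth_quot_add_length (I := maximalIdeal L) hw hxm
  rw [← hP', hlen] at hdep
  have hdim := DepthLib.supportDim_eq_quotient_add_idealDepth hCM (I := P') (Ideal.IsPrime.ne_top ‹P'.IsPrime›)
  rw [show Module.supportDim L L = _ from hCM, LocCoh.depth, ← hdep, WithBot.coe_add] at hdim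
  obtain ⟨k, hk⟩ := WithTop.ne_top_iff_exists.1 (show LocCoh.idealDepth P' L ≠ ⊤ by
    rw [← hlen]; exact ENat.natCast_ne_top _)
  rw [← hk] at hdim
  let ι : LocalizedModule q.primeCompl (R ⧸ P) ≃ₗ[L] L ⧸ P' • (⊤ : Submodule L L) :=
    (IsLocalizedModule.mapEquiv q.primeCompl (LocalizedModule.mkLinearMap q.primeCompl _)
      (LocalizedModule.mkLinearMap q.primeCompl _) L
      (Submodule.quotEquivOfEq P (P • (⊤ : Submodule R R)) (by simp))).trans
      ((localizeQuotModEquiv R P q.primeCompl).trans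
        (Submodule.Quotient.equiv _ _ ((IsLocalizedModule.iso q.primeCompl (Algebra.linearMap R L)).extendScalarsOfIsLocalization q.primeCompl L)
          (by rw [Submodule.map_smul'', Submodule.map_top, LinearEquiv.range])))
  rw [dimAt, depthAt, LocCoh.depth, Module.supportDim_eq_of_equiv ι, DepthLib.idealDepth_congr ι]
  exact DepthLib.withBot_add_coe_cancel k hdim.ge

end Regular

end Groth.Agent.FlatDepth
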