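import Groth.Agent.Lib.FlatDepth.J2
import Groth.Agent.S4700
import Mathlib

/-!
# J-2 and openness of normal loci from finite domains
-/

namespace Groth.Agent.FlatDepth

universe u

open IsLocalRing

theorem isJ2_of_finite_domains (A : Type u) [CommRing A] [IsNoetherianRing A]
    (h : ∀ (A' : Type u) [CommRing A'] [IsDomain A'] [Algebra A A'], Module.Finite A A' →
      ∃ U : Set (PrimeSpectrum A'), IsOpen U ∧ U.Nonempty ∧ U ⊆ EGA4.regLocus A') : EGA4.IsJ2 A := by
  intro S _ _ hS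
  haveI := hS
  haveI : IsNoetherianRing S := Algebra.FiniteType.isNoetherianRing A S
  exact S4700.result S fun p _ => regGood.open_of_finiteType_domain A h (S ⧸ p.asIdeal)

theorem nonempty_open_of_j2 (A : Type u) [CommRing A] (h : EGA4.IsJ2 A)
    (A' : Type u) [CommRing A'] [IsDomain A'] [Algebra A A'] [Module.Finite A A'] :
    ∃ U : Set (PrimeSpectrum A'), IsOpen U ∧ U.Nonempty ∧ U ⊆ EGA4.regLocus A' :=
  ⟨_, h A' inferInstance, ⟨_, regGood.bot A'⟩, subset_rfl⟩

/-- Near a minimal prime with field local ring, `S` looks like `S/p`. -/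
theorem exists_nhd_minimal {S : Type u} [CommRing S] [IsNoetherianRing S] (p : Ideal S) [p.IsPrime]
    (hp : p ∈ minimalPrimes S) [IsDomain (Localization.AtPrime p)] :
    ∃ f ∉ p, ∀ (q : Ideal S) [q.IsPrime], f ∉ q → ∃ (Q : Ideal (S ⧸ p)) (_ : Q.IsPrime),
      Q.comap (Ideal.Quotient.mk p) = q ∧ Nonempty (Localization.AtPrime q ≃+* Localization.AtPrime Q) := by
  haveI : Ring.KrullDimLE 0 (Localization.AtPrime p) := Ring.krullDimLE_iff.2 (by
    rw [IsLocalization.AtPrime.ringKrullDim_eq_height p, Ideal.height_eq_zero_iff.2 hp]; rfl)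
  have hF : maximalIdeal (Localization.AtPrime p) = ⊥ :=
    isField_iff_maximalIdeal_eq.1 Ring.KrullDimLE.isField_of_isReduced
  obtain ⟨G, hG⟩ := (IsNoetherian.noetherian p : p.FG)
  have hkill : ∀ g : G, ∃ t : p.primeCompl, (t : S) * g.1 = 0 := fun g => by
    refine (IsLocalization.map_eq_zero_iff p.primeCompl (Localization.AtPrime p) g.1).1 ?_
    rw [← Ideal.mem_bot, ← hF, IsLocalization.AtPrime.to_map_mem_maximal_iff _ p]
    exact hG ▸ Ideal.subset_span g.2
  choose t ht using hkill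
  let f := ∏ g : G, (t g : S)
  have hf : ∀ a ∈ p, f * a = 0 := by
    intro a ha
    have : p ≤ (⊥ : Ideal S).colon {f} := by
      conv_lhs => rw [← hG]
      refine Submodule.span_le.2 fun g hg => ?_
      rw [SetLike.mem_coe, Submodule.mem_colon_singleton, Submodule.mem_bot, smul_eq_mul, mul_comm]
      obtain ⟨d, hd⟩ : (t ⟨g, hg⟩ : S) ∣ f := Finset.dvd_prod_of_mem _ (Finset.mem_univ _)
      rw [hd, mul_right_comm, ht ⟨g, hg⟩, zero_mul]
    have h1 := Submodule.mem_colon_singleton.1 (this ha)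
    rw [Submodule.mem_bot, smul_eq_mul, mul_comm] at h1
    exact h1
  refine ⟨f, (prod_mem fun g _ => (t g).2 : f ∈ p.primeCompl), fun q _ hfq => ?_⟩
  have hle : p ≤ q := fun a ha => ((‹q.IsPrime›).mem_or_mem ((hf a ha).symm ▸ q.zero_mem)).resolve_left hfq
  have hker : RingHom.ker (Ideal.Quotient.mk p) ≤ q := by rwa [Ideal.mk_ker]
  haveI := Ideal.map_isPrime_of_surjective Ideal.Quotient.mk_surjective hker
  let Q := q.map (Ideal.Quotient.mk p)
  have hc : Q.comap (Ideal.Quotient.mk p) = q :=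
    (Ideal.comap_map_of_surjective _ Ideal.Quotient.mk_surjective _).trans (sup_eq_left.2 hker)
  refine ⟨Q, inferInstance, hc, ⟨RingEquiv.ofBijective (Localization.localRingHom q Q (Ideal.Quotient.mk p) hc.symm)
    ⟨(injective_iff_map_eq_zero _).2 fun y hy => ?_, fun y => ?_⟩⟩⟩
  · obtain ⟨⟨a, b⟩, hab⟩ := IsLocalization.surj q.primeCompl y
    have h0 : algebraMap (S ⧸ p) (Localization.AtPrime Q) (Ideal.Quotient.mk p a) = 0 := by
      rw [← Localization.localRingHom_to_map q Q (Ideal.Quotient.mk p) hc.symm a, ← hab, map_mul, hy, zero_mul]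
    obtain ⟨v, hv⟩ := (IsLocalization.map_eq_zero_iff Q.primeCompl _ _).1 h0
    obtain ⟨v', hv'⟩ := Ideal.Quotient.mk_surjective (v : S ⧸ p)
    have hv'q : v' ∈ q.primeCompl := fun hb => v.2 (by rw [← hv']; exact Ideal.mem_map_of_mem _ hb)
    rw [← hv', ← map_mul, Ideal.Quotient.eq_zero_iff_mem] at hv
    have h1 : algebraMap S (Localization.AtPrime q) a = 0 := (IsLocalization.map_eq_zero_iff q.primeCompl _ _).2
      ⟨⟨f * v', mul_mem (show f ∈ q.primeCompl from hfq) hv'q⟩, by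
        show f * v' * a = 0
        rw [mul_assoc]; exact hf _ hv⟩
    rw [h1] at hab
    exact (IsLocalization.map_units (Localization.AtPrime q) b).mul_left_eq_zero.1 hab
  · obtain ⟨⟨a, b⟩, hy⟩ := IsLocalization.surj Q.primeCompl y
    obtain ⟨a, rfl⟩ := Ideal.Quotient.mk_surjective a
    obtain ⟨b', hb'⟩ := Ideal.Quotient.mk_surjective (b : S ⧸ p)
    have hb'q : b' ∈ q.primeCompl := fun hb => b.2 (by rw [← hb']; exact Ideal.mem_map_of_mem _ hb)
    refine ⟨IsLocalization.mk' (Localization.AtPrime q) a ⟨b', hb'q⟩, ?_⟩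
    rw [Localization.localRingHom_mk']
    exact IsLocalization.mk'_eq_iff_eq_mul.2 (by simpa [hb'] using hy.symm)

theorem norLocus_open_of_finite_domains (A : Type u) [CommRing A] [IsNoetherianRing A]
    (h : ∀ (A' : Type u) [CommRing A'] [IsDomain A'] [Algebra A A'], Module.Finite A A' →
      ∃ U : Set (PrimeSpectrum A'), IsOpen U ∧ U.Nonempty ∧ U ⊆ EGA4.norLocus A')
    (S : Type u) [CommRing S] [Algebra A S] [Algebra.FiniteType A S] : IsOpen (EGA4.norLocus S) := by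
  haveI : IsNoetherianRing S := Algebra.FiniteType.isNoetherianRing A S
  refine isOpen_normal_of_generic fun p hp hnor => ?_
  haveI := hnor.1
  obtain ⟨f, hf, hiso⟩ := exists_nhd_minimal p.asIdeal hp
  obtain ⟨U, hU, ⟨u, hu⟩, hsub⟩ := norGood.open_of_finiteType_domain A h (S ⧸ p.asIdeal)
  let π := PrimeSpectrum.comap (Ideal.Quotient.mk p.asIdeal)
  have hind : Topology.IsInducing π :=
    (PrimeSpectrum.isClosedEmbedding_comap_of_surjective _ _ Ideal.Quotient.mk_surjective).isInducing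
  obtain ⟨V, hV, hVU⟩ := hind.isOpen_iff.1 hU
  refine ⟨V ∩ PrimeSpectrum.basicOpen f, hV.inter (PrimeSpectrum.basicOpen f).isOpen, ⟨?_, hf⟩, ?_⟩
  · have hle : p.asIdeal ≤ (π u).asIdeal := fun a ha => by
      show Ideal.Quotient.mk p.asIdeal a ∈ u.asIdeal
      rw [Ideal.Quotient.eq_zero_iff_mem.2 ha]
      exact u.asIdeal.zero_mem
    exact hV.stableUnderGeneralization ((PrimeSpectrum.le_iff_specializes _ _).1 hle)
      (show π u ∈ V from (hVU.symm.subset hu : u ∈ π ⁻¹' V))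
  · rintro q ⟨hqV, hqf⟩
    obtain ⟨Q, hQ', hQ, ⟨e⟩⟩ := hiso q.asIdeal hqf
    obtain ⟨h1, h2⟩ : (⟨Q, hQ'⟩ : PrimeSpectrum (S ⧸ p.asIdeal)) ∈ EGA4.norLocus (S ⧸ p.asIdeal) := by
      refine hsub ?_
      rw [← hVU]
      show π ⟨Q, hQ'⟩ ∈ V
      convert hqV
      exact PrimeSpectrum.ext hQ
    exact ⟨@MulEquiv.isDomain _ _ _ _ h1 e.toMulEquiv, @IsIntegrallyClosed.of_equiv _ _ _ _ e.symm h2⟩

/-- Finite domains over a semilocal ring of dimension at most one. -/
theorem open_bot_of_dim_le_one (R : Type u) [CommRing R] [IsDomain R] [IsNoetherianRing R]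
    (hsl : {I : Ideal R | I.IsMaximal}.Finite) (hdim : ringKrullDim R ≤ 1) :
    ∃ U : Set (PrimeSpectrum R), IsOpen U ∧ U.Nonempty ∧ U ⊆ EGA4.regLocus R := by
  classical
  haveI : Ring.KrullDimLE 1 R := Ring.krullDimLE_iff.2 hdim
  by_cases hF : IsField R
  · exact ⟨Set.univ, isOpen_univ, ⟨⟨⊥, Ideal.isPrime_bot⟩, trivial⟩, fun q _ => by
      obtain rfl : q = ⟨⊥, Ideal.isPrime_bot⟩ := PrimeSpectrum.ext (by
        by_contra hne
        exact (Ring.not_isField_iff_exists_prime.2 ⟨q.asIdeal, hne, q.2⟩) hF)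
      exact regGood.bot R⟩
  have hne : ∀ m ∈ hsl.toFinset, ∃ a ∈ m, a ≠ 0 := fun m hm => by
    have hm' : m.IsMaximal := hsl.mem_toFinset.1 hm
    have : m ≠ ⊥ := fun e => by
      obtain ⟨q, hq0, hqp⟩ := Ring.not_isField_iff_exists_prime.1 hF
      exact hq0 ((hm'.eq_of_le hqp.ne_top (e ▸ bot_le)).symm.trans e)
    exact Submodule.exists_mem_ne_zero_of_ne_bot this
  choose a ha ha0 using hne
  let f := ∏ m ∈ hsl.toFinset.attach, a m.1 m.2
  have hf : f ≠ 0 := Finset.prod_ne_zero_iff.2 fun m _ => ha0 m.1 m.2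
  refine ⟨PrimeSpectrum.basicOpen f, (PrimeSpectrum.basicOpen f).isOpen,
    ⟨⟨⊥, Ideal.isPrime_bot⟩, by simpa [PrimeSpectrum.mem_basicOpen] using hf⟩, fun q hq => ?_⟩
  obtain rfl : q = ⟨⊥, Ideal.isPrime_bot⟩ := PrimeSpectrum.ext (by
    by_contra hne
    haveI := q.2
    have hmax : q.asIdeal.IsMaximal := Ideal.IsPrime.isMaximal_of_ne_bot q.2 hne
    refine hq (q.asIdeal.mem_of_dvd (Finset.dvd_prod_of_mem _ (Finset.mem_attach _ ⟨q.asIdeal, hsl.mem_toFinset.2 hmax⟩)) ?_)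
    exact ha _ _)
  exact regGood.bot R

end Groth.Agent.FlatDepth
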