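import Groth.Agent.Lib.FlatDepth.GenericSmooth
import Mathlib

/-!
# Generic openness for loci (regular, normal) and J-2
-/

namespace Groth.Agent.FlatDepth

universe u

open IsLocalRing TensorProduct

/-- A property of points compatible with localization, smooth maps and flat descent. -/
structure GoodLocus where
  L : ∀ (R : Type u) [CommRing R], Set (PrimeSpectrum R)
  away : ∀ {R : Type u} [CommRing R] (f : R) (P : PrimeSpectrum (Localization.Away f)),
    PrimeSpectrum.comap (algebraMap R (Localization.Away f)) P ∈ L R ↔ P ∈ L (Localization.Away f)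
  smooth : ∀ (A B : Type u) [CommRing A] [CommRing B] [Algebra A B] [IsNoetherianRing A] [Algebra.Smooth A B]
    (P : PrimeSpectrum B), PrimeSpectrum.comap (algebraMap A B) P ∈ L A → P ∈ L B
  flat : ∀ (A B : Type u) [CommRing A] [CommRing B] [Algebra A B] [IsNoetherianRing A] [IsNoetherianRing B]
    [Module.Flat A B] (P : PrimeSpectrum B), P ∈ L B → PrimeSpectrum.comap (algebraMap A B) P ∈ L A
  bot : ∀ (R : Type u) [CommRing R] [IsDomain R], (⟨⊥, Ideal.isPrime_bot⟩ : PrimeSpectrum R) ∈ L R

/-- Openness generically from below. -/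
theorem GoodLocus.open_of_separable (G : GoodLocus.{u}) (A A' : Type u) [CommRing A] [CommRing A'] [IsDomain A'] [IsNoetherianRing A]
    [Algebra A A'] [FaithfulSMul A A'] [Algebra.FiniteType A A']
    (K : Type u) [Field K] [Algebra A' K] [IsFractionRing A' K] [Algebra A K] [IsScalarTower A A' K]
    [Algebra.FormallySmooth A K]
    (h : ∃ U : Set (PrimeSpectrum A), IsOpen U ∧ U.Nonempty ∧ U ⊆ G.L A) :
    ∃ U' : Set (PrimeSpectrum A'), IsOpen U' ∧ U'.Nonempty ∧ U' ⊆ G.L A' := by
  haveI : IsDomain A := (FaithfulSMul.algebraMap_injective A A').isDomain (algebraMap A A')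
  obtain ⟨U, hU, ⟨u, hu⟩, hsub⟩ := h
  obtain ⟨f, hf, hsm⟩ := exists_smooth_localization A A' K
  refine ⟨(PrimeSpectrum.comap (algebraMap A A')) ⁻¹' U ∩ PrimeSpectrum.basicOpen f, ?_, ?_, ?_⟩
  · exact (hU.preimage (by fun_prop)).inter (PrimeSpectrum.basicOpen f).isOpen
  · refine ⟨⟨⊥, Ideal.isPrime_bot⟩, ?_, by simpa [PrimeSpectrum.mem_basicOpen] using hf⟩
    refine hU.stableUnderGeneralization ?_ hu
    rw [← PrimeSpectrum.le_iff_specializes, ← PrimeSpectrum.asIdeal_le_asIdeal]
    show Ideal.comap (algebraMap A A') ⊥ ≤ _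
    rw [← RingHom.ker_eq_comap_bot, (RingHom.injective_iff_ker_eq_bot _).1 (FaithfulSMul.algebraMap_injective A A')]
    exact bot_le
  · rintro q ⟨hq1, hq2⟩
    obtain ⟨P, hP⟩ : q ∈ Set.range (PrimeSpectrum.comap (algebraMap A' (Localization.Away f))) := by
      rw [PrimeSpectrum.localization_away_comap_range (Localization.Away f) f]; exact hq2
    subst hP
    haveI : IsNoetherianRing A' := Algebra.FiniteType.isNoetherianRing A A'
    rw [G.away f P]
    refine G.smooth A (Localization.Away f) P ?_
    have e : PrimeSpectrum.comap (algebraMap A (Localization.Away f)) P =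
        PrimeSpectrum.comap (algebraMap A A') (PrimeSpectrum.comap (algebraMap A' (Localization.Away f)) P) := by
      rw [← PrimeSpectrum.comap_comp_apply, ← IsScalarTower.algebraMap_eq]
    rw [e]
    exact hsub hq1

/-- Openness generically from above. -/
theorem GoodLocus.open_of_extension (G : GoodLocus.{u}) (R S : Type u) [CommRing R] [IsDomain R] [IsNoetherianRing R] [CommRing S]
    [IsDomain S] [Algebra R S] [Algebra.FiniteType R S] (hinj : Function.Injective (algebraMap R S))
    (hS : ∃ U : Set (PrimeSpectrum S), IsOpen U ∧ U.Nonempty ∧ U ⊆ G.L S) :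
    ∃ U : Set (PrimeSpectrum R), IsOpen U ∧ U.Nonempty ∧ U ⊆ G.L R := by
  obtain ⟨f, hf, hfree⟩ := FlatH4.GenFree.of_finiteType (R := R) S S
  let f' := algebraMap R S f
  have hf' : f' ≠ 0 := (map_ne_zero_iff _ hinj).2 hf
  haveI : IsNoetherianRing S := Algebra.FiniteType.isNoetherianRing R S
  haveI : IsNoetherianRing (Localization.Away f') := IsLocalization.isNoetherianRing (Submonoid.powers f') _ inferInstance
  haveI : Algebra.FiniteType R (Localization.Away f') := Algebra.FiniteType.trans (inferInstance : Algebra.FiniteType R S)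
    (IsLocalization.finiteType_of_monoid_fg (Submonoid.powers f') _)
  haveI : Algebra.FinitePresentation R (Localization.Away f') := Algebra.FinitePresentation.of_finiteType.1 inferInstance
  haveI : Module.Flat R (Localization.Away f') := by
    haveI := hfree (Localization.Away f) inferInstance (IsLocalization.Away.algebraMap_isUnit f)
    letI : Algebra (Localization.Away f) (Localization.Away f') :=
      (IsLocalization.Away.map (Localization.Away f) (Localization.Away f') (algebraMap R S) f).toAlgebra
    haveI : IsScalarTower R (Localization.Away f) (Localization.Away f') := .of_algebraMap_eq fun x => by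
      rw [RingHom.algebraMap_toAlgebra, IsLocalization.Away.map, IsLocalization.map_eq, ← IsScalarTower.algebraMap_apply]
    haveI : IsLocalization (Algebra.algebraMapSubmonoid S (Submonoid.powers f)) (Localization.Away f') := by
      rw [Algebra.algebraMapSubmonoid_powers]
      exact inferInstanceAs (IsLocalization (Submonoid.powers f') (Localization.Away f'))
    haveI : Algebra.IsPushout R (Localization.Away f) S (Localization.Away f') :=
      Algebra.IsPushout.symm (Algebra.isPushout_of_isLocalization (Submonoid.powers f) (Localization.Away f) S (Localization.Away f'))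
    haveI : Module.Flat (Localization.Away f) (Localization.Away f') :=
      Module.Flat.of_linearEquiv (Algebra.IsPushout.equiv R (Localization.Away f) S (Localization.Away f')).symm.toLinearEquiv
    exact Module.Flat.trans R (Localization.Away f) _
  obtain ⟨U, hU, ⟨u, hu⟩, hsub⟩ := hS
  have hop := PrimeSpectrum.isOpenMap_comap_of_hasGoingDown_of_finitePresentation (R := R) (S := Localization.Away f')
  refine ⟨PrimeSpectrum.comap (algebraMap R (Localization.Away f')) ''
    (PrimeSpectrum.comap (algebraMap S (Localization.Away f')) ⁻¹' U), hop _ (hU.preimage (by fun_prop)), ?_, ?_⟩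
  · refine Set.Nonempty.image _ ?_
    obtain ⟨P, hP⟩ : (⟨⊥, Ideal.isPrime_bot⟩ : PrimeSpectrum S) ∈
        Set.range (PrimeSpectrum.comap (algebraMap S (Localization.Away f'))) := by
      rw [PrimeSpectrum.localization_away_comap_range (Localization.Away f') f']
      simpa [PrimeSpectrum.mem_basicOpen] using hf'
    refine ⟨P, show PrimeSpectrum.comap _ P ∈ U from ?_⟩
    rw [hP]
    exact hU.stableUnderGeneralization ((PrimeSpectrum.le_iff_specializes _ _).1 (bot_le (a := u.asIdeal))) hu
  · rintro _ ⟨P, hP, rfl⟩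
    exact G.flat R (Localization.Away f') P ((G.away f' P).1 (hsub hP))

/-- The regular locus. -/
def regGood : GoodLocus.{u} where
  L := fun R _ => EGA4.regLocus R
  away f P := isRegularLocalRing_away_iff f P.asIdeal
  smooth A B _ _ _ _ _ P h :=
    haveI : IsRegularLocalRing (Localization.AtPrime (P.asIdeal.comap (algebraMap A B))) := h
    regular_of_smooth (A := A) P.asIdeal
  flat A B _ _ _ _ _ _ P h :=
    haveI : IsRegularLocalRing (Localization.AtPrime P.asIdeal) := h
    regular_at_base (A := A) P.asIdeal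
  bot R _ _ := by
    show IsRegularLocalRing (Localization.AtPrime (⊥ : Ideal R))
    haveI : Ring.KrullDimLE 0 (Localization.AtPrime (⊥ : Ideal R)) := Ring.krullDimLE_iff.2 (by
      rw [IsLocalization.AtPrime.ringKrullDim_eq_height (⊥ : Ideal R), Ideal.height_bot]; rfl)
    letI : Field (Localization.AtPrime (⊥ : Ideal R)) := (Ring.KrullDimLE.isField_of_isReduced).toField
    infer_instance

/-- The normal locus. -/
def norGood : GoodLocus.{u} where
  L := fun R _ => EGA4.norLocus R
  away f P := by
    obtain ⟨e⟩ := nonempty_localLocalEquiv (Submonoid.powers f) P.asIdeal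
    show IsDomain (Localization.AtPrime (P.asIdeal.comap _)) ∧ IsIntegrallyClosed (Localization.AtPrime (P.asIdeal.comap _)) ↔ _
    constructor
    · rintro ⟨h1, h2⟩
      exact ⟨@MulEquiv.isDomain _ _ _ _ h1 e.symm.toMulEquiv, @IsIntegrallyClosed.of_equiv _ _ _ _ e h2⟩
    · rintro ⟨h1, h2⟩
      exact ⟨@MulEquiv.isDomain _ _ _ _ h1 e.toMulEquiv, @IsIntegrallyClosed.of_equiv _ _ _ _ e.symm h2⟩
  smooth A B _ _ _ _ _ P h := by
    haveI : IsNoetherianRing B := Algebra.FiniteType.isNoetherianRing A B
    obtain ⟨h1, h2⟩ := (normalAt_iff _).1 h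
    have hfib : ∀ (q : Ideal B) [q.IsPrime], IsRegularLocalRing (EGA4.FibLocRing A B q) := fun q _ => by
      obtain ⟨p, _, Q, _, ⟨e⟩⟩ := exists_fibLoc_equiv (A := A) q
      haveI : IsRegularLocalRing (Localization.AtPrime Q) :=
        SmoothReg17.isRegularLocalRing_of_smooth (algebraMap p.ResidueField (p.Fiber B))
          (RingHom.smooth_algebraMap.2 inferInstance) Q
      exact IsRegularLocalRing.of_ringEquiv (R := Localization.AtPrime Q) e
    exact (normalAt_iff P.asIdeal).2 ⟨rkAt_of_fibres _ h1 fun q _ _ _ => hfib q,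
      skAt_of_fibres _ h2 fun q _ _ => (forall_skIneq_iff _).2
        (@DepthLib.isCohenMacaulayLocalRing_of_isRegularLocalRing _ _ (hfib q)) 2⟩
  flat A B _ _ _ _ _ _ P h := by
    obtain ⟨h1, h2⟩ := (normalAt_iff P.asIdeal).1 h
    exact (normalAt_iff _).2 ⟨rkAt_base _ h1, skAt_base _ h2⟩
  bot R _ _ := by
    haveI : Ring.KrullDimLE 0 (Localization.AtPrime (⊥ : Ideal R)) := Ring.krullDimLE_iff.2 (by
      rw [IsLocalization.AtPrime.ringKrullDim_eq_height (⊥ : Ideal R), Ideal.height_bot]; rfl)
    letI : Field (Localization.AtPrime (⊥ : Ideal R)) := (Ring.KrullDimLE.isField_of_isReduced).toField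
    exact ⟨(inferInstance : IsDomain (Localization.AtPrime (⊥ : Ideal R))), (inferInstance : IsIntegrallyClosed (Localization.AtPrime (⊥ : Ideal R)))⟩

/-- A finite domain over `R` with a prescribed finite extension of the fraction field. -/
theorem exists_finite_fractionRing (R : Type u) [CommRing R] [IsDomain R] (F : Type u) [Field F] [Algebra R F]
    [IsFractionRing R F] (L : Type u) [Field L] [Algebra F L] [Algebra R L] [IsScalarTower R F L]
    [Module.Finite F L] : ∃ (C : Type u) (_ : CommRing C) (_ : IsDomain C) (_ : Algebra R C) (_ : Algebra C L)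
      (_ : IsScalarTower R C L), Module.Finite R C ∧ IsFractionRing C L := by
  classical
  haveI : Algebra.IsAlgebraic R L := (IsFractionRing.comap_isAlgebraic_iff (A := R) (K := F) (C := L)).2 inferInstance
  let T : Finset L := Finset.univ.image (Module.finBasis F L)
  obtain ⟨r, hr, hint⟩ := Algebra.IsAlgebraic.exists_integral_multiples R T
  let T' : Finset L := T.image fun t => r • t
  let C := Algebra.adjoin R (T' : Set L)
  haveI hCfin : Module.Finite R C := Module.Finite.iff_fg.2 (fg_adjoin_of_finite T'.finite_toSet fun x hx => by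
    obtain ⟨t, ht, rfl⟩ := Finset.mem_image.1 hx
    exact hint t ht)
  have hrne : algebraMap R L r ≠ 0 := by
    rw [IsScalarTower.algebraMap_apply R F L]; show algebraMap F L (algebraMap R F r) ≠ 0
    rw [map_ne_zero]
    exact (map_ne_zero_iff _ (IsFractionRing.injective R F)).2 hr
  have hmemC : ∀ z : L, ∃ c ∈ C, c ≠ 0 ∧ c * z ∈ C := by
    intro z
    have hb : ∀ i, ∃ a : R, ∃ d : R, d ≠ 0 ∧ algebraMap R L d * algebraMap F L ((Module.finBasis F L).repr z i) =
        algebraMap R L a := fun i => by
      obtain ⟨a, d, hd, e⟩ := IsFractionRing.div_surjective R ((Module.finBasis F L).repr z i)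
      refine ⟨a, d, nonZeroDivisors.ne_zero hd, ?_⟩
      rw [IsScalarTower.algebraMap_apply R F L d, IsScalarTower.algebraMap_apply R F L a]
      rw [← map_mul, ← e, mul_div_cancel₀ _ ((map_ne_zero_iff _ (IsFractionRing.injective R F)).2
        (nonZeroDivisors.ne_zero hd))]
    choose a d hd he using hb
    refine ⟨algebraMap R L r * ∏ i, algebraMap R L (d i), mul_mem (C.algebraMap_mem r)
      (prod_mem fun i _ => C.algebraMap_mem _), mul_ne_zero hrne (Finset.prod_ne_zero_iff.2 fun i _ => ?_), ?_⟩
    · rw [IsScalarTower.algebraMap_apply R F L]; show algebraMap F L (algebraMap R F (d i)) ≠ 0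
      rw [map_ne_zero]
      exact (map_ne_zero_iff _ (IsFractionRing.injective R F)).2 (hd i)
    · rw [← (Module.finBasis F L).sum_repr z]
      rw [Finset.mul_sum]
      refine sum_mem fun i _ => ?_
      rw [Algebra.smul_def, ← Finset.prod_erase_mul _ _ (Finset.mem_univ i)]
      have : algebraMap R L r * ((∏ j ∈ Finset.univ.erase i, algebraMap R L (d j)) * algebraMap R L (d i)) *
          (algebraMap F L ((Module.finBasis F L).repr z i) * Module.finBasis F L i) =
          (∏ j ∈ Finset.univ.erase i, algebraMap R L (d j)) * algebraMap R L (a i) *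
            (r • Module.finBasis F L i) := by
        rw [← he, Algebra.smul_def]; ring
      rw [this]
      exact mul_mem (mul_mem (prod_mem fun j _ => C.algebraMap_mem _) (C.algebraMap_mem _))
        (Algebra.subset_adjoin (Finset.mem_image.2 ⟨_, Finset.mem_image.2 ⟨i, Finset.mem_univ _, rfl⟩, rfl⟩))
  refine ⟨C, inferInstance, inferInstance, inferInstance, inferInstance, inferInstance, hCfin,
    IsFractionRing.of_field C L fun z => ?_⟩
  obtain ⟨c, hc, hc0, hcz⟩ := hmemC z
  refine ⟨⟨_, hcz⟩, ⟨c, hc⟩, ?_⟩
  show z = c * z / c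
  rw [mul_div_cancel_left₀ _ hc0]

/-- A finite type algebra with prescribed fraction field and elements. -/
theorem exists_finiteType_fractionRing (C : Type u) [CommRing C] [IsDomain C] (L : Type u) [Field L] [Algebra C L]
    [IsFractionRing C L] (M : Type u) [Field M] [Algebra L M] [Algebra C M] [IsScalarTower C L M]
    [Algebra.EssFiniteType L M] (G : Finset M) :
    ∃ (D : Type u) (_ : CommRing D) (_ : IsDomain D) (_ : Algebra C D) (_ : Algebra D M) (_ : IsScalarTower C D M),
      (∀ g ∈ G, g ∈ (algebraMap D M).range) ∧ Algebra.FiniteType C D ∧ IsFractionRing D M ∧ FaithfulSMul C D := by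
  classical
  obtain ⟨G₀, hG₀⟩ := IntermediateField.fg_top L M
  let G' : Finset M := G₀ ∪ G
  let D := Algebra.adjoin C (G' : Set M)
  have hscale : ∀ x ∈ Algebra.adjoin L (G' : Set M), ∃ c : C, c ≠ 0 ∧ algebraMap C M c * x ∈ D := by
    intro x hx
    induction hx using Algebra.adjoin_induction with
    | mem y hy => exact ⟨1, one_ne_zero, by rw [map_one, one_mul]; exact Algebra.subset_adjoin hy⟩
    | algebraMap z =>
      obtain ⟨a, d, hd, e⟩ := IsFractionRing.div_surjective C z
      refine ⟨d, nonZeroDivisors.ne_zero hd, ?_⟩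
      rw [IsScalarTower.algebraMap_apply C L M, ← map_mul, ← e,
        mul_div_cancel₀ _ ((map_ne_zero_iff _ (IsFractionRing.injective C L)).2 (nonZeroDivisors.ne_zero hd)),
        ← IsScalarTower.algebraMap_apply C L M]
      exact D.algebraMap_mem a
    | add y z _ _ hy hz =>
      obtain ⟨c, hc, hcy⟩ := hy
      obtain ⟨c', hc', hcz⟩ := hz
      refine ⟨c * c', mul_ne_zero hc hc', ?_⟩
      rw [map_mul, mul_add, mul_right_comm, mul_assoc (algebraMap C M c) (algebraMap C M c') z]
      exact add_mem (mul_mem hcy (D.algebraMap_mem c')) (mul_mem (D.algebraMap_mem c) hcz)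
    | mul y z _ _ hy hz =>
      obtain ⟨c, hc, hcy⟩ := hy
      obtain ⟨c', hc', hcz⟩ := hz
      refine ⟨c * c', mul_ne_zero hc hc', ?_⟩
      rw [map_mul, mul_mul_mul_comm]
      exact mul_mem hcy hcz
  have hCinj : Function.Injective (algebraMap C M) := by
    rw [IsScalarTower.algebraMap_eq C L M]
    exact (algebraMap L M).injective.comp (IsFractionRing.injective C L)
  have htop : IntermediateField.adjoin L (G' : Set M) = ⊤ :=
    top_le_iff.1 (hG₀ ▸ IntermediateField.adjoin.mono L _ _ (by simp [G']))
  refine ⟨D, inferInstance, inferInstance, inferInstance, inferInstance, inferInstance,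
    fun x hx => ⟨⟨x, Algebra.subset_adjoin (by simp [G']; exact Or.inr hx)⟩, rfl⟩, D.fg_iff_finiteType.1 ⟨G', rfl⟩,
    IsFractionRing.of_field D M fun z => ?_,
    (faithfulSMul_iff_algebraMap_injective _ _).2 fun x y e => hCinj (congrArg Subtype.val e :)⟩
  obtain ⟨x, hx, y, hy, e⟩ := IntermediateField.mem_adjoin_iff_div.1
    (htop ▸ IntermediateField.mem_top : z ∈ IntermediateField.adjoin L (G' : Set M))
  obtain ⟨c, hc, hcx⟩ := hscale x hx
  obtain ⟨c', hc', hcy⟩ := hscale y hy
  refine ⟨⟨algebraMap C M c' * (algebraMap C M c * x), mul_mem (D.algebraMap_mem _) hcx⟩,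
    ⟨algebraMap C M c * (algebraMap C M c' * y), mul_mem (D.algebraMap_mem _) hcy⟩, ?_⟩
  show z = algebraMap C M c' * (algebraMap C M c * x) / (algebraMap C M c * (algebraMap C M c' * y))
  rw [e, mul_left_comm, mul_div_mul_left _ _ ((map_ne_zero_iff _ hCinj).2 hc),
    mul_div_mul_left _ _ ((map_ne_zero_iff _ hCinj).2 hc')]

/-- Only the finite domains matter. -/
theorem GoodLocus.open_of_finiteType_domain (G : GoodLocus.{u}) (A : Type u) [CommRing A] [IsNoetherianRing A]
    (h : ∀ (A' : Type u) [CommRing A'] [IsDomain A'] [Algebra A A'], Module.Finite A A' →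
      ∃ U : Set (PrimeSpectrum A'), IsOpen U ∧ U.Nonempty ∧ U ⊆ G.L A')
    (B : Type u) [CommRing B] [IsDomain B] [Algebra A B] [Algebra.FiniteType A B] :
    ∃ U : Set (PrimeSpectrum B), IsOpen U ∧ U.Nonempty ∧ U ⊆ G.L B := by
  classical
  haveI : IsNoetherianRing B := Algebra.FiniteType.isNoetherianRing A B
  let A₀ := A ⧸ RingHom.ker (algebraMap A B)
  haveI : (RingHom.ker (algebraMap A B)).IsPrime := RingHom.ker_isPrime _
  letI : Algebra A₀ B := (RingHom.kerLift (algebraMap A B)).toAlgebra
  haveI : IsScalarTower A A₀ B := .of_algebraMap_eq fun _ => rfl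
  haveI : FaithfulSMul A₀ B := (faithfulSMul_iff_algebraMap_injective _ _).2 (RingHom.kerLift_injective _)
  haveI : Algebra.FiniteType A₀ B := Algebra.FiniteType.of_restrictScalars_finiteType A A₀ B
  let K₀ := FractionRing A₀
  let K := FractionRing B
  letI : Algebra K₀ K := FractionRing.liftAlgebra A₀ K
  haveI : IsScalarTower A₀ K₀ K := FractionRing.isScalarTower_liftAlgebra A₀ K
  haveI : Algebra.EssFiniteType A₀ K := Algebra.EssFiniteType.comp A₀ B K
  haveI : Algebra.EssFiniteType K₀ K := Algebra.EssFiniteType.of_comp A₀ K₀ K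
  obtain ⟨k', K', _, _, _, _, _, _, _, _, s, hfin, -, hind, hess, -, hsep⟩ :=
    exists_purelyInseparable_sepGen K₀ K
  haveI := hess
  haveI := hfin
  haveI := hsep
  haveI := formallySmooth_of_sepGen s hind
  letI : Algebra A₀ k' := ((algebraMap K₀ k').comp (algebraMap A₀ K₀)).toAlgebra
  haveI : IsScalarTower A₀ K₀ k' := .of_algebraMap_eq fun _ => rfl
  -- a finite domain over `A₀` with fraction field `k'`
  obtain ⟨C, _, _, _, _, _, hCfin, hCfrac⟩ := exists_finite_fractionRing A₀ K₀ k'
  obtain ⟨gens, hgens⟩ := (inferInstance : Algebra.FiniteType A₀ B).out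
  let φ : B →+* K' := (algebraMap K K').comp (algebraMap B K)
  letI : Algebra C K' := ((algebraMap k' K').comp (algebraMap C k')).toAlgebra
  haveI : IsScalarTower C k' K' := .of_algebraMap_eq fun _ => rfl
  haveI : Algebra.FormallySmooth C k' := .of_isLocalization (nonZeroDivisors C)
  haveI : Algebra.FormallySmooth C K' := Algebra.FormallySmooth.comp C k' K'
  obtain ⟨D, _, _, _, _, _, hGD, hDft, hDfrac, hDfs⟩ := exists_finiteType_fractionRing C k' K' (gens.image φ)
  haveI : IsNoetherianRing C := IsNoetherianRing.of_finite A₀ C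
  letI : Algebra A C := ((algebraMap A₀ C).comp (algebraMap A A₀)).toAlgebra
  haveI : IsScalarTower A A₀ C := .of_algebraMap_eq fun _ => rfl
  haveI : Module.Finite A C := Module.Finite.trans A₀ C
  have hD := G.open_of_separable C D K' (h C inferInstance)
  have hφA : ∀ a, φ (algebraMap A₀ B a) = algebraMap D K' (algebraMap C D (algebraMap A₀ C a)) := fun a => by
    rw [← IsScalarTower.algebraMap_apply C D K', IsScalarTower.algebraMap_apply C k' K',
      ← IsScalarTower.algebraMap_apply A₀ C k', IsScalarTower.algebraMap_apply A₀ K₀ k']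
    show algebraMap K K' (algebraMap B K (algebraMap A₀ B a)) = _
    rw [← IsScalarTower.algebraMap_apply A₀ B K, IsScalarTower.algebraMap_apply A₀ K₀ K,
      ← IsScalarTower.algebraMap_apply K₀ K K', ← IsScalarTower.algebraMap_apply K₀ k' K']
  have hφ : ∀ b, φ b ∈ (algebraMap D K').range := by
    intro b
    have : b ∈ Algebra.adjoin A₀ (gens : Set B) := hgens ▸ Algebra.mem_top
    induction this using Algebra.adjoin_induction with
    | mem x hx => exact hGD _ (Finset.mem_image.2 ⟨x, hx, rfl⟩)
    | algebraMap c => exact ⟨_, (hφA c).symm⟩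
    | add x y _ _ hx hy => rw [map_add]; exact add_mem hx hy
    | mul x y _ _ hx hy => rw [map_mul]; exact mul_mem hx hy
  let e : D ≃+* (algebraMap D K').range := RingEquiv.ofBijective (algebraMap D K').rangeRestrict
    ⟨fun x y h => IsFractionRing.injective D K' (congrArg Subtype.val h :), (algebraMap D K').rangeRestrict_surjective⟩
  let ψ : B →+* D := e.symm.toRingHom.comp (φ.codRestrict _ hφ)
  have hψ : ∀ b, algebraMap D K' (ψ b) = φ b := fun b =>
    congrArg Subtype.val (e.apply_symm_apply (φ.codRestrict _ hφ b))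
  letI : Algebra B D := ψ.toAlgebra
  letI : Algebra A₀ D := ((algebraMap C D).comp (algebraMap A₀ C)).toAlgebra
  haveI : IsScalarTower A₀ C D := .of_algebraMap_eq fun _ => rfl
  haveI : IsScalarTower A₀ B D := .of_algebraMap_eq fun c =>
    IsFractionRing.injective D K' ((hψ _).trans (hφA c)).symm
  haveI : Algebra.FiniteType A₀ D :=
    Algebra.FiniteType.trans (inferInstance : Algebra.FiniteType A₀ C) (inferInstance : Algebra.FiniteType C D)
  haveI : Algebra.FiniteType B D := Algebra.FiniteType.of_restrictScalars_finiteType A₀ B D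
  refine G.open_of_extension B D ?_ hD
  intro a b e'
  have h1 : φ a = φ b := by rw [← hψ, ← hψ]; exact congrArg (algebraMap D K') e'
  exact IsFractionRing.injective B K ((algebraMap K K').injective h1)

end Groth.Agent.FlatDepth
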