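import Groth.Agent.Lib.FlatDepth.SkFlat
import Groth.Agent.Lib.SMT.CMBasic
import Mathlib

/-!
# Depth, dimension and `(S_k)` of rings along flat maps; fibre rings
-/

namespace Groth.Agent.FlatDepth

universe u

open TensorProduct IsLocalRing

/-- The inequality defining `(S_k)`, for a local ring. -/
def SkIneq (k : ℕ) (R : Type u) [CommRing R] [IsLocalRing R] : Prop :=
  min (k : WithBot ℕ∞) (ringKrullDim R) ≤ ((LocCoh.depth R R : ℕ∞) : WithBot ℕ∞)

theorem SkIneq.congr {k : ℕ} {R S : Type u} [CommRing R] [CommRing S] [IsLocalRing R] [IsLocalRing S]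
    (e : R ≃+* S) (h : SkIneq k R) : SkIneq k S := by
  rw [SkIneq, SMT.depth_eq_of_ringEquiv e, ← ringKrullDim_eq_of_ringEquiv e]
  exact h

theorem self_invariants {R : Type u} [CommRing R] (q : Ideal R) [q.IsPrime] :
    LocCoh.depth (Localization.AtPrime q) (LocalizedModule q.primeCompl R) =
        LocCoh.depth (Localization.AtPrime q) (Localization.AtPrime q) ∧
      Module.supportDim (Localization.AtPrime q) (LocalizedModule q.primeCompl R) =
        ringKrullDim (Localization.AtPrime q) := by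
  refine ⟨DepthLib.depth_localizedModule_self q, ?_⟩
  rw [DepthLib.supportDim_eq_ringKrullDim_of_isPrime, IsLocalization.AtPrime.ringKrullDim_eq_height q]

theorem hasSk_self_iff (k : ℕ) (R : Type u) [CommRing R] :
    LocCoh.HasSk k R R ↔ ∀ (q : Ideal R) [q.IsPrime], SkIneq k (Localization.AtPrime q) := by
  refine forall_congr' fun q => forall_congr' fun hq => ?_
  rw [SkIneq, (self_invariants q).1, (self_invariants q).2]

section

variable {A B : Type u} [CommRing A] [CommRing B] [Algebra A B]

/-- The fibre module of `B` is the fibre ring. -/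
noncomputable def fibSelfEquiv (q : Ideal B) [q.IsPrime] :
    EGA4.FibLocMod A B q B ≃ₗ[Localization.AtPrime q] EGA4.FibLocRing A B q :=
  let e := (IsLocalizedModule.iso q.primeCompl (Algebra.linearMap B (Localization.AtPrime q))).extendScalarsOfIsLocalization
    q.primeCompl (Localization.AtPrime q)
  Submodule.Quotient.equiv _ _ e (by
    rw [Submodule.map_smul'', Submodule.map_top, LinearEquiv.range, Ideal.smul_eq_mul, Ideal.mul_top])

theorem fib_self_invariants (q : Ideal B) [q.IsPrime] :
    LocCoh.depth (EGA4.FibLocRing A B q) (EGA4.FibLocMod A B q B) =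
        LocCoh.depth (EGA4.FibLocRing A B q) (EGA4.FibLocRing A B q) ∧
      Module.supportDim (EGA4.FibLocRing A B q) (EGA4.FibLocMod A B q B) =
        ringKrullDim (EGA4.FibLocRing A B q) := by
  have hs : Function.Surjective (algebraMap (Localization.AtPrime q) (EGA4.FibLocRing A B q)) :=
    Ideal.Quotient.mk_surjective
  haveI : Module.Finite (EGA4.FibLocRing A B q) (EGA4.FibLocMod A B q B) :=
    Module.Finite.of_restrictScalars_finite (Localization.AtPrime q) _ _
  constructor
  · rw [← depth_eq_of_surjective _ hs, ← depth_eq_of_surjective _ hs, LocCoh.depth, LocCoh.depth,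
      DepthLib.idealDepth_congr (fibSelfEquiv q)]
  · rw [← supportDim_eq_of_surjective _ hs, Module.supportDim_eq_of_equiv (fibSelfEquiv q),
      supportDim_eq_of_surjective _ hs, Module.supportDim_self_eq_ringKrullDim]

variable [IsNoetherianRing A] [IsNoetherianRing B] [Module.Flat A B]

/-- Depth and dimension of a flat algebra at a prime. -/
theorem ring_invariants (q : Ideal B) [q.IsPrime] :
    LocCoh.depth (Localization.AtPrime q) (Localization.AtPrime q) =
        LocCoh.depth (Localization.AtPrime (q.comap (algebraMap A B)))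
          (Localization.AtPrime (q.comap (algebraMap A B))) +
        LocCoh.depth (EGA4.FibLocRing A B q) (EGA4.FibLocRing A B q) ∧
      ringKrullDim (Localization.AtPrime q) =
        ringKrullDim (Localization.AtPrime (q.comap (algebraMap A B))) +
          ringKrullDim (EGA4.FibLocRing A B q) := by
  obtain ⟨hd, hdim⟩ := atPrime_invariants (A := A) B A q
  have hnt : ∀ {R : Type u} [CommRing R] (p : Ideal R) [p.IsPrime],
      Nontrivial (LocalizedModule p.primeCompl R) := fun p _ =>
    (IsLocalizedModule.iso p.primeCompl (Algebra.linearMap _ (Localization.AtPrime p))).toEquiv.nontrivial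
  obtain ⟨-, hdim⟩ := hdim (hnt q) (hnt _)
  let e : LocalizedModule q.primeCompl (B ⊗[A] A) ≃ₗ[Localization.AtPrime q] LocalizedModule q.primeCompl B :=
    IsLocalizedModule.mapEquiv q.primeCompl (LocalizedModule.mkLinearMap q.primeCompl _)
      (LocalizedModule.mkLinearMap q.primeCompl B) (Localization.AtPrime q)
      (AlgebraTensorModule.rid A B B)
  rw [LocCoh.depth, DepthLib.idealDepth_congr e, ← LocCoh.depth, (self_invariants q).1,
    (self_invariants _).1, (fib_self_invariants q).1] at hd
  rw [Module.supportDim_eq_of_equiv e, (self_invariants q).2, (self_invariants _).2,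
    (fib_self_invariants q).2] at hdim
  exact ⟨hd, hdim⟩

theorem skIneq_of_fibre (k : ℕ) (q : Ideal B) [q.IsPrime]
    (hA : SkIneq k (Localization.AtPrime (q.comap (algebraMap A B))))
    (hf : SkIneq k (EGA4.FibLocRing A B q)) : SkIneq k (Localization.AtPrime q) := by
  obtain ⟨hd, hdim⟩ := ring_invariants (A := A) q
  rw [SkIneq, ← Module.supportDim_self_eq_ringKrullDim] at hA hf
  obtain ⟨d, hd'⟩ := DepthLib.exists_supportDim_eq_natCast (R := Localization.AtPrime (q.comap (algebraMap A B)))
    (M := Localization.AtPrime (q.comap (algebraMap A B)))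
  obtain ⟨e, he⟩ := DepthLib.exists_supportDim_eq_natCast (R := EGA4.FibLocRing A B q)
    (M := EGA4.FibLocRing A B q)
  obtain ⟨a, ha⟩ := DepthLib.exists_depth_eq_natCast (R := Localization.AtPrime (q.comap (algebraMap A B)))
    (M := Localization.AtPrime (q.comap (algebraMap A B)))
  obtain ⟨b, hb⟩ := DepthLib.exists_depth_eq_natCast (R := EGA4.FibLocRing A B q)
    (M := EGA4.FibLocRing A B q)
  rw [hd', ha, DepthLib.cast_min_le_iff] at hA
  rw [he, hb, DepthLib.cast_min_le_iff] at hf
  rw [SkIneq, hd, hdim, ← Module.supportDim_self_eq_ringKrullDim,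
    ← Module.supportDim_self_eq_ringKrullDim, hd', he, ha, hb, ← Nat.cast_add, ← Nat.cast_add,
    DepthLib.cast_min_le_iff]
  omega

end

section Fiber

variable {A B : Type u} [CommRing A] [CommRing B] [Algebra A B]

theorem skIneq_fibLocRing_aux {k : ℕ} (p : Ideal A) [p.IsPrime] (h : LocCoh.HasSk k (p.Fiber B) (p.Fiber B))
    (Q : Ideal (p.Fiber B)) [Q.IsPrime]
    (hp : (Q.comap (Algebra.TensorProduct.includeRight : B →ₐ[A] p.Fiber B)).comap (algebraMap A B) = p) :
    SkIneq k (EGA4.FibLocRing A B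
      (Q.comap (Algebra.TensorProduct.includeRight : B →ₐ[A] p.Fiber B))) := by
  have hI : (p.map (algebraMap A B)).map (algebraMap B (Localization.AtPrime
      (Q.comap (Algebra.TensorProduct.includeRight : B →ₐ[A] p.Fiber B)))) =
      ((Q.comap (Algebra.TensorProduct.includeRight : B →ₐ[A] p.Fiber B)).comap
        (algebraMap A B)).map (algebraMap A _) := by
    rw [Ideal.map_map, ← IsScalarTower.algebraMap_eq, hp]
  exact SkIneq.congr ((Ideal.Fiber.algEquivAux₂ p Q).toRingEquiv.trans (Ideal.quotEquivOfEq hI))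
    ((hasSk_self_iff k _).1 h Q)

/-- `(S_k)` of the fibre rings gives the inequality for the fibre local rings. -/
theorem skIneq_fibLocRing {k : ℕ} (h : ∀ (p : Ideal A) [p.IsPrime], LocCoh.HasSk k (p.Fiber B) (p.Fiber B))
    (q : Ideal B) [q.IsPrime] : SkIneq k (EGA4.FibLocRing A B q) := by
  let p : PrimeSpectrum A := PrimeSpectrum.comap (algebraMap A B) ⟨q, ‹_›⟩
  let Q := PrimeSpectrum.preimageEquivFiber A B p ⟨⟨q, ‹_›⟩, rfl⟩
  have hQ : Q.asIdeal.comap (Algebra.TensorProduct.includeRight : B →ₐ[A] p.asIdeal.Fiber B) = q :=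
    congrArg (fun x => x.1.asIdeal)
      ((PrimeSpectrum.preimageEquivFiber A B p).symm_apply_apply ⟨⟨q, ‹_›⟩, rfl⟩)
  have key : ∀ (a : Ideal B) [a.IsPrime], a = q → SkIneq k (EGA4.FibLocRing A B a) →
      SkIneq k (EGA4.FibLocRing A B q) := by
    intro a _ e h; subst e; exact h
  refine key _ hQ (skIneq_fibLocRing_aux p.asIdeal (h p.asIdeal) Q.asIdeal ?_)
  rw [hQ]
  rfl

/-- Converse of `skIneq_fibLocRing`. -/
theorem hasSk_fiber_of_skIneq {k : ℕ} (p : Ideal A) [p.IsPrime]
    (h : ∀ (q : Ideal B) [q.IsPrime], q.comap (algebraMap A B) = p → SkIneq k (EGA4.FibLocRing A B q)) :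
    LocCoh.HasSk k (p.Fiber B) (p.Fiber B) := by
  rw [hasSk_self_iff]
  intro Q hQ
  have hp : (Q.comap (Algebra.TensorProduct.includeRight : B →ₐ[A] p.Fiber B)).comap (algebraMap A B) = p :=
    congrArg PrimeSpectrum.asIdeal
      ((PrimeSpectrum.preimageEquivFiber A B ⟨p, ‹_›⟩).symm ⟨Q, hQ⟩).2
  have hI : (p.map (algebraMap A B)).map (algebraMap B (Localization.AtPrime
      (Q.comap (Algebra.TensorProduct.includeRight : B →ₐ[A] p.Fiber B)))) =
      ((Q.comap (Algebra.TensorProduct.includeRight : B →ₐ[A] p.Fiber B)).comap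
        (algebraMap A B)).map (algebraMap A _) := by
    rw [Ideal.map_map, ← IsScalarTower.algebraMap_eq, hp]
  exact SkIneq.congr ((Ideal.Fiber.algEquivAux₂ p Q).toRingEquiv.trans (Ideal.quotEquivOfEq hI)).symm
    (h _ hp)

end Fiber

section Comp

variable {A B C : Type u} [CommRing A] [CommRing B] [CommRing C] [Algebra A B] [Algebra B C]
  [Algebra A C] [IsScalarTower A B C]

/-- `(C ⊗ B/J)_Q = C_Q / J C_Q`. -/
noncomputable def localizeQuotEquiv (J : Ideal B) (Q : Ideal C) [Q.IsPrime] :
    LocalizedModule Q.primeCompl (C ⊗[B] (B ⧸ J)) ≃ₗ[Localization.AtPrime Q]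
      Localization.AtPrime Q ⧸ J.map (algebraMap B (Localization.AtPrime Q)) :=
  ((IsLocalizedModule.iso Q.primeCompl (AlgebraTensorModule.rTensor B (B ⧸ J)
      (Algebra.linearMap C (Localization.AtPrime Q)))).extendScalarsOfIsLocalization Q.primeCompl _).trans
    ((tensorQuotEquiv (Localization.AtPrime Q) J).trans
      (Submodule.quotEquivOfEq _ _ (by rw [Ideal.smul_eq_mul, Ideal.mul_top])))

theorem quot_invariants (Q : Ideal C) [Q.IsPrime] (I : Ideal (Localization.AtPrime Q))
    [Nontrivial (Localization.AtPrime Q ⧸ I)]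
    (M : Type u) [AddCommGroup M] [Module (Localization.AtPrime Q) M]
    (e : M ≃ₗ[Localization.AtPrime Q] (Localization.AtPrime Q ⧸ I)) :
    LocCoh.depth (Localization.AtPrime Q) M =
        LocCoh.depth (Localization.AtPrime Q ⧸ I) (Localization.AtPrime Q ⧸ I) ∧
      Module.supportDim (Localization.AtPrime Q) M = ringKrullDim (Localization.AtPrime Q ⧸ I) := by
  have hs : Function.Surjective (algebraMap (Localization.AtPrime Q) (Localization.AtPrime Q ⧸ I)) :=
    Ideal.Quotient.mk_surjective
  refine ⟨?_, ?_⟩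
  · rw [← depth_eq_of_surjective _ hs, LocCoh.depth, LocCoh.depth]
    exact DepthLib.idealDepth_congr e
  · rw [Module.supportDim_eq_of_equiv e]
    exact (supportDim_eq_of_surjective _ hs).trans (Module.supportDim_self_eq_ringKrullDim _)

/-- Invariants of the fibre of a composite. -/
theorem fibre_comp_invariants [IsNoetherianRing B] [IsNoetherianRing C] [Module.Flat B C]
    (Q : Ideal C) [Q.IsPrime] :
    LocCoh.depth (EGA4.FibLocRing A C Q) (EGA4.FibLocRing A C Q) =
        LocCoh.depth (EGA4.FibLocRing A B (Q.comap (algebraMap B C)))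
          (EGA4.FibLocRing A B (Q.comap (algebraMap B C))) +
          LocCoh.depth (EGA4.FibLocRing B C Q) (EGA4.FibLocRing B C Q) ∧
      ringKrullDim (EGA4.FibLocRing A C Q) =
        ringKrullDim (EGA4.FibLocRing A B (Q.comap (algebraMap B C))) +
          ringKrullDim (EGA4.FibLocRing B C Q) := by
  let q := Q.comap (algebraMap B C)
  let p := Q.comap (algebraMap A C)
  have hpq : q.comap (algebraMap A B) = p := by
    rw [Ideal.comap_comap, ← IsScalarTower.algebraMap_eq]
  let J := p.map (algebraMap A B)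
  have hJQ : J.map (algebraMap B (Localization.AtPrime Q)) =
      p.map (algebraMap A (Localization.AtPrime Q)) := by
    rw [Ideal.map_map, ← IsScalarTower.algebraMap_eq]
  have hJq : J.map (algebraMap B (Localization.AtPrime q)) =
      (q.comap (algebraMap A B)).map (algebraMap A (Localization.AtPrime q)) := by
    rw [Ideal.map_map, ← IsScalarTower.algebraMap_eq, hpq]
  let eC := (localizeQuotEquiv (C := C) J Q).trans (Submodule.quotEquivOfEq _ _ hJQ)
  let e₀ : LocalizedModule q.primeCompl (B ⊗[B] (B ⧸ J)) ≃ₗ[Localization.AtPrime q]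
      LocalizedModule q.primeCompl (B ⧸ J) :=
    IsLocalizedModule.mapEquiv q.primeCompl (LocalizedModule.mkLinearMap q.primeCompl _)
      (LocalizedModule.mkLinearMap q.primeCompl _) (Localization.AtPrime q) (TensorProduct.lid B (B ⧸ J))
  let eB := e₀.symm.trans ((localizeQuotEquiv (C := B) J q).trans (Submodule.quotEquivOfEq _ _ hJq))
  obtain ⟨hbd, hbm⟩ := quot_invariants q _ (LocalizedModule q.primeCompl (B ⧸ J)) eB
  obtain ⟨hcd, hcm⟩ := quot_invariants Q _ (LocalizedModule Q.primeCompl (C ⊗[B] (B ⧸ J))) eC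
  obtain ⟨hd, hdim⟩ := atPrime_invariants (A := B) C (B ⧸ J) Q
  obtain ⟨-, hdim⟩ := hdim
    ((IsLocalizedModule.iso Q.primeCompl (Algebra.linearMap C (Localization.AtPrime Q))).toEquiv.nontrivial)
    (eB.toEquiv.nontrivial)
  rw [hcd, hbd, (fib_self_invariants Q).1] at hd
  rw [hcm, hbm, (fib_self_invariants Q).2] at hdim
  exact ⟨hd, hdim⟩

theorem skIneq_fibre_comp [IsNoetherianRing B] [IsNoetherianRing C] [Module.Flat B C] (k : ℕ)
    (Q : Ideal C) [Q.IsPrime]
    (hAB : SkIneq k (EGA4.FibLocRing A B (Q.comap (algebraMap B C))))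
    (hBC : SkIneq k (EGA4.FibLocRing B C Q)) : SkIneq k (EGA4.FibLocRing A C Q) := by
  obtain ⟨hd, hdim⟩ := fibre_comp_invariants (A := A) (B := B) Q
  rw [SkIneq, ← Module.supportDim_self_eq_ringKrullDim] at hAB hBC
  obtain ⟨d, hd'⟩ := DepthLib.exists_supportDim_eq_natCast
    (R := EGA4.FibLocRing A B (Q.comap (algebraMap B C))) (M := EGA4.FibLocRing A B (Q.comap (algebraMap B C)))
  obtain ⟨e, he⟩ := DepthLib.exists_supportDim_eq_natCast (R := EGA4.FibLocRing B C Q)
    (M := EGA4.FibLocRing B C Q)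
  obtain ⟨a, ha⟩ := DepthLib.exists_depth_eq_natCast
    (R := EGA4.FibLocRing A B (Q.comap (algebraMap B C))) (M := EGA4.FibLocRing A B (Q.comap (algebraMap B C)))
  obtain ⟨b, hb⟩ := DepthLib.exists_depth_eq_natCast (R := EGA4.FibLocRing B C Q)
    (M := EGA4.FibLocRing B C Q)
  rw [hd', ha, DepthLib.cast_min_le_iff] at hAB
  rw [he, hb, DepthLib.cast_min_le_iff] at hBC
  rw [SkIneq, hd, hdim, ← Module.supportDim_self_eq_ringKrullDim,
    ← Module.supportDim_self_eq_ringKrullDim, hd', he, ha, hb, ← Nat.cast_add, ← Nat.cast_add,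
    DepthLib.cast_min_le_iff]
  omega

theorem skIneq_fibre_of_comp [IsNoetherianRing B] [IsNoetherianRing C] [Module.FaithfullyFlat B C]
    (k : ℕ) (q : Ideal B) [q.IsPrime]
    (hAC : ∀ (Q : Ideal C) [Q.IsPrime], SkIneq k (EGA4.FibLocRing A C Q)) :
    SkIneq k (EGA4.FibLocRing A B q) := by
  obtain ⟨Q₀, hQ₀⟩ := PrimeSpectrum.comap_surjective_of_faithfullyFlat (A := B) (B := C) ⟨q, ‹_›⟩
  have hsupp : Q₀ ∈ Module.support C C := by
    rw [Module.support_eq_zeroLocus, PrimeSpectrum.mem_zeroLocus]
    intro a ha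
    have := Module.mem_annihilator.1 ha (1 : C)
    rw [smul_eq_mul, mul_one] at this
    rw [this]
    exact Q₀.asIdeal.zero_mem
  obtain ⟨Q, -, -, hQc, hfib⟩ := exists_fibre_generic (A := B) (F := C) Q₀ hsupp ⟨q, ‹_›⟩
    (le_of_eq (congrArg PrimeSpectrum.asIdeal hQ₀).symm)
  have hq : Q.asIdeal.comap (algebraMap B C) = q := congrArg PrimeSpectrum.asIdeal hQc
  subst hq
  obtain ⟨hd, hdim⟩ := fibre_comp_invariants (A := A) (B := B) Q.asIdeal
  rw [(fib_self_invariants Q.asIdeal).2] at hfib
  have h0 : ringKrullDim (EGA4.FibLocRing B C Q.asIdeal) = 0 :=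
    le_antisymm hfib ringKrullDim_nonneg_of_nontrivial
  have hd0 : LocCoh.depth (EGA4.FibLocRing B C Q.asIdeal) (EGA4.FibLocRing B C Q.asIdeal) = 0 :=
    nonpos_iff_eq_zero.1 (WithBot.coe_le_coe.1 (DepthLib.depth_le_supportDim.trans
      ((Module.supportDim_self_eq_ringKrullDim _).le.trans hfib)))
  have := hAC Q.asIdeal
  rw [SkIneq, hd, hdim, h0, hd0, add_zero, add_zero] at this
  exact this

end Comp

end Groth.Agent.FlatDepth
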