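import Groth.Agent.Lib.FlatDepth.FlatOff
import Groth.Agent.Lib.FlatDepth.Depth
import Groth.Agent.Lib.Depth.Devissage
import Groth.Agent.Lib.FlatSyz.ProjDim
import Mathlib

/-!
# Short exact sequences with flat middle term and closed fibres
-/

namespace Groth.Agent.FlatDepth

universe u

open TensorProduct IsLocalRing

variable {A B : Type u} [CommRing A] [CommRing B] [Algebra A B]
variable {X Y Z : Type u}
  [AddCommGroup X] [Module B X] [Module A X] [IsScalarTower A B X]
  [AddCommGroup Y] [Module B Y] [Module A Y] [IsScalarTower A B Y]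
  [AddCommGroup Z] [Module B Z] [Module A Z] [IsScalarTower A B Z]

theorem mapLeft_injective_of_flat (i : X →ₗ[B] Y) (p : Y →ₗ[B] Z) (hi : Function.Injective i)
    (hip : Function.Exact i p) (hp : Function.Surjective p) [Module.Flat A Z]
    (V : Type u) [AddCommGroup V] [Module A V] :
    Function.Injective (mapLeft (R := A) (M := V) i) := by
  have h : Function.Injective ((i.restrictScalars A).lTensor V) :=
    LinearMap.lTensor_injective_of_exact_of_flat (p.restrictScalars A) hp (i.restrictScalars A) hi hip V
  intro a b hab
  rw [mapLeft_apply, mapLeft_apply] at hab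
  apply (TensorProduct.comm A X V).injective
  apply h
  have key : ∀ z, (i.restrictScalars A).lTensor V (TensorProduct.comm A X V z) =
      TensorProduct.comm A Y V ((i.restrictScalars A).rTensor V z) := fun z => by
    induction z with
    | zero => simp
    | tmul a b => simp
    | add a b ha hb => simp only [map_add, ha, hb]
  rw [key, key, hab]

/-- Where the cokernel is flat, the kernel on fibres is killed outside the prime. -/
theorem exists_smul_eq_zero_of_coker_flatAt (i : X →ₗ[B] Y) (p : Y →ₗ[B] Z) (hi : Function.Injective i)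
    (hip : Function.Exact i p) (hp : Function.Surjective p) (q : Ideal B) [q.IsPrime]
    (hZ : FlatCA.FlatAt A q Z) (V : Type u) [AddCommGroup V] [Module A V] (x : X ⊗[A] V)
    (hx : mapLeft i x = 0) : ∃ s ∈ q.primeCompl, s • x = 0 := by
  haveI : Module.Flat A (LocalizedModule q.primeCompl Z) := hZ
  let gX := LocalizedModule.mkLinearMap q.primeCompl X
  let gY := LocalizedModule.mkLinearMap q.primeCompl Y
  let i' := (LocalizedModule.map q.primeCompl i).restrictScalars B
  let p' := (LocalizedModule.map q.primeCompl p).restrictScalars B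
  have hinj : Function.Injective (mapLeft (R := A) (M := V) i') :=
    mapLeft_injective_of_flat i' p' (LocalizedModule.map_injective _ _ hi)
      (LocalizedModule.map_exact _ _ _ hip) (LocalizedModule.map_surjective _ _ hp) V
  let g := AlgebraTensorModule.rTensor A V gX
  have hg : g x = 0 := by
    apply hinj
    have h : ∀ z : X ⊗[A] V, mapLeft i' (g z) =
        AlgebraTensorModule.rTensor A V gY (mapLeft i z) := fun z => by
      induction z with
      | zero => simp
      | tmul n m =>
        simp [g, mapLeft, i', gX, gY, LocalizedModule.map_mk]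
      | add a b ha hb => simp only [map_add, ha, hb]
    rw [h, hx]
    simp
  obtain ⟨⟨s, hs⟩, h⟩ := (IsLocalizedModule.eq_zero_iff q.primeCompl g).1 hg
  exact ⟨s, hs, h⟩

theorem flatAt_kernel (i : X →ₗ[B] Y) (p : Y →ₗ[B] Z) (hi : Function.Injective i)
    (hip : Function.Exact i p) (hp : Function.Surjective p) [Module.Flat A Y] (q : Ideal B) [q.IsPrime]
    (hZ : FlatCA.FlatAt A q Z) : FlatCA.FlatAt A q X := by
  haveI : Module.Flat A (LocalizedModule q.primeCompl Z) := hZ
  haveI : Module.Flat A (LocalizedModule q.primeCompl Y) := flat_localizedModule_of_flat Y _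
  exact FlatSyz.flat_of_exact ((LocalizedModule.map q.primeCompl i).restrictScalars A)
    (LocalizedModule.map_injective _ _ hi) ((LocalizedModule.map q.primeCompl p).restrictScalars A)
    (LocalizedModule.map_exact _ _ _ hip) (LocalizedModule.map_surjective _ _ hp)

variable [IsLocalRing A] [IsNoetherianRing B] [Module.Finite B X]

/-- If the cokernel is flat off `V(J)` and the fibre of the kernel has depth at least one, the
sequence is exact on fibres. -/
theorem fibre_injective_of_depth [IsNoetherianRing A] (i : X →ₗ[B] Y) (p : Y →ₗ[B] Z) (hi : Function.Injective i)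
    (hip : Function.Exact i p) (hp : Function.Surjective p) (J : Ideal B)
    (hU : ∀ q : PrimeSpectrum B, ¬ J ≤ q.asIdeal → FlatCA.FlatAt A q.asIdeal Z)
    (h1 : 1 ≤ LocCoh.idealDepth J (X ⊗[A] (A ⧸ maximalIdeal A))) :
    Function.Injective (mapLeft (R := A) (M := A ⧸ maximalIdeal A) i) := by
  let K := LinearMap.ker (mapLeft (R := A) (M := A ⧸ maximalIdeal A) i)
  have hsupp : Module.support B K ⊆ PrimeSpectrum.zeroLocus J := by
    intro q hq a ha
    by_contra haq
    obtain ⟨⟨x, hx⟩, hk⟩ := Module.mem_support_iff'.1 hq
    obtain ⟨s, hs, hs0⟩ :=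
      exists_smul_eq_zero_of_coker_flatAt i p hi hip hp q.asIdeal (hU q fun h => haq (h ha)) _ x hx
    exact hk s hs (Subtype.ext hs0)
  have h0 := DepthLib.subsingleton_ext_of_le_idealDepth (M := X ⊗[A] (A ⧸ maximalIdeal A)) (n := 1)
    (by exact_mod_cast h1) (ModuleCat.of B K) hsupp Nat.one_pos
  have h00 : ModuleCat.ofHom K.subtype = 0 :=
    (CategoryTheory.Abelian.Ext.mk₀_bijective _ _).1 (@Subsingleton.elim _ h0 _ _)
  rw [injective_iff_map_eq_zero]
  intro x hx
  exact congr(($h00).hom ⟨x, hx⟩)

variable [IsLocalRing B] [IsLocalHom (algebraMap A B)] [Module.Flat A Y]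

/-- A map injective on closed fibres into a flat module has flat cokernel. -/
theorem flat_coker_of_fibre_injective (i : X →ₗ[B] Y) (p : Y →ₗ[B] Z)
    (hip : Function.Exact i p) (hp : Function.Surjective p)
    (hinj : Function.Injective (mapLeft (R := A) (M := A ⧸ maximalIdeal A) i)) : Module.Flat A Z := by
  let u : X →ₗ[A] Y := i.restrictScalars A
  have hu0 : Function.Injective (u.lTensor (A ⧸ maximalIdeal A)) := by
    intro a b hab
    apply (TensorProduct.comm A (A ⧸ maximalIdeal A) X).injective
    apply hinj
    have key : ∀ z, mapLeft i (TensorProduct.comm A (A ⧸ maximalIdeal A) X z) =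
        TensorProduct.comm A (A ⧸ maximalIdeal A) Y (u.lTensor _ z) := fun z => by
      induction z with
      | zero => simp
      | tmul a b => simp [u, mapLeft]
      | add a b ha hb => simp only [map_add, ha, hb]
    rw [key, key, hab]
  have key : ∀ (I : Ideal A) (z : X), u z ∈ I • (⊤ : Submodule A Y) → z ∈ I • (⊤ : Submodule A X) := by
    intro I
    refine FlatH4.mem_smul_of_map_mem_smul_of_separated (maximalIdeal A) u
      (fun V _ _ hV => FlatH4.lTensor_injective_of_isMaximal _ u hu0 V hV) I fun z hz => ?_
    let J := I.map (algebraMap A B) • (⊤ : Submodule B X)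
    have hJ : I • (⊤ : Submodule A X) = J.restrictScalars A := by
      rw [Ideal.smul_restrictScalars, Submodule.restrictScalars_top]
    rw [hJ, Submodule.restrictScalars_mem, ← Submodule.Quotient.mk_eq_zero, ← Submodule.mem_bot B,
      ← Ideal.iInf_pow_smul_eq_bot_of_le_jacobson
        (M := X ⧸ J) ((maximalIdeal A).map (algebraMap A B))
        ((map_maximalIdeal_le _).trans (maximalIdeal_le_jacobson _)), Submodule.mem_iInf]
    intro n
    have h2 := hz n
    rw [Submodule.sup_smul, hJ, Submodule.mem_sup] at h2
    obtain ⟨a, ha, b, hb, rfl⟩ := h2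
    rw [Submodule.Quotient.mk_add, (Submodule.Quotient.mk_eq_zero J).2 ha, zero_add, ← Ideal.map_pow]
    have hb' : b ∈ ((maximalIdeal A ^ n).map (algebraMap A B) • (⊤ : Submodule B X)).restrictScalars A := by
      rwa [Ideal.smul_restrictScalars, Submodule.restrictScalars_top]
    have := Submodule.mem_map_of_mem (f := J.mkQ) hb'
    rw [Submodule.map_smul'', Submodule.map_top, Submodule.range_mkQ] at this
    exact this
  haveI := FlatH4.flat_quotient_range u key
  have hker : LinearMap.ker (p.restrictScalars A) = LinearMap.range u := LinearMap.exact_iff.1 hip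
  exact Module.Flat.of_linearEquiv
    ((Submodule.quotEquivOfEq _ _ hker.symm).trans
      ((p.restrictScalars A).quotKerEquivOfSurjective hp)).symm

end Groth.Agent.FlatDepth
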