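import Groth.Agent.Lib.FlatDepth.Rings
import Mathlib

/-!
# Depth along a closed subset from depth in the fibres
-/

namespace Groth.Agent.FlatDepth

universe u

open TensorProduct IsLocalRing

variable {A B : Type u} [CommRing A] [CommRing B] [Algebra A B]

theorem map_fibLocRing_eq_maximalIdeal (q : Ideal B) [q.IsPrime] :
    q.map (algebraMap B (EGA4.FibLocRing A B q)) = maximalIdeal (EGA4.FibLocRing A B q) := by
  have hs : Function.Surjective (algebraMap (Localization.AtPrime q) (EGA4.FibLocRing A B q)) :=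
    Ideal.Quotient.mk_surjective
  rw [IsScalarTower.algebraMap_eq B (Localization.AtPrime q) (EGA4.FibLocRing A B q), ← Ideal.map_map,
    Localization.AtPrime.map_eq_maximalIdeal]
  refine IsLocalRing.eq_maximalIdeal ((Ideal.map_eq_top_or_isMaximal_of_surjective _ hs
    inferInstance).resolve_left fun h => ?_)
  have h1 : maximalIdeal (Localization.AtPrime q) ≤
      (maximalIdeal (EGA4.FibLocRing A B q)).comap (algebraMap _ (EGA4.FibLocRing A B q)) :=
    (IsLocalRing.eq_maximalIdeal (Ideal.comap_isMaximal_of_surjective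
      (K := maximalIdeal (EGA4.FibLocRing A B q)) _ hs)).ge
  exact (maximalIdeal.isMaximal (EGA4.FibLocRing A B q)).ne_top
    (top_le_iff.1 (h ▸ Ideal.map_le_iff_le_comap.2 h1))

variable [IsNoetherianRing A] [IsNoetherianRing B] (F : Type u) [AddCommGroup F] [Module B F]
  [Module A F] [IsScalarTower A B F] [Module.Finite B F] [Module.Flat A F]

/-- Fibrewise depth along `J` bounds the depth along `J` from below. -/
theorem le_idealDepth_of_fibres (J : Ideal B) (n : ℕ)
    (h : ∀ q : PrimeSpectrum B, J ≤ q.asIdeal →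
      (n : ℕ∞) ≤ LocCoh.idealDepth (q.asIdeal.map (algebraMap B (EGA4.FibLocRing A B q.asIdeal)))
        (EGA4.FibLocMod A B q.asIdeal F)) :
    (n : ℕ∞) ≤ LocCoh.idealDepth J F := by
  refine (DepthLib.natCast_le_idealDepth_iff_forall_localized (R := B) (M := F) n).2 fun q hq => ?_
  have h1 := h q hq
  rw [map_fibLocRing_eq_maximalIdeal] at h1
  let e : LocalizedModule q.asIdeal.primeCompl (F ⊗[A] A) ≃ₗ[Localization.AtPrime q.asIdeal]
      LocalizedModule q.asIdeal.primeCompl F :=
    IsLocalizedModule.mapEquiv q.asIdeal.primeCompl (LocalizedModule.mkLinearMap q.asIdeal.primeCompl _)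
      (LocalizedModule.mkLinearMap q.asIdeal.primeCompl F) (Localization.AtPrime q.asIdeal)
      (AlgebraTensorModule.rid A B F)
  have h2 : LocCoh.depth (Localization.AtPrime q.asIdeal) (LocalizedModule q.asIdeal.primeCompl F) =
      LocCoh.depth (Localization.AtPrime q.asIdeal) (LocalizedModule q.asIdeal.primeCompl (F ⊗[A] A)) :=
    (DepthLib.idealDepth_congr e).symm
  rw [h2, (atPrime_invariants F A q.asIdeal).1]
  exact le_trans h1 le_add_self


/-- The same for the ring. -/
theorem le_idealDepth_self_of_fibres [Module.Flat A B] (J : Ideal B) (n : ℕ)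
    (h : ∀ q : PrimeSpectrum B, J ≤ q.asIdeal →
      (n : ℕ∞) ≤ LocCoh.idealDepth (q.asIdeal.map (algebraMap B (EGA4.FibLocRing A B q.asIdeal)))
        (EGA4.FibLocRing A B q.asIdeal)) :
    (n : ℕ∞) ≤ LocCoh.idealDepth J B := by
  refine le_idealDepth_of_fibres (A := A) B J n fun q hq => ?_
  have h1 := h q hq
  rw [map_fibLocRing_eq_maximalIdeal] at h1 ⊢
  exact h1.trans_eq (fib_self_invariants q.asIdeal).1.symm

end Groth.Agent.FlatDepth
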