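import Groth.Agent.Lib.FlatDepth.AtPrime
import Groth.Agent.Lib.Depth.SkOps
import Groth.Agent.Lib.FlatH4.LocCrit
import Groth.Prelude.Def_FlatCA
import Mathlib

/-!
# Flatness from flatness off a closed set and depth of the closed fibre
-/

namespace Groth.Agent.FlatDepth

universe u

open TensorProduct IsLocalRing

variable {A B : Type u} [CommRing A] [CommRing B] [Algebra A B]
variable {M : Type u} [AddCommGroup M] [Module B M] [Module A M] [IsScalarTower A B M]

/-- Where `M` is flat, the kernel of `M ⊗ I → M` is killed outside the prime. -/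
theorem exists_smul_eq_zero_of_flatAt (q : Ideal B) [q.IsPrime] (hq : FlatCA.FlatAt A q M) (I : Ideal A)
    (w : M ⊗[A] I) (hw : AlgebraTensorModule.rid A B M (mapRight (S := B) I.subtype w) = 0) :
    ∃ s ∈ q.primeCompl, s • w = 0 := by
  haveI : Module.Flat A (LocalizedModule q.primeCompl M) := hq
  let g := AlgebraTensorModule.rTensor A I (LocalizedModule.mkLinearMap q.primeCompl M)
  have hg : g w = 0 := by
    apply Module.Flat.lTensor_preserves_injective_linearMap (M := LocalizedModule q.primeCompl M)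
      I.subtype I.injective_subtype
    apply (TensorProduct.rid A _).injective
    have h : ∀ z : M ⊗[A] I, TensorProduct.rid A _ (I.subtype.lTensor _ (g z)) =
        LocalizedModule.mkLinearMap q.primeCompl M
          (AlgebraTensorModule.rid A B M (mapRight (S := B) I.subtype z)) := fun z => by
      induction z with
      | zero => simp
      | tmul n m =>
        simp [g, mapRight, ((LocalizedModule.mkLinearMap q.primeCompl M).restrictScalars A).map_smul]
      | add a b ha hb => simp only [map_add, ha, hb]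
    rw [h, hw]
    simp
  obtain ⟨⟨s, hs⟩, h⟩ := (IsLocalizedModule.eq_zero_iff q.primeCompl g).1 hg
  exact ⟨s, hs, h⟩

/-- The image of `M ⊗ I ^ (n+1)` in `M ⊗ I` lies in `(I B) ^ n (M ⊗ I)`. -/
theorem mapRight_inclusion_mem_pow_smul (I : Ideal A) (n : ℕ) (hle : I ^ (n + 1) ≤ I)
    (w : M ⊗[A] ↥(I ^ (n + 1))) :
    mapRight (S := B) (Submodule.inclusion hle) w ∈
      (I.map (algebraMap A B)) ^ n • (⊤ : Submodule B (M ⊗[A] I)) := by
  induction w with
  | zero => simp
  | add a b ha hb => rw [map_add]; exact Submodule.add_mem _ ha hb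
  | tmul x a =>
    obtain ⟨a, ha⟩ := a
    have hC : ∀ b ∈ I ^ n * I, ∃ hbI : b ∈ I,
        x ⊗ₜ[A] (⟨b, hbI⟩ : I) ∈ (I.map (algebraMap A B)) ^ n • (⊤ : Submodule B (M ⊗[A] I)) := by
      intro b hb
      refine Submodule.mul_induction_on hb (fun s hs t ht => ⟨Ideal.mul_mem_left _ s ht, ?_⟩) ?_
      · have e : x ⊗ₜ[A] (⟨s * t, Ideal.mul_mem_left _ s ht⟩ : I) =
            algebraMap A B s • (x ⊗ₜ[A] (⟨t, ht⟩ : I)) := by
          rw [algebraMap_smul, ← tmul_smul]; rfl
        rw [e]
        exact Submodule.smul_mem_smul (by rw [← Ideal.map_pow]; exact Ideal.mem_map_of_mem _ hs) trivial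
      · rintro s t ⟨hsI, h1⟩ ⟨htI, h2⟩
        refine ⟨I.add_mem hsI htI, ?_⟩
        have := Submodule.add_mem _ h1 h2
        rwa [← tmul_add] at this
    obtain ⟨hbI, h⟩ := hC a (by rwa [← pow_succ])
    simp only [mapRight, AlgebraTensorModule.map_tmul, LinearMap.id_coe, id_eq]
    exact h

/-- One step of the descent: a kernel element coming from `I ^ (n+1)` comes from `I ^ (n+2)`. -/
theorem exists_lift_next (I : Ideal A) (n : ℕ) (hle : I ^ (n + 1) ≤ I) (hle' : I ^ (n + 1 + 1) ≤ I)
    (w : M ⊗[A] ↥(I ^ (n + 1)))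
    (hk : mapRight (S := B) (I • (⊤ : Submodule A ↥(I ^ (n + 1)))).mkQ w = 0) :
    ∃ v, mapRight (S := B) (Submodule.inclusion hle') v = mapRight (S := B) (Submodule.inclusion hle) w := by
  let X : Submodule A ↥(I ^ (n + 1)) := I • ⊤
  rw [mapRight_apply] at hk
  obtain ⟨v, hv⟩ := (lTensor_exact M (LinearMap.exact_subtype_mkQ X) (Submodule.mkQ_surjective X) w).1 hk
  have hsub : ∀ a : X, ((I ^ (n + 1)).subtype ∘ₗ X.subtype) a ∈ I ^ (n + 1 + 1) := fun a => by
    have h := Submodule.mem_map_of_mem (f := (I ^ (n + 1)).subtype) a.2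
    rw [Submodule.map_smul'', Submodule.map_top, Submodule.range_subtype, Ideal.smul_eq_mul,
      ← pow_succ'] at h
    exact h
  let c : X →ₗ[A] ↥(I ^ (n + 1 + 1)) := LinearMap.codRestrict _ _ hsub
  refine ⟨mapRight (S := B) c v, ?_⟩
  subst hv
  rw [mapRight_apply, mapRight_apply, mapRight_apply, ← LinearMap.comp_apply, ← LinearMap.comp_apply,
    ← LinearMap.lTensor_comp, ← LinearMap.lTensor_comp]
  congr 2

variable [IsLocalRing A] [IsLocalRing B] [IsLocalHom (algebraMap A B)] [IsNoetherianRing A]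
  [IsNoetherianRing B] [Module.Finite B M]

/-- Flat off `V(J)` and `depth_J` of the closed fibre at least one: flat. -/
theorem flat_of_flatAt_off (J : Ideal B)
    (hU : ∀ q : PrimeSpectrum B, ¬ J ≤ q.asIdeal → FlatCA.FlatAt A q.asIdeal M)
    (h1 : 1 ≤ LocCoh.idealDepth J (M ⊗[A] (A ⧸ maximalIdeal A))) : Module.Flat A M := by
  let m := maximalIdeal A
  let ψ : ∀ I : Ideal A, M ⊗[A] I →ₗ[B] M := fun I =>
    (AlgebraTensorModule.rid A B M).toLinearMap ∘ₗ mapRight I.subtype
  -- a kernel element dies modulo the next power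
  have key : ∀ (I : Ideal A) (w : M ⊗[A] I), ψ I w = 0 →
      mapRight (S := B) (m • (⊤ : Submodule A I)).mkQ w = 0 := by
    intro I w hw
    let V := I ⧸ m • (⊤ : Submodule A I)
    let K : Submodule B (M ⊗[A] V) :=
      Submodule.map (mapRight (m • (⊤ : Submodule A I)).mkQ) (LinearMap.ker (ψ I))
    have hmem : mapRight (S := B) (m • (⊤ : Submodule A I)).mkQ w ∈ K := Submodule.mem_map_of_mem hw
    have hsupp : Module.support B K ⊆ PrimeSpectrum.zeroLocus J := by
      intro q hq a ha
      by_contra haq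
      obtain ⟨⟨_, x, hx, rfl⟩, hk⟩ := Module.mem_support_iff'.1 hq
      obtain ⟨s, hs, hs0⟩ := exists_smul_eq_zero_of_flatAt q.asIdeal (hU q fun h => haq (h ha)) I x hx
      exact hk s hs (Subtype.ext (by
        change s • mapRight (S := B) _ x = 0
        rw [← map_smul, hs0, map_zero]))
    obtain ⟨r, ⟨e⟩⟩ : ∃ r : ℕ, Nonempty (V ≃ₗ[A] (Fin r → A ⧸ m)) := by
      letI : Field (A ⧸ m) := Ideal.Quotient.field m
      haveI : Module.Finite (A ⧸ m) V := Module.Finite.of_restrictScalars_finite A _ _
      exact ⟨_, ⟨(Module.finBasis (A ⧸ m) V).equivFun.restrictScalars A⟩⟩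
    let e' : M ⊗[A] V ≃ₗ[B] (Fin r → M ⊗[A] (A ⧸ m)) :=
      (AlgebraTensorModule.congr (LinearEquiv.refl B M) e).trans (TensorProduct.piRight A B M _)
    have hd : 1 ≤ LocCoh.idealDepth J (M ⊗[A] V) := by
      rw [DepthLib.idealDepth_congr e']
      exact h1.trans (DepthLib.idealDepth_le_pi J r)
    have h0 := DepthLib.subsingleton_ext_of_le_idealDepth (M := M ⊗[A] V) (n := 1)
      (by exact_mod_cast hd) (ModuleCat.of B K) hsupp Nat.one_pos
    have h00 : ModuleCat.ofHom K.subtype = 0 :=
      (CategoryTheory.Abelian.Ext.mk₀_bijective _ _).1 (@Subsingleton.elim _ h0 _ _)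
    exact congr(($h00).hom ⟨_, hmem⟩)
  refine FlatH4.flat_of_le_jacobson (S := B) m ((map_maximalIdeal_le _).trans (maximalIdeal_le_jacobson _))
    ?_ ?_
  · rw [injective_iff_map_eq_zero]
    intro z hz
    have hz' : ψ m z = 0 := by
      change AlgebraTensorModule.rid A B M (mapRight (S := B) m.subtype z) = 0
      rw [mapRight_apply]
      exact (congrArg _ hz).trans (map_zero _)
    have hle : ∀ n : ℕ, m ^ (n + 1) ≤ m := fun n => Ideal.pow_le_self (by omega)
    let ι : ∀ n : ℕ, M ⊗[A] ↥(m ^ (n + 1)) →ₗ[B] M ⊗[A] m := fun n =>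
      mapRight (Submodule.inclusion (hle n))
    have hψι : ∀ n w, ψ m (ι n w) = ψ (m ^ (n + 1)) w := by
      intro n w
      induction w with
      | zero => simp
      | tmul x a => simp [ψ, ι, mapRight]
      | add a b ha hb => simp only [map_add, ha, hb]
    have hmem : ∀ n : ℕ, ∃ w, ι n w = z := by
      intro n
      induction n with
      | zero =>
        refine ⟨mapRight (S := B) (Submodule.inclusion (by rw [zero_add, pow_one] : m ≤ m ^ (0 + 1))) z, ?_⟩
        clear hz hz'
        induction z with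
        | zero => simp
        | tmul x a =>
          simp only [ι, mapRight, AlgebraTensorModule.map_tmul, LinearMap.id_coe, id_eq]
          rfl
        | add a b ha hb => simp only [map_add, ha, hb]
      | succ n ih =>
        obtain ⟨w, rfl⟩ := ih
        rw [hψι] at hz'
        exact exists_lift_next m n (hle n) (hle (n + 1)) w (key _ w hz')
    refine (Submodule.mem_bot B).1 ?_
    rw [← Ideal.iInf_pow_smul_eq_bot_of_le_jacobson (M := M ⊗[A] m) (m.map (algebraMap A B))
      ((map_maximalIdeal_le _).trans (maximalIdeal_le_jacobson _)), Submodule.mem_iInf]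
    intro n
    obtain ⟨w, rfl⟩ := hmem n
    exact mapRight_inclusion_mem_pow_smul m n (hle n) w
  · letI : Field (A ⧸ m) := Ideal.Quotient.field m
    infer_instance

end Groth.Agent.FlatDepth
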