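import Groth.Agent.S18708
import Groth.Agent.Lib.FlatDepth.FibreIdeal
import Groth.Agent.Lib.FlatDepth.SkLocal
import Groth.Agent.Lib.FlatDepth.QuotLoc
import Mathlib

/-!
# The four term criterion at a point
-/

namespace Groth.Agent.FlatDepth

universe u

open IsLocalRing

variable {A B : Type u} [CommRing A] [CommRing B] [Algebra A B]

/-- Flatness of an iterated localization. -/
theorem flatAt_localized (M : Type u) [AddCommGroup M] [Module B M] [Module A M] [IsScalarTower A B M]
    (T : Submonoid B) (Q : Ideal (Localization T)) [Q.IsPrime]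
    (h : FlatCA.FlatAt A (Q.comap (algebraMap B (Localization T))) M) :
    Module.Flat A (LocalizedModule Q.primeCompl (LocalizedModule T M)) := by
  let q := Q.comap (algebraMap B (Localization T))
  haveI : IsLocalization.AtPrime (Localization.AtPrime Q) q :=
    IsLocalization.isLocalization_isLocalization_atPrime_isLocalization T (Localization.AtPrime Q) Q
  let g : M →ₗ[B] LocalizedModule Q.primeCompl (LocalizedModule T M) :=
    ((LocalizedModule.mkLinearMap Q.primeCompl (LocalizedModule T M)).restrictScalars B) ∘ₗ
      LocalizedModule.mkLinearMap T M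
  haveI : IsLocalizedModule q.primeCompl g := by
    rw [isLocalizedModule_iff_isBaseChange (S := q.primeCompl) (A := Localization.AtPrime Q)]
    exact (IsLocalizedModule.isBaseChange T (Localization T) (LocalizedModule.mkLinearMap T M)).comp
      (IsLocalizedModule.isBaseChange Q.primeCompl (Localization.AtPrime Q)
        (LocalizedModule.mkLinearMap Q.primeCompl (LocalizedModule T M)))
  haveI : Module.Flat A (LocalizedModule q.primeCompl M) := h
  exact Module.Flat.of_linearEquiv ((IsLocalizedModule.iso q.primeCompl g).restrictScalars A).symm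

variable [IsNoetherianRing B]

/-- Depth along `J B_q` of `(M/pM)_q` is read off from the fibre local modules. -/
theorem natCast_le_idealDepth_fibre_localized_iff (M : Type u) [AddCommGroup M] [Module B M]
    [Module.Finite B M] (J : Ideal B) (q : Ideal B) [q.IsPrime] (n : ℕ) :
    (n : ℕ∞) ≤ LocCoh.idealDepth (J.map (algebraMap B (Localization.AtPrime q)))
        (LocalizedModule q.primeCompl
          (M ⧸ (q.comap (algebraMap A B)).map (algebraMap A B) • (⊤ : Submodule B M))) ↔
      ∀ (q' : Ideal B) [q'.IsPrime], q' ≤ q → J ≤ q' →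
        q'.comap (algebraMap A B) = q.comap (algebraMap A B) →
        (n : ℕ∞) ≤ LocCoh.idealDepth (q'.map (algebraMap B (EGA4.FibLocRing A B q')))
          (EGA4.FibLocMod A B q' M) := by
  let p := q.comap (algebraMap A B)
  let X := M ⧸ p.map (algebraMap A B) • (⊤ : Submodule B M)
  have hX : ∀ (q' : Ideal B) [q'.IsPrime], q'.comap (algebraMap A B) = p →
      LocCoh.depth (Localization.AtPrime q') (LocalizedModule q'.primeCompl X) =
        LocCoh.idealDepth (q'.map (algebraMap B (EGA4.FibLocRing A B q'))) (EGA4.FibLocMod A B q' M) := by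
    intro q' _ hq'
    let e : LocalizedModule q'.primeCompl X ≃ₗ[Localization.AtPrime q'] EGA4.FibLocMod A B q' M :=
      (localizeQuotModEquiv M (p.map (algebraMap A B)) q'.primeCompl).trans
        (Submodule.quotEquivOfEq _ _ (by rw [hq', Ideal.map_map, ← IsScalarTower.algebraMap_eq]))
    rw [map_fibLocRing_eq_maximalIdeal, LocCoh.depth, DepthLib.idealDepth_congr e]
    exact depth_eq_of_surjective _ Ideal.Quotient.mk_surjective
  rw [DepthLib.natCast_le_idealDepth_iff_forall_localized (R := Localization.AtPrime q)
    (M := LocalizedModule q.primeCompl X) n]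
  constructor
  · intro h q' _ hle hJ hq'
    have hd : Disjoint (q.primeCompl : Set B) (q' : Set B) :=
      Set.disjoint_left.2 fun a ha ha' => ha (hle ha')
    haveI := IsLocalization.isPrime_of_isPrime_disjoint q.primeCompl (Localization.AtPrime q) q' ‹_› hd
    have hc := IsLocalization.comap_map_of_isPrime_disjoint q.primeCompl (Localization.AtPrime q) ‹q'.IsPrime› hd
    have h1 := h ⟨q'.map (algebraMap B (Localization.AtPrime q)), inferInstance⟩ (Ideal.map_mono hJ)
    rw [(invariants_localization_localization (M := X) q.primeCompl _).1] at h1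
    have key : ∀ (a b : Ideal B) [a.IsPrime] [b.IsPrime], a = b →
        (n : ℕ∞) ≤ LocCoh.depth (Localization.AtPrime a) (LocalizedModule a.primeCompl X) →
        (n : ℕ∞) ≤ LocCoh.depth (Localization.AtPrime b) (LocalizedModule b.primeCompl X) := by
      intro a b _ _ e h; subst e; exact h
    rw [← hX q' hq']
    exact key _ _ hc h1
  · intro h Q hQ
    rw [(invariants_localization_localization (M := X) q.primeCompl Q.asIdeal).1]
    have hle : Q.asIdeal.comap (algebraMap B (Localization.AtPrime q)) ≤ q := fun a ha => by
      by_contra hap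
      exact Q.2.ne_top (Ideal.eq_top_of_isUnit_mem _ ha
        (IsLocalization.map_units (Localization.AtPrime q) (⟨a, hap⟩ : q.primeCompl)))
    rcases subsingleton_or_nontrivial (LocalizedModule
      (Q.asIdeal.comap (algebraMap B (Localization.AtPrime q))).primeCompl X) with h0 | h0
    · exact le_top.trans_eq (DepthLib.idealDepth_of_smul_top_eq_top (Subsingleton.elim _ _)).symm
    · haveI hP : (Q.asIdeal.comap (algebraMap B (Localization.AtPrime q))).IsPrime := Ideal.IsPrime.comap _
      have hsupp := (Module.mem_support_iff
        (p := ⟨Q.asIdeal.comap (algebraMap B (Localization.AtPrime q)), hP⟩)).2 h0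
      rw [Module.support_quotient] at hsupp
      have heq : (Q.asIdeal.comap (algebraMap B (Localization.AtPrime q))).comap (algebraMap A B) = p :=
        le_antisymm (Ideal.comap_mono hle) (Ideal.map_le_iff_le_comap.1 hsupp.2)
      rw [hX _ heq]
      exact h _ hle (Ideal.map_le_iff_le_comap.1 hQ) heq

variable [IsNoetherianRing A]

/-- The four term criterion at `q`. -/
theorem fourTerm_at (J : Ideal B) (q : Ideal B) [q.IsPrime]
    {F E0 E1 G : Type u} [AddCommGroup F] [Module B F] [Module A F] [IsScalarTower A B F] [Module.Finite B F]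
    [AddCommGroup E0] [Module B E0] [Module A E0] [IsScalarTower A B E0] [Module.Finite B E0] [Module.Flat A E0]
    [AddCommGroup E1] [Module B E1] [Module A E1] [IsScalarTower A B E1] [Module.Finite B E1] [Module.Flat A E1]
    [AddCommGroup G] [Module B G] [Module A G] [IsScalarTower A B G] [Module.Finite B G]
    (f : F →ₗ[B] E0) (u : E0 →ₗ[B] E1) (v : E1 →ₗ[B] G)
    (hf : Function.Injective f) (hfu : Function.Exact f u) (huv : Function.Exact u v) (hv : Function.Surjective v)
    (hGU : ∀ q : PrimeSpectrum B, ¬ J ≤ q.asIdeal → FlatCA.FlatAt A q.asIdeal G)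
    (h0 : ∀ q : PrimeSpectrum B, J ≤ q.asIdeal →
      2 ≤ LocCoh.idealDepth (q.asIdeal.map (algebraMap B (EGA4.FibLocRing A B q.asIdeal))) (EGA4.FibLocMod A B q.asIdeal E0))
    (h1 : ∀ q : PrimeSpectrum B, J ≤ q.asIdeal →
      1 ≤ LocCoh.idealDepth (q.asIdeal.map (algebraMap B (EGA4.FibLocRing A B q.asIdeal))) (EGA4.FibLocMod A B q.asIdeal E1)) :
    (FlatCA.FlatAt A q G ↔ ∀ (q' : Ideal B) [q'.IsPrime], q' ≤ q → J ≤ q' →
        q'.comap (algebraMap A B) = q.comap (algebraMap A B) →
        2 ≤ LocCoh.idealDepth (q'.map (algebraMap B (EGA4.FibLocRing A B q'))) (EGA4.FibLocMod A B q' F)) ∧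
      (FlatCA.FlatAt A q G → FlatCA.FlatAt A q F) := by
  let p := q.comap (algebraMap A B)
  haveI : q.LiesOver p := ⟨rfl⟩
  letI := Localization.AtPrime.algebraOfLiesOver p q
  haveI : IsScalarTower A (Localization.AtPrime p) (Localization.AtPrime q) :=
    .of_algebraMap_eq fun a => by
      rw [show algebraMap (Localization.AtPrime p) (Localization.AtPrime q) =
        Localization.localRingHom p q (algebraMap A B) rfl from rfl,
        Localization.localRingHom_to_map, ← IsScalarTower.algebraMap_apply]
  haveI : IsLocalHom (algebraMap (Localization.AtPrime p) (Localization.AtPrime q)) :=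
    Localization.isLocalHom_localRingHom p q (algebraMap A B) rfl
  letI mF : Module (Localization.AtPrime p) (LocalizedModule q.primeCompl F) :=
    Module.compHom _ (algebraMap (Localization.AtPrime p) (Localization.AtPrime q))
  letI m0 : Module (Localization.AtPrime p) (LocalizedModule q.primeCompl E0) :=
    Module.compHom _ (algebraMap (Localization.AtPrime p) (Localization.AtPrime q))
  letI m1 : Module (Localization.AtPrime p) (LocalizedModule q.primeCompl E1) :=
    Module.compHom _ (algebraMap (Localization.AtPrime p) (Localization.AtPrime q))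
  letI mG : Module (Localization.AtPrime p) (LocalizedModule q.primeCompl G) :=
    Module.compHom _ (algebraMap (Localization.AtPrime p) (Localization.AtPrime q))
  haveI : IsScalarTower (Localization.AtPrime p) (Localization.AtPrime q) (LocalizedModule q.primeCompl F) :=
    IsScalarTower.of_algebraMap_smul fun _ _ => rfl
  haveI : IsScalarTower (Localization.AtPrime p) (Localization.AtPrime q) (LocalizedModule q.primeCompl E0) :=
    IsScalarTower.of_algebraMap_smul fun _ _ => rfl
  haveI : IsScalarTower (Localization.AtPrime p) (Localization.AtPrime q) (LocalizedModule q.primeCompl E1) :=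
    IsScalarTower.of_algebraMap_smul fun _ _ => rfl
  haveI : IsScalarTower (Localization.AtPrime p) (Localization.AtPrime q) (LocalizedModule q.primeCompl G) :=
    IsScalarTower.of_algebraMap_smul fun _ _ => rfl
  have tower : ∀ (N : Type u) [AddCommGroup N] [Module B N] [Module A N] [IsScalarTower A B N]
      [Module (Localization.AtPrime p) (LocalizedModule q.primeCompl N)]
      [IsScalarTower (Localization.AtPrime p) (Localization.AtPrime q) (LocalizedModule q.primeCompl N)],
      IsScalarTower A (Localization.AtPrime p) (LocalizedModule q.primeCompl N) := fun N _ _ _ _ _ _ =>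
    IsScalarTower.of_algebraMap_smul fun a z => by
      rw [← algebraMap_smul (Localization.AtPrime q), ← IsScalarTower.algebraMap_apply, algebraMap_smul]
  haveI := tower F
  haveI := tower E0
  haveI := tower E1
  haveI := tower G
  haveI : Module.Flat (Localization.AtPrime p) (LocalizedModule q.primeCompl E0) :=
    (Module.flat_iff_of_isLocalization (Localization.AtPrime p) p.primeCompl _).2
      (flat_localizedModule_of_flat E0 _)
  haveI : Module.Flat (Localization.AtPrime p) (LocalizedModule q.primeCompl E1) :=
    (Module.flat_iff_of_isLocalization (Localization.AtPrime p) p.primeCompl _).2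
      (flat_localizedModule_of_flat E1 _)
  let J' := J.map (algebraMap B (Localization.AtPrime q))
  have hI : EGA4.mB (Localization.AtPrime p) (Localization.AtPrime q) =
      (p.map (algebraMap A B)).map (algebraMap B (Localization.AtPrime q)) := by
    rw [EGA4.mB, ← Localization.AtPrime.map_eq_maximalIdeal, Ideal.map_map, Ideal.map_map,
      ← IsScalarTower.algebraMap_eq, ← IsScalarTower.algebraMap_eq]
  have hdep : ∀ (N : Type u) [AddCommGroup N] [Module B N] [Module.Finite B N] (k : ℕ),
      (k : ℕ∞) ≤ LocCoh.idealDepth J'
          (EGA4.FibMod (Localization.AtPrime p) (Localization.AtPrime q) (LocalizedModule q.primeCompl N)) ↔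
      ∀ (q' : Ideal B) [q'.IsPrime], q' ≤ q → J ≤ q' →
        q'.comap (algebraMap A B) = q.comap (algebraMap A B) →
        (k : ℕ∞) ≤ LocCoh.idealDepth (q'.map (algebraMap B (EGA4.FibLocRing A B q')))
          (EGA4.FibLocMod A B q' N) := by
    intro N _ _ _ k
    rw [← natCast_le_idealDepth_fibre_localized_iff]
    exact iff_of_eq (congrArg (fun d => (k : ℕ∞) ≤ d) (DepthLib.idealDepth_congr
      ((localizeQuotModEquiv N (p.map (algebraMap A B)) q.primeCompl).trans
        (Submodule.quotEquivOfEq _ _ (by rw [hI]))).symm))
  have hU : ∀ Q : PrimeSpectrum (Localization.AtPrime q), ¬ J' ≤ Q.asIdeal →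
      FlatCA.FlatAt (Localization.AtPrime p) Q.asIdeal (LocalizedModule q.primeCompl G) := fun Q hQ =>
    (Module.flat_iff_of_isLocalization (Localization.AtPrime p) p.primeCompl _).2
      (flatAt_localized G q.primeCompl Q.asIdeal (hGU ⟨_, Ideal.IsPrime.comap _⟩
        fun h => hQ (Ideal.map_le_iff_le_comap.2 h)))
  have h := Groth.Agent.S18708.result (Localization.AtPrime p) (Localization.AtPrime q) J'
    (LocalizedModule q.primeCompl F) (LocalizedModule q.primeCompl E0)
    (LocalizedModule q.primeCompl E1) (LocalizedModule q.primeCompl G)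
    (LocalizedModule.map q.primeCompl f) (LocalizedModule.map q.primeCompl u)
    (LocalizedModule.map q.primeCompl v) (LocalizedModule.map_injective _ _ hf)
    (LocalizedModule.map_exact _ _ _ hfu) (LocalizedModule.map_exact _ _ _ huv)
    (LocalizedModule.map_surjective _ _ hv) hU
    (by exact_mod_cast (hdep E0 2).2 fun q' _ _ hJ _ => by exact_mod_cast h0 ⟨q', ‹_›⟩ hJ)
    (by exact_mod_cast (hdep E1 1).2 fun q' _ _ hJ _ => by exact_mod_cast h1 ⟨q', ‹_›⟩ hJ)
  have hG := Module.flat_iff_of_isLocalization (Localization.AtPrime p) p.primeCompl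
    (LocalizedModule q.primeCompl G)
  refine ⟨?_, fun hGq => (Module.flat_iff_of_isLocalization (Localization.AtPrime p) p.primeCompl _).1
    (h.2.2 (hG.2 hGq))⟩
  refine hG.symm.trans (h.1.symm.trans ?_)
  exact_mod_cast hdep F 2

end Groth.Agent.FlatDepth
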