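import Groth.Agent.Lib.FlatDepth.SkOpen
import Groth.Agent.Lib.ClosedAlong.Criteria
import Mathlib

/-!
# Depth and dimension along `V(p)`: the equalities
-/

namespace Groth.Agent.FlatDepth

universe u

open IsLocalRing Pointwise

variable {A : Type u} [CommRing A] [IsNoetherianRing A]

omit [IsNoetherianRing A] in
/-- `(A/I)_q = A_q / I A_q`. -/
noncomputable def quotientAtEquiv (I q : Ideal A) [q.IsPrime] :
    LocalizedModule q.primeCompl (A ⧸ I) ≃ₗ[Localization.AtPrime q]
      Localization.AtPrime q ⧸ I.map (algebraMap A (Localization.AtPrime q)) :=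
  (IsLocalizedModule.mapEquiv q.primeCompl (LocalizedModule.mkLinearMap q.primeCompl _)
    (LocalizedModule.mkLinearMap q.primeCompl _) (Localization.AtPrime q)
    (Submodule.quotEquivOfEq I (I • (⊤ : Submodule A A)) (by simp))).trans
    ((localizeQuotModEquiv A I q.primeCompl).trans
      (Submodule.Quotient.equiv _ _
        ((IsLocalizedModule.iso q.primeCompl (Algebra.linearMap A (Localization.AtPrime q))).extendScalarsOfIsLocalization
          q.primeCompl (Localization.AtPrime q))
        (by rw [Submodule.map_smul'', Submodule.map_top, LinearEquiv.range]; simp)))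

theorem depthAt_ne_top {M : Type u} [AddCommGroup M] [Module A M] [Module.Finite A M] (q : Ideal A) [q.IsPrime]
    [Nontrivial (LocalizedModule q.primeCompl M)] : depthAt q M ≠ ⊤ := by
  obtain ⟨n, hn⟩ := DepthLib.exists_depth_eq_natCast (R := Localization.AtPrime q) (M := LocalizedModule q.primeCompl M)
  rw [depthAt, hn]
  exact ENat.natCast_ne_top n

variable (p : Ideal A) [p.IsPrime]

/-- `depth M_q ≤ depth M_p + depth (A/p)_q` near `p`. -/
theorem exists_depth_le_add (M : Type u) [AddCommGroup M] [Module A M] [Module.Finite A M]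
    [Nontrivial (LocalizedModule p.primeCompl M)] :
    ∃ g ∉ p, ∀ (q : Ideal A) [q.IsPrime], p ≤ q → g ∉ q →
      depthAt q M ≤ depthAt p M + depthAt q (A ⧸ p) := by
  obtain ⟨d, hd⟩ := DepthLib.exists_depth_eq_natCast (R := Localization.AtPrime p) (M := LocalizedModule p.primeCompl M)
  change depthAt p M = d at hd
  clear * - hd
  induction d generalizing M with
  | zero =>
    have hass : p ∈ associatedPrimes A M := by
      by_contra h
      have h1 := ClosedAlong.one_le_depth_of_notMem_associatedPrimes (M := M) p h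
      change 1 ≤ depthAt p M at h1
      rw [hd, Nat.cast_zero] at h1
      exact absurd h1 (by simp)
    obtain ⟨-, m, hm⟩ := isAssociatedPrime_iff.1 hass
    let ι : (A ⧸ p) →ₗ[A] M := Submodule.liftQ p (LinearMap.toSpanSingleton A M m) fun a ha => by
      rw [hm, Submodule.mem_colon_singleton, Submodule.mem_bot] at ha
      exact LinearMap.mem_ker.2 ha
    have hι : Function.Injective ι := by
      rw [← LinearMap.ker_eq_bot, Submodule.ker_liftQ_eq_bot]
      intro a ha
      rw [hm, Submodule.mem_colon_singleton, Submodule.mem_bot]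
      exact LinearMap.mem_ker.1 ha
    obtain ⟨g, hg, hg'⟩ := exists_bound p (M ⧸ LinearMap.range ι)
    refine ⟨g, hg, fun q _ hle hq => ?_⟩
    have h3 := (DepthLib.idealDepth_shortExact (I := maximalIdeal (Localization.AtPrime q))
      (DepthLib.shortExact_of_linearMap
        (f := LocalizedModule.map q.primeCompl ι) (g := LocalizedModule.map q.primeCompl (LinearMap.range ι).mkQ)
        (LocalizedModule.map_injective q.primeCompl ι hι)
        (LocalizedModule.map_surjective q.primeCompl _ (Submodule.mkQ_surjective _))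
        (LocalizedModule.map_exact q.primeCompl ι (LinearMap.range ι).mkQ
          (LinearMap.exact_iff.2 (Submodule.ker_mkQ _))))).2.2
    change min (depthAt q M) (depthAt q (M ⧸ LinearMap.range ι) + 1) ≤ depthAt q (A ⧸ p) at h3
    haveI : Nontrivial (LocalizedModule q.primeCompl (A ⧸ p)) :=
      Module.mem_support_iff.1 (show (⟨q, ‹_›⟩ : PrimeSpectrum A) ∈ Module.support A (A ⧸ p) by
        rw [Module.support_eq_zeroLocus, Ideal.annihilator_quotient, PrimeSpectrum.mem_zeroLocus]
        exact hle)
    have hlt : depthAt q (A ⧸ p) < depthAt q (M ⧸ LinearMap.range ι) + 1 :=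
      (ENat.lt_add_one_iff (depthAt_ne_top q)).2 le_rfl |>.trans_le (by gcongr; exact (hg' q hle hq).1)
    rw [hd, Nat.cast_zero, zero_add]
    exact (min_le_iff.1 h3).resolve_right (not_le.2 hlt)
  | succ d ih =>
    have hne : maximalIdeal (Localization.AtPrime p) • (⊤ : Submodule (Localization.AtPrime p)
        (LocalizedModule p.primeCompl M)) ≠ ⊤ := fun h => by
      rw [depthAt, LocCoh.depth, DepthLib.idealDepth_of_smul_top_eq_top h] at hd
      exact ENat.natCast_ne_top _ hd.symm
    obtain ⟨x', hx', hreg'⟩ := DepthLib.exists_isSMulRegular_of_one_le_idealDepth hne (by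
      show 1 ≤ depthAt p M
      rw [hd]; exact_mod_cast Nat.succ_le_succ (Nat.zero_le d))
    obtain ⟨⟨a, s⟩, has⟩ := IsLocalization.surj p.primeCompl x'
    have hap : a ∈ p := by
      refine (IsLocalization.AtPrime.to_map_mem_maximal_iff (Localization.AtPrime p) p a).1 ?_
      rw [← has]; exact Ideal.mul_mem_right _ _ hx'
    have hreg : IsSMulRegular (LocalizedModule p.primeCompl M) (algebraMap A (Localization.AtPrime p) a) := by
      rw [← has]
      exact hreg'.mul ((IsLocalization.map_units _ s).isSMulRegular _)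
    obtain ⟨g₁, hg₁, hg₁'⟩ := exists_regular_nhd p a hreg
    have hd' : depthAt p (QuotSMulTop a M) = d := by
      have := depthAt_quotSMulTop p hap hreg
      rw [hd, Nat.cast_succ] at this
      exact ENat.add_left_injective_of_ne_top ENat.one_ne_top this
    haveI : Nontrivial (LocalizedModule p.primeCompl (QuotSMulTop a M)) := by
      by_contra h
      haveI := not_nontrivial_iff_subsingleton.1 h
      rw [depthAt_eq_top p (M := QuotSMulTop a M)] at hd'
      exact ENat.natCast_ne_top _ hd'.symm
    obtain ⟨g₂, hg₂, hg₂'⟩ := ih (QuotSMulTop a M) hd'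
    refine ⟨g₁ * g₂, fun hm => (Ideal.IsPrime.mem_or_mem ‹_› hm).elim hg₁ hg₂, fun q _ hle hq => ?_⟩
    rw [hd, Nat.cast_succ, add_right_comm, ← hd',
      ← depthAt_quotSMulTop q (hle hap) (isSMulRegular_at q hg₁' fun h => hq (q.mul_mem_right _ h))]
    gcongr
    exact hg₂' q hle fun h => hq (q.mul_mem_left _ h)

/-- `dim M_p + dim (A/p)_q ≤ dim M_q`. -/
theorem dimAt_add_le (M : Type u) [AddCommGroup M] [Module A M] [Module.Finite A M]
    [Nontrivial (LocalizedModule p.primeCompl M)] (q : Ideal A) [q.IsPrime] (hle : p ≤ q) :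
    dimAt p M + dimAt q (A ⧸ p) ≤ dimAt q M := by
  have hd : Disjoint (q.primeCompl : Set A) (p : Set A) :=
    Set.disjoint_left.2 fun a ha ha' => ha (hle ha')
  haveI := IsLocalization.isPrime_of_isPrime_disjoint q.primeCompl (Localization.AtPrime q) p ‹_› hd
  have hc := IsLocalization.under_map_of_isPrime_disjoint q.primeCompl (Localization.AtPrime q) ‹p.IsPrime› hd
  let P := p.map (algebraMap A (Localization.AtPrime q))
  have key : ∀ (a b : Ideal A) [a.IsPrime] [b.IsPrime], a = b → dimAt a M = dimAt b M := by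
    intro a b _ _ e; subst e; rfl
  obtain ⟨-, e2⟩ := invariants_localization_localization (M := M) q.primeCompl P
  have e2' : dimAt P (LocalizedModule q.primeCompl M) = dimAt p M := e2.trans (key _ _ hc)
  have hP : (⟨P, inferInstance⟩ : PrimeSpectrum (Localization.AtPrime q)) ∈
      Module.support (Localization.AtPrime q) (LocalizedModule q.primeCompl M) := by
    refine Module.mem_support_iff.2 ?_
    rw [← Module.supportDim_ne_bot_iff_nontrivial (Localization.AtPrime P)]
    change dimAt P (LocalizedModule q.primeCompl M) ≠ ⊥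
    rw [e2', dimAt, Module.supportDim_ne_bot_iff_nontrivial]
    infer_instance
  have h5 := DepthLib.supportDim_localizedModule_add_le P hP
  change dimAt P (LocalizedModule q.primeCompl M) + _ ≤ dimAt q M at h5
  rw [e2', ← Module.supportDim_quotient_eq_ringKrullDim,
    ← Module.supportDim_eq_of_equiv (quotientAtEquiv p q)] at h5
  exact h5

/-- Along `V(I)`, `I` having prime radical. -/
theorem exists_invariants_add (M : Type u) [AddCommGroup M] [Module A M] [Module.Finite A M] (I : Ideal A)
    (hI : I.radical = p) [Nontrivial (LocalizedModule p.primeCompl M)] :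
    ∃ g ∉ p, ∀ (q : Ideal A) [q.IsPrime], I ≤ q → g ∉ q →
      dimAt q M = dimAt p M + dimAt q (A ⧸ I) ∧ depthAt q M = depthAt p M + depthAt q (A ⧸ I) := by
  have hIp : I ≤ p := hI ▸ Ideal.le_radical
  haveI : Nontrivial (LocalizedModule p.primeCompl (A ⧸ I)) :=
    Module.mem_support_iff.1 (show (⟨p, ‹_›⟩ : PrimeSpectrum A) ∈ Module.support A (A ⧸ I) by
      rw [Module.support_eq_zeroLocus, Ideal.annihilator_quotient, PrimeSpectrum.mem_zeroLocus]
      exact hIp)
  have hdim0 : dimAt p (A ⧸ I) = 0 := by
    have hsub : Subsingleton (Module.support (Localization.AtPrime p) (LocalizedModule p.primeCompl (A ⧸ I))) := by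
      refine ⟨fun a b => Subtype.ext ?_⟩
      have hall : ∀ c : Module.support (Localization.AtPrime p) (LocalizedModule p.primeCompl (A ⧸ I)),
          (PrimeSpectrum.comap (algebraMap A (Localization.AtPrime p)) c.1).asIdeal = p := by
        intro c
        have hmem := DepthLib.mem_support_comap p c.2
        rw [Module.support_eq_zeroLocus, Ideal.annihilator_quotient, PrimeSpectrum.mem_zeroLocus] at hmem
        refine le_antisymm ((Ideal.comap_mono (le_maximalIdeal c.1.2.ne_top)).trans
          (Localization.AtPrime.under_maximalIdeal).le) ?_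
        refine hI.symm.trans_le ?_
        exact (PrimeSpectrum.comap (algebraMap A (Localization.AtPrime p)) c.1).2.radical_le_iff.2 hmem
      exact PrimeSpectrum.localization_comap_injective _ p.primeCompl
        (PrimeSpectrum.ext ((hall a).trans (hall b).symm))
    haveI : Nonempty (Module.support (Localization.AtPrime p) (LocalizedModule p.primeCompl (A ⧸ I))) :=
      (Module.nonempty_support_of_nontrivial (R := Localization.AtPrime p)).to_subtype
    rw [dimAt, Module.supportDim]
    exact Order.krullDim_eq_zero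
  have hdep0 : depthAt p (A ⧸ I) = 0 := by
    have := DepthLib.depth_le_supportDim (R := Localization.AtPrime p) (M := LocalizedModule p.primeCompl (A ⧸ I))
    change (depthAt p (A ⧸ I) : WithBot ℕ∞) ≤ dimAt p (A ⧸ I) at this
    rw [hdim0] at this
    exact nonpos_iff_eq_zero.1 (WithBot.coe_le_coe.1 this)
  obtain ⟨g₁, hg₁, H₁⟩ := exists_depth_add_le p M
  obtain ⟨g₂, hg₂, H₂⟩ := exists_depth_le_add p M
  obtain ⟨g₃, hg₃, H₃⟩ := exists_dim_le_add p M
  obtain ⟨g₄, hg₄, H₄⟩ := exists_depth_add_le p (A ⧸ I)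
  obtain ⟨g₅, hg₅, H₅⟩ := exists_depth_le_add p (A ⧸ I)
  obtain ⟨g₆, hg₆, H₆⟩ := exists_dim_le_add p (A ⧸ I)
  refine ⟨g₁ * g₂ * g₃ * g₄ * g₅ * g₆, ?_, fun q _ hIq hq => ?_⟩
  · intro h
    rcases (Ideal.IsPrime.mem_or_mem ‹_› h) with h | h
    · rcases (Ideal.IsPrime.mem_or_mem ‹_› h) with h | h
      · rcases (Ideal.IsPrime.mem_or_mem ‹_› h) with h | h
        · rcases (Ideal.IsPrime.mem_or_mem ‹_› h) with h | h
          · exact (Ideal.IsPrime.mem_or_mem ‹_› h).elim hg₁ hg₂
          · exact hg₃ h
        · exact hg₄ h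
      · exact hg₅ h
    · exact hg₆ h
  have hle : p ≤ q := hI ▸ ‹q.IsPrime›.radical_le_iff.2 hIq
  have n6 : g₆ ∉ q := fun h => hq (Ideal.mul_mem_left _ _ h)
  have n15 : g₁ * g₂ * g₃ * g₄ * g₅ ∉ q := fun h => hq (Ideal.mul_mem_right _ _ h)
  have n5 : g₅ ∉ q := fun h => n15 (Ideal.mul_mem_left _ _ h)
  have n14 : g₁ * g₂ * g₃ * g₄ ∉ q := fun h => n15 (Ideal.mul_mem_right _ _ h)
  have n4 : g₄ ∉ q := fun h => n14 (Ideal.mul_mem_left _ _ h)
  have n13 : g₁ * g₂ * g₃ ∉ q := fun h => n14 (Ideal.mul_mem_right _ _ h)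
  have n3 : g₃ ∉ q := fun h => n13 (Ideal.mul_mem_left _ _ h)
  have n12 : g₁ * g₂ ∉ q := fun h => n13 (Ideal.mul_mem_right _ _ h)
  have hA1 : depthAt q (A ⧸ I) = depthAt q (A ⧸ p) :=
    le_antisymm ((H₅ q hle n5).trans (by rw [hdep0, zero_add]))
      ((le_of_eq (by rw [hdep0, zero_add])).trans (H₄ q hle n4))
  have hA2 : dimAt q (A ⧸ I) = dimAt q (A ⧸ p) :=
    le_antisymm ((H₆ q hle n6).trans (by rw [hdim0, zero_add]))
      ((le_of_eq (by rw [hdim0, zero_add])).trans (dimAt_add_le p (A ⧸ I) q hle))
  rw [hA1, hA2]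
  exact ⟨le_antisymm (H₃ q hle n3) (dimAt_add_le p M q hle),
    le_antisymm (H₂ q hle fun h => n12 (Ideal.mul_mem_left _ _ h))
      (H₁ q hle fun h => n12 (Ideal.mul_mem_right _ _ h))⟩

end Groth.Agent.FlatDepth
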