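import Groth.Agent.Lib.FlatDepth.FlatOff
import Groth.Agent.Lib.Depth.Devissage
import Mathlib

/-!
# Depth of infinitesimal neighbourhoods of the closed fibre of a flat module
-/

namespace Groth.Agent.FlatDepth

universe u

open TensorProduct IsLocalRing

variable {A B : Type u} [CommRing A] [CommRing B] [Algebra A B] [IsLocalRing A] [IsNoetherianRing A]
  [IsNoetherianRing B]
variable {M : Type u} [AddCommGroup M] [Module B M] [Module A M] [IsScalarTower A B M] [Module.Finite B M]
  [Module.Flat A M]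

theorem idealDepth_tensor_quot_pow (J : Ideal B) (d : ℕ)
    (h : (d : ℕ∞) ≤ LocCoh.idealDepth J (M ⊗[A] (A ⧸ maximalIdeal A))) (n : ℕ) :
    (d : ℕ∞) ≤ LocCoh.idealDepth J (M ⊗[A] (A ⧸ maximalIdeal A ^ (n + 1))) := by
  let m := maximalIdeal A
  induction n with
  | zero =>
    let e : (A ⧸ maximalIdeal A ^ (0 + 1)) ≃ₗ[A] (A ⧸ maximalIdeal A) :=
      Submodule.quotEquivOfEq _ _ (by rw [zero_add, pow_one])
    rwa [DepthLib.idealDepth_congr (AlgebraTensorModule.congr (LinearEquiv.refl B M) e)]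
  | succ n ih =>
    let X : Submodule A ↥(m ^ (n + 1)) := m • ⊤
    obtain ⟨r, ⟨e⟩⟩ : ∃ r : ℕ, Nonempty ((↥(m ^ (n + 1)) ⧸ X) ≃ₗ[A] (Fin r → A ⧸ m)) := by
      let := Ideal.Quotient.field m
      have : Module.Finite (A ⧸ m) (↥(m ^ (n + 1)) ⧸ X) := Module.Finite.of_restrictScalars_finite A _ _
      exact ⟨_, ⟨(Module.finBasis (A ⧸ m) (↥(m ^ (n + 1)) ⧸ X)).equivFun.restrictScalars A⟩⟩
    let j₀ : ↥(m ^ (n + 1)) →ₗ[A] A ⧸ m ^ (n + 1 + 1) := (m ^ (n + 1 + 1)).mkQ ∘ₗ (m ^ (n + 1)).subtype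
    have hX : LinearMap.ker j₀ = X := by
      refine Submodule.map_injective_of_injective (m ^ (n + 1)).injective_subtype ?_
      rw [LinearMap.ker_comp, Submodule.ker_mkQ, Submodule.map_comap_subtype, Submodule.map_smul'',
        Submodule.map_top, Submodule.range_subtype, Ideal.smul_eq_mul, ← pow_succ']
      exact inf_eq_right.2 (Ideal.pow_le_pow_right (Nat.le_succ _))
    let j : (↥(m ^ (n + 1)) ⧸ X) →ₗ[A] A ⧸ m ^ (n + 1 + 1) := X.liftQ j₀ hX.ge
    have hj : Function.Injective j :=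
      LinearMap.ker_eq_bot.1 (Submodule.ker_liftQ_eq_bot _ _ _ hX.le)
    let π : (A ⧸ m ^ (n + 1 + 1)) →ₗ[A] A ⧸ m ^ (n + 1) :=
      Submodule.factor (Ideal.pow_le_pow_right (Nat.le_succ _))
    have hπ : Function.Surjective π := Submodule.factor_surjective _
    have hjπ : Function.Exact j π := by
      intro y
      obtain ⟨a, rfl⟩ := Submodule.mkQ_surjective _ y
      have hker : π (Submodule.mkQ _ a) = 0 ↔ a ∈ m ^ (n + 1) := Submodule.Quotient.mk_eq_zero _
      rw [hker]
      constructor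
      · exact fun ha => ⟨Submodule.Quotient.mk ⟨a, ha⟩, rfl⟩
      · rintro ⟨v, hv⟩
        obtain ⟨b, rfl⟩ := Submodule.mkQ_surjective _ v
        have h' : (b : A) - a ∈ m ^ (n + 1 + 1) := (Submodule.Quotient.eq _).1 hv
        have := Ideal.sub_mem _ b.2 (Ideal.pow_le_pow_right (Nat.le_succ (n + 1)) h')
        simpa using this
    have hS := DepthLib.shortExact_of_linearMap
      (f := mapRight (S := B) (N := M) j) (g := mapRight (S := B) (N := M) π)
      (mapRight_injective hj)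
      (fun z => by
        obtain ⟨w, hw⟩ := π.lTensor_surjective M hπ z
        exact ⟨w, (mapRight_apply π w).trans hw⟩)
      (fun z => by
        rw [mapRight_apply]
        refine (lTensor_exact M hjπ hπ z).trans ⟨?_, ?_⟩
        · rintro ⟨w, rfl⟩; exact ⟨w, mapRight_apply j w⟩
        · rintro ⟨w, rfl⟩; exact ⟨w, (mapRight_apply j w).symm⟩)
    refine le_trans (le_min ?_ ih) (DepthLib.idealDepth_shortExact (I := J) hS).1
    change _ ≤ LocCoh.idealDepth J (M ⊗[A] (↥(m ^ (n + 1)) ⧸ X))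
    rw [DepthLib.idealDepth_congr ((AlgebraTensorModule.congr (LinearEquiv.refl B M) e).trans
      (TensorProduct.piRight A B M _))]
    exact h.trans (DepthLib.idealDepth_le_pi J r)

end Groth.Agent.FlatDepth
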