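import Groth.Agent.Lib.FlatH4.InjCrit
import Groth.Agent.Lib.Depth.More
import Mathlib

/-!
# Tensor products over the base of modules flat over it: regular elements and quotients
-/

namespace Groth.Agent.FlatDepth

universe u

open TensorProduct IsLocalRing
open scoped Pointwise

variable {R S : Type u} [CommRing R] [CommRing S] [Algebra R S]
variable {N : Type u} [AddCommGroup N] [Module S N] [Module R N] [IsScalarTower R S N]
variable {M : Type u} [AddCommGroup M] [Module R M]

/-- The functorial `S`-linear map on the left factor. -/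
noncomputable def mapLeft {N' : Type u} [AddCommGroup N'] [Module S N'] [Module R N']
    [IsScalarTower R S N'] (π : N →ₗ[S] N') : N ⊗[R] M →ₗ[S] N' ⊗[R] M :=
  AlgebraTensorModule.map π LinearMap.id

/-- The functorial `S`-linear map on the right factor. -/
noncomputable def mapRight {M' : Type u} [AddCommGroup M'] [Module R M'] (π : M →ₗ[R] M') :
    N ⊗[R] M →ₗ[S] N ⊗[R] M' :=
  AlgebraTensorModule.map LinearMap.id π

theorem mapLeft_apply {N' : Type u} [AddCommGroup N'] [Module S N'] [Module R N']
    [IsScalarTower R S N'] (π : N →ₗ[S] N') (z : N ⊗[R] M) :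
    mapLeft π z = (π.restrictScalars R).rTensor M z := by
  induction z with
  | zero => simp
  | tmul n m => simp [mapLeft]
  | add a b ha hb => simp [map_add, ha, hb]

theorem mapRight_apply {M' : Type u} [AddCommGroup M'] [Module R M'] (π : M →ₗ[R] M')
    (z : N ⊗[R] M) : mapRight (S := S) π z = π.lTensor N z := by
  induction z with
  | zero => simp
  | tmul n m => simp [mapRight]
  | add a b ha hb => simp [map_add, ha, hb]

theorem mapRight_injective [Module.Flat R N] {M' : Type u} [AddCommGroup M'] [Module R M']
    {π : M →ₗ[R] M'} (hπ : Function.Injective π) :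
    Function.Injective (mapRight (S := S) (N := N) π) := fun a b h => by
  rw [mapRight_apply, mapRight_apply] at h
  exact Module.Flat.lTensor_preserves_injective_linearMap _ hπ h

theorem lsmul_eq_mapLeft (x : S) (z : N ⊗[R] M) :
    x • z = mapLeft (LinearMap.lsmul S N x) z := by
  induction z with
  | zero => simp
  | tmul n m => simp [mapLeft, TensorProduct.smul_tmul']
  | add a b ha hb => simp [map_add, smul_add, ha, hb]

theorem exact_smul_mkQ {A L : Type u} [CommRing A] [AddCommGroup L] [Module A L] (y : A) :
    Function.Exact (LinearMap.lsmul A L y) (y • (⊤ : Submodule A L)).mkQ := fun z => by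
  rw [Submodule.mkQ_apply, Submodule.Quotient.mk_eq_zero, Submodule.mem_smul_pointwise_iff_exists]
  simp

theorem ker_mapLeft {N' : Type u} [AddCommGroup N'] [Module S N'] [Module R N'] [IsScalarTower R S N']
    (π : N →ₗ[S] N') (x : S) (hs : Function.Surjective π)
    (hex : Function.Exact (LinearMap.lsmul S N x) π) :
    LinearMap.ker (mapLeft (R := R) (M := M) π) = x • (⊤ : Submodule S (N ⊗[R] M)) := by
  have hex' : Function.Exact ((LinearMap.lsmul S N x).restrictScalars R) (π.restrictScalars R) := hex
  ext z
  rw [LinearMap.mem_ker, mapLeft_apply, rTensor_exact M hex' hs z,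
    Submodule.mem_smul_pointwise_iff_exists]
  simp only [Submodule.mem_top, true_and, lsmul_eq_mapLeft, mapLeft_apply, Set.mem_range]

theorem mapLeft_surjective {N' : Type u} [AddCommGroup N'] [Module S N'] [Module R N']
    [IsScalarTower R S N'] {π : N →ₗ[S] N'} (hs : Function.Surjective π) :
    Function.Surjective (mapLeft (R := R) (M := M) π) := fun y => by
  obtain ⟨z, hz⟩ := (π.restrictScalars R).rTensor_surjective M hs y
  exact ⟨z, (mapLeft_apply π z).trans hz⟩

/-- `(N / x N) ⊗ M` is the quotient of `N ⊗ M` by `x`. -/
noncomputable def quotLeftEquiv (x : S) :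
    QuotSMulTop x (N ⊗[R] M) ≃ₗ[S] (QuotSMulTop x N) ⊗[R] M :=
  (Submodule.quotEquivOfEq _ _
      (ker_mapLeft _ x (Submodule.mkQ_surjective _) (exact_smul_mkQ x)).symm).trans
    ((mapLeft (x • (⊤ : Submodule S N)).mkQ).quotKerEquivOfSurjective
      (mapLeft_surjective (Submodule.mkQ_surjective _)))

/-- `N ⊗ (M / y M)` is the quotient of `N ⊗ M` by `y`. -/
noncomputable def quotRightEquiv (y : R) :
    QuotSMulTop (algebraMap R S y) (N ⊗[R] M) ≃ₗ[S] N ⊗[R] (QuotSMulTop y M) :=
  let π : M →ₗ[R] QuotSMulTop y M := (y • (⊤ : Submodule R M)).mkQ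
  have hs : Function.Surjective (mapRight (S := S) (N := N) π) := fun z => by
    obtain ⟨w, hw⟩ := π.lTensor_surjective N (Submodule.mkQ_surjective _) z
    exact ⟨w, (mapRight_apply π w).trans hw⟩
  have hk : LinearMap.ker (mapRight (S := S) (N := N) π) =
      (algebraMap R S y) • (⊤ : Submodule S (N ⊗[R] M)) := by
    have h : ∀ w : N ⊗[R] M, (LinearMap.lsmul R M y).lTensor N w = algebraMap R S y • w := by
      intro w
      rw [algebraMap_smul]
      induction w with
      | zero => simp
      | tmul n m => simp
      | add a b ha hb => simp [map_add, smul_add, ha, hb]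
    ext z
    rw [LinearMap.mem_ker, mapRight_apply,
      lTensor_exact N (exact_smul_mkQ y) (Submodule.mkQ_surjective _) z,
      Submodule.mem_smul_pointwise_iff_exists]
    simp only [Submodule.mem_top, true_and, h, Set.mem_range]
  (Submodule.quotEquivOfEq _ _ hk.symm).trans ((mapRight (S := S) π).quotKerEquivOfSurjective hs)

theorem isSMulRegular_right [Module.Flat R N] {y : R} (hy : IsSMulRegular M y) :
    IsSMulRegular (N ⊗[R] M) (algebraMap R S y) := by
  intro a b h
  simp only [algebraMap_smul] at h
  refine Module.Flat.lTensor_preserves_injective_linearMap (M := N) (LinearMap.lsmul R M y) hy ?_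
  have hm : ∀ w : N ⊗[R] M, (LinearMap.lsmul R M y).lTensor N w = y • w := by
    intro w
    induction w with
    | zero => simp
    | tmul n m => simp
    | add a b ha hb => simp [map_add, smul_add, ha, hb]
  rw [hm, hm]
  exact h

instance finite_tensor [Module.Finite S N] [Module.Finite R M] : Module.Finite S (N ⊗[R] M) := by
  obtain ⟨n, v, hv⟩ := Module.Finite.exists_fin (R := S) (M := N)
  obtain ⟨m, w, hw⟩ := Module.Finite.exists_fin (R := R) (M := M)
  refine Module.Finite.of_fg (Submodule.fg_iff_exists_fin_generating_family.2 ?_) |>.equiv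
    Submodule.topEquiv
  refine ⟨n * m, fun k => v (finProdFinEquiv.symm k).1 ⊗ₜ w (finProdFinEquiv.symm k).2, top_le_iff.1 ?_⟩
  intro z hz
  clear hz
  induction z with
  | zero => exact Submodule.zero_mem _
  | add a b ha hb => exact Submodule.add_mem _ ha hb
  | tmul a b =>
    have ha : a ∈ Submodule.span S (Set.range v) := hv ▸ trivial
    induction ha using Submodule.span_induction with
    | mem a ha =>
      obtain ⟨i, rfl⟩ := ha
      have hb : b ∈ Submodule.span R (Set.range w) := hw ▸ trivial
      induction hb using Submodule.span_induction with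
      | mem b hb =>
        obtain ⟨j, rfl⟩ := hb
        exact Submodule.subset_span ⟨finProdFinEquiv (i, j), by simp⟩
      | zero => simp
      | add b c _ _ h1 h2 => rw [tmul_add]; exact Submodule.add_mem _ h1 h2
      | smul r b _ h1 =>
        rw [tmul_smul, ← algebraMap_smul S r]
        exact Submodule.smul_mem _ _ h1
    | zero => simp
    | add a c _ _ h1 h2 => rw [add_tmul]; exact Submodule.add_mem _ h1 h2
    | smul s a _ h1 => rw [← TensorProduct.smul_tmul']; exact Submodule.smul_mem _ _ h1

end Groth.Agent.FlatDepth
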