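import Groth.Agent.Lib.FlatDepth.AtPrime
import Groth.Agent.Lib.FlatDepth.SkLocal
import Groth.Agent.Lib.Depth.SkOps
import Mathlib

/-!
# `(S_k)` of `F ⊗ E` for `F` flat over the base
-/

namespace Groth.Agent.FlatDepth

universe u

open TensorProduct IsLocalRing

/-- `(S_k)` of a local ring gives the inequality at the closed point. -/
theorem min_le_depth_of_hasSk {R : Type u} [CommRing R] [IsLocalRing R] {M : Type u} [AddCommGroup M]
    [Module R M] [Module.Finite R M] {k : ℕ} (h : LocCoh.HasSk k R M) :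
    min (k : WithBot ℕ∞) (Module.supportDim R M) ≤ ((LocCoh.depth R M : ℕ∞) : WithBot ℕ∞) := by
  have hu : (maximalIdeal R).primeCompl ≤ IsUnit.submonoid R := fun a ha => by
    by_contra hau
    exact ha ((mem_maximalIdeal a).2 hau)
  haveI : IsLocalization.AtPrime R (maximalIdeal R) := IsLocalization.self hu
  haveI : IsLocalizedModule (maximalIdeal R).primeCompl (LinearMap.id : M →ₗ[R] M) :=
    isLocalizedModule_id (maximalIdeal R).primeCompl M R
  obtain ⟨h1, h2⟩ := invariants_congr_localization (maximalIdeal R) R M (LinearMap.id : M →ₗ[R] M)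
  rw [h1, h2]
  exact h (maximalIdeal R)

variable {A B : Type u} [CommRing A] [CommRing B] [Algebra A B] [IsNoetherianRing A] [IsNoetherianRing B]
variable {F : Type u} [AddCommGroup F] [Module B F] [Module A F] [IsScalarTower A B F] [Module.Finite B F]
variable {E : Type u} [AddCommGroup E] [Module A E] [Module.Finite A E]

theorem nontrivial_factors {q : Ideal B} [q.IsPrime]
    (h : Nontrivial (LocalizedModule q.primeCompl (F ⊗[A] E))) :
    Nontrivial (LocalizedModule q.primeCompl F) ∧
      Nontrivial (LocalizedModule (q.comap (algebraMap A B)).primeCompl E) := by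
  obtain ⟨h1, h2⟩ := (mem_support_tensor_iff (R := A) (N := F) (M := E) ⟨q, inferInstance⟩).1
    (Module.mem_support_iff.2 h)
  exact ⟨Module.mem_support_iff.1 h1, Module.mem_support_iff.1 h2⟩

variable [Module.Flat A F]

theorem min_le_depth_tensor (k : ℕ) (q : Ideal B) [q.IsPrime]
    (hf : min (k : WithBot ℕ∞) (Module.supportDim (EGA4.FibLocRing A B q) (EGA4.FibLocMod A B q F)) ≤
      ((LocCoh.depth (EGA4.FibLocRing A B q) (EGA4.FibLocMod A B q F) : ℕ∞) : WithBot ℕ∞))
    (hE : min (k : WithBot ℕ∞) (Module.supportDim (Localization.AtPrime (q.comap (algebraMap A B)))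
        (LocalizedModule (q.comap (algebraMap A B)).primeCompl E)) ≤
      ((LocCoh.depth (Localization.AtPrime (q.comap (algebraMap A B)))
        (LocalizedModule (q.comap (algebraMap A B)).primeCompl E) : ℕ∞) : WithBot ℕ∞)) :
    min (k : WithBot ℕ∞)
        (Module.supportDim (Localization.AtPrime q) (LocalizedModule q.primeCompl (F ⊗[A] E))) ≤
      ((LocCoh.depth (Localization.AtPrime q) (LocalizedModule q.primeCompl (F ⊗[A] E)) : ℕ∞) :
        WithBot ℕ∞) := by
  rcases subsingleton_or_nontrivial (LocalizedModule q.primeCompl (F ⊗[A] E)) with h | h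
  · rw [Module.supportDim_eq_bot_of_subsingleton]; simp
  obtain ⟨hF, hE'⟩ := nontrivial_factors h
  obtain ⟨hd, hdim⟩ := atPrime_invariants (A := A) F E q
  obtain ⟨hW, hdim⟩ := hdim hF hE'
  haveI : Module.Finite (EGA4.FibLocRing A B q) (EGA4.FibLocMod A B q F) :=
    Module.Finite.of_restrictScalars_finite (Localization.AtPrime q) _ _
  obtain ⟨d, hd'⟩ := DepthLib.exists_supportDim_eq_natCast (R := Localization.AtPrime (q.comap (algebraMap A B)))
    (M := LocalizedModule (q.comap (algebraMap A B)).primeCompl E)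
  obtain ⟨e, he⟩ := DepthLib.exists_supportDim_eq_natCast (R := EGA4.FibLocRing A B q)
    (M := EGA4.FibLocMod A B q F)
  obtain ⟨a, ha⟩ := DepthLib.exists_depth_eq_natCast (R := Localization.AtPrime (q.comap (algebraMap A B)))
    (M := LocalizedModule (q.comap (algebraMap A B)).primeCompl E)
  obtain ⟨b, hb⟩ := DepthLib.exists_depth_eq_natCast (R := EGA4.FibLocRing A B q)
    (M := EGA4.FibLocMod A B q F)
  rw [hd', ha, DepthLib.cast_min_le_iff] at hE
  rw [he, hb, DepthLib.cast_min_le_iff] at hf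
  rw [hd, hdim, hd', he, ha, hb, ← Nat.cast_add, ← Nat.cast_add, DepthLib.cast_min_le_iff]
  omega

/-- Over every prime of the base below `q` there is a point of `supp F` below `q` which is maximal
in its fibre. -/
theorem exists_fibre_generic (q : PrimeSpectrum B) (hq : q ∈ Module.support B F) (p : PrimeSpectrum A)
    (hp : p.asIdeal ≤ q.asIdeal.comap (algebraMap A B)) :
    ∃ q' : PrimeSpectrum B, q' ≤ q ∧ q' ∈ Module.support B F ∧
      PrimeSpectrum.comap (algebraMap A B) q' = p ∧
      Module.supportDim (EGA4.FibLocRing A B q'.asIdeal) (EGA4.FibLocMod A B q'.asIdeal F) ≤ 0 := by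
  obtain ⟨Q, hQq, hQF, hQc⟩ := exists_le_mem_support hq hp
  let s : Set (PrimeSpectrum B) :=
    {Q' | Q' ≤ q ∧ Q' ∈ Module.support B F ∧ PrimeSpectrum.comap (algebraMap A B) Q' = p}
  obtain ⟨Q', hQ', hmin⟩ := (InvImage.wf (fun Q' : PrimeSpectrum B => Q'.asIdeal.height)
    wellFounded_lt).has_min s ⟨Q, hQq, hQF, hQc⟩
  refine ⟨Q', hQ'.1, hQ'.2.1, hQ'.2.2, ?_⟩
  haveI : Module.Finite (EGA4.FibLocRing A B Q'.asIdeal) (EGA4.FibLocMod A B Q'.asIdeal F) :=
    Module.Finite.of_restrictScalars_finite (Localization.AtPrime Q'.asIdeal) _ _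
  rw [← supportDim_eq_of_surjective (A := Localization.AtPrime Q'.asIdeal)
    (EGA4.FibLocMod A B Q'.asIdeal F) Ideal.Quotient.mk_surjective]
  refine Order.krullDim_nonpos_iff_forall_isMax.2 fun P P' hle => ?_
  change P'.1 ≤ P.1
  suffices h : P.1.asIdeal = maximalIdeal _ by
    change P'.1.asIdeal ≤ P.1.asIdeal
    rw [h]; exact le_maximalIdeal P'.1.2.ne_top
  obtain ⟨hP1, hP2⟩ := (Set.ext_iff.1 (Module.support_quotient _) P.1).1 P.2
  let P₀ := PrimeSpectrum.comap (algebraMap B (Localization.AtPrime Q'.asIdeal)) P.1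
  have h0 : P₀ ∈ Module.support B F := DepthLib.mem_support_comap Q'.asIdeal hP1
  have hle0 : P₀ ≤ Q' := fun a ha => by
    by_contra hap
    exact P.1.2.ne_top (Ideal.eq_top_of_isUnit_mem _ ha
      (IsLocalization.map_units (Localization.AtPrime Q'.asIdeal) (⟨a, hap⟩ : Q'.asIdeal.primeCompl)))
  have hc : PrimeSpectrum.comap (algebraMap A B) P₀ = p := by
    refine PrimeSpectrum.ext (le_antisymm (fun a ha => ?_) fun a ha => ?_)
    · rw [← hQ'.2.2]; exact hle0 ha
    · change algebraMap B _ (algebraMap A B a) ∈ P.1.asIdeal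
      rw [← IsScalarTower.algebraMap_apply]
      refine hP2 (Ideal.mem_map_of_mem _ ?_)
      rw [← hQ'.2.2] at ha
      exact ha
  have he : P₀ = Q' := by
    by_contra hne
    have hlt : P₀.asIdeal < Q'.asIdeal := lt_of_le_of_ne hle0 fun h => hne (PrimeSpectrum.ext h)
    exact hmin P₀ ⟨hle0.trans hQ'.1, h0, hc⟩ (Ideal.height_strict_mono_of_isPrime hlt)
  refine le_antisymm (le_maximalIdeal P.1.2.ne_top) ?_
  rw [← Localization.AtPrime.map_eq_maximalIdeal]
  refine Ideal.map_le_iff_le_comap.2 ?_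
  change Q'.asIdeal ≤ P₀.asIdeal
  rw [he]

theorem hasSkAt_base (k : ℕ) (q : PrimeSpectrum B) (hq : q ∈ Module.support B F)
    (h : EGA4.HasSkAt k B (F ⊗[A] E) q.asIdeal) :
    EGA4.HasSkAt k A E (q.asIdeal.comap (algebraMap A B)) := by
  rw [hasSkAt_iff] at h ⊢
  intro p' hp'prime hp'
  obtain ⟨q', hq'q, hq'F, hq'c, hfib⟩ := exists_fibre_generic q hq ⟨p', hp'prime⟩ hp'
  obtain rfl : q'.asIdeal.comap (algebraMap A B) = p' := congrArg PrimeSpectrum.asIdeal hq'c
  rcases subsingleton_or_nontrivial (LocalizedModule (q'.asIdeal.comap (algebraMap A B)).primeCompl E)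
    with hE | hE
  · rw [Module.supportDim_eq_bot_of_subsingleton]; simp
  obtain ⟨hd, hdim⟩ := atPrime_invariants (A := A) F E q'.asIdeal
  obtain ⟨hW, hdim⟩ := hdim (Module.mem_support_iff.1 hq'F) hE
  haveI : Module.Finite (EGA4.FibLocRing A B q'.asIdeal) (EGA4.FibLocMod A B q'.asIdeal F) :=
    Module.Finite.of_restrictScalars_finite (Localization.AtPrime q'.asIdeal) _ _
  have h1 := h q'.asIdeal hq'q
  have h0 : Module.supportDim (EGA4.FibLocRing A B q'.asIdeal) (EGA4.FibLocMod A B q'.asIdeal F) = 0 :=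
    le_antisymm hfib (by
      obtain ⟨e, he⟩ := DepthLib.exists_supportDim_eq_natCast (R := EGA4.FibLocRing A B q'.asIdeal)
        (M := EGA4.FibLocMod A B q'.asIdeal F)
      rw [he]; exact_mod_cast Nat.zero_le e)
  have hd0 : LocCoh.depth (EGA4.FibLocRing A B q'.asIdeal) (EGA4.FibLocMod A B q'.asIdeal F) = 0 :=
    nonpos_iff_eq_zero.1 (WithBot.coe_le_coe.1 (DepthLib.depth_le_supportDim.trans hfib))
  rw [hd, hdim, h0, hd0, add_zero, add_zero] at h1
  exact h1

end Groth.Agent.FlatDepth
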